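import Groth.Agent.Desc19b.QDesc.Glue
import Groth.Prelude.Def_StMod

/-! Sections of quasi-coherent modules on a category over schemes: base change and descent. -/

set_option autoImplicit false
set_option backward.isDefEq.respectTransparency false
set_option backward.isDefEq.respectTransparency.types false
set_option linter.style.haveILetI false

universe w v u

open CategoryTheory CategoryTheory.Limits AlgebraicGeometry Opposite TopologicalSpace TensorProduct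
open Groth.Agent.Coherent Groth.Agent.PicLib Groth.Agent.Desc19b.QDesc
open StMod

namespace Groth.Agent.TameGood19

variable {S : Scheme.{u}} {𝒳 : BasedCategory.{v, w} (Over S)}

/-- The comparison morphism out of the pullback. -/
noncomputable def theta (F : Mod 𝒳) {ξ' ξ : 𝒳.obj} (φ : ξ' ⟶ ξ) {g : sch 𝒳 ξ' ⟶ sch 𝒳 ξ} (hg : bmap 𝒳 φ = g) :
    (Scheme.Modules.pullback g).obj (F.obj ξ) ⟶ F.obj ξ' :=
  ((Scheme.Modules.pullbackPushforwardAdjunction g).homEquiv (F.obj ξ) (F.obj ξ')).symm (F.map φ hg)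

theorem theta_app_pullSec (F : Mod 𝒳) {ξ' ξ : 𝒳.obj} (φ : ξ' ⟶ ξ) {g : sch 𝒳 ξ' ⟶ sch 𝒳 ξ} (hg : bmap 𝒳 φ = g)
    (U : (sch 𝒳 ξ).Opens) (m : Γ(F.obj ξ, U)) :
    (theta F φ hg).app (g ⁻¹ᵁ U) (pullSec g m) = (F.map φ hg).app U m := by
  have e : F.map φ hg = (Scheme.Modules.pullbackPushforwardAdjunction g).homEquiv _ _ (theta F φ hg) :=
    (Equiv.apply_symm_apply _ _).symm
  rw [Adjunction.homEquiv_unit] at e
  exact (congr(($e).app U m)).symm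

theorem theta_app_pl (F : Mod 𝒳) {ξ' ξ : 𝒳.obj} (φ : ξ' ⟶ ξ) (m : Γ(F.obj ξ, ⊤)) :
    (theta F φ rfl).app ⊤ (pl (bmap 𝒳 φ) (F.obj ξ) (top_le _) m) = F.mapTop φ m := by
  rw [pl_apply, app_resM, theta_app_pullSec]
  exact resM_refl _ _

theorem theta_bijective (F : QCoh 𝒳) {ξ' ξ : 𝒳.obj} (φ : ξ' ⟶ ξ) {g : sch 𝒳 ξ' ⟶ sch 𝒳 ξ} (hg : bmap 𝒳 φ = g) :
    Function.Bijective ((theta F.obj φ hg).app ⊤) := by
  haveI : IsIso (theta F.obj φ hg) := F.property.1 φ hg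
  exact ConcreteCategory.bijective_of_isIso _

theorem theta_comp (F : Mod 𝒳) {ξ'' ξ' ξ : 𝒳.obj} (ψ : ξ'' ⟶ ξ') (φ : ξ' ⟶ ξ) {h : sch 𝒳 ξ'' ⟶ sch 𝒳 ξ'}
    {g : sch 𝒳 ξ' ⟶ sch 𝒳 ξ} (hh : bmap 𝒳 ψ = h) (hg : bmap 𝒳 φ = g) :
    (Scheme.Modules.pullback h).map (theta F φ hg) ≫ theta F ψ hh =
      mcI g h (h ≫ g) rfl (F.obj ξ) ≫ theta F (ψ ≫ φ) (g := h ≫ g) (by rw [bmap_comp, hh, hg]) := by
  apply ((Scheme.Modules.pullbackPushforwardAdjunction h).homEquiv _ _).injective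
  refine pullback_hom_ext g fun U m => ?_
  rw [Adjunction.homEquiv_unit, Adjunction.homEquiv_unit]
  show (theta F ψ hh).app (h ⁻¹ᵁ (g ⁻¹ᵁ U)) (((Scheme.Modules.pullback h).map (theta F φ hg)).app _
      (pullSec h (pullSec g m))) =
    (theta F (ψ ≫ φ) (g := h ≫ g) _).app (h ⁻¹ᵁ (g ⁻¹ᵁ U)) ((mcI g h (h ≫ g) rfl _).app _
      (pullSec h (pullSec g m)))
  rw [← pl_self h, ← pl_self g, app_pl, mcI_app_pl, pl_self, pl_self, theta_app_pullSec]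
  rw [theta_app_pullSec]
  refine Eq.trans ?_ (congrArg ((theta F (ψ ≫ φ) _).app (h ⁻¹ᵁ g ⁻¹ᵁ U)) (pl_self (h ≫ g) (F.obj ξ) U m)).symm
  refine Eq.trans ?_ (theta_app_pullSec F (ψ ≫ φ) (g := h ≫ g) (by rw [bmap_comp, hh, hg]) U m).symm
  rw [Mod.map_comp_app F ψ φ hh hg]
  rfl

theorem mapTop_theta (F : Mod 𝒳) {ξ'' ξ' ξ : 𝒳.obj} (ψ : ξ'' ⟶ ξ') (φ : ξ' ⟶ ξ)
    (x : Γ((Scheme.Modules.pullback (bmap 𝒳 φ)).obj (F.obj ξ), ⊤)) :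
    F.mapTop ψ ((theta F φ rfl).app ⊤ x) =
      (theta F (ψ ≫ φ) (g := bmap 𝒳 ψ ≫ bmap 𝒳 φ) (bmap_comp ψ φ)).app ⊤
        (tr₀ (bmap 𝒳 φ) (bmap 𝒳 ψ) (bmap 𝒳 ψ ≫ bmap 𝒳 φ) rfl (F.obj ξ) x) := by
  rw [← theta_app_pl F ψ, ← app_pl (bmap 𝒳 ψ), tr₀_eq]
  exact congr(($(theta_comp F ψ φ (h := bmap 𝒳 ψ) (g := bmap 𝒳 φ) rfl rfl)).app ⊤
    (pl (bmap 𝒳 ψ) _ (top_le _) x))

theorem theta_app_tr₀_congr (F : Mod 𝒳) {ξ'' ξ' ξ : 𝒳.obj} {φ : ξ' ⟶ ξ} {χ χ' : ξ'' ⟶ ξ} (eχ : χ = χ')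
    {h : sch 𝒳 ξ'' ⟶ sch 𝒳 ξ'} {k k' : sch 𝒳 ξ'' ⟶ sch 𝒳 ξ} (ek : k = k') (hk : bmap 𝒳 χ = k)
    (hk' : bmap 𝒳 χ' = k') (hh : h ≫ bmap 𝒳 φ = k) (x : Γ((Scheme.Modules.pullback (bmap 𝒳 φ)).obj (F.obj ξ), ⊤)) :
    (theta F χ hk).app ⊤ (tr₀ (bmap 𝒳 φ) h k hh (F.obj ξ) x) =
      (theta F χ' hk').app ⊤ (tr₀ (bmap 𝒳 φ) h k' (hh.trans ek) (F.obj ξ) x) := by
  subst eχ ek
  rfl

/-- A flat surjective cover by one morphism, quasi-compact on affines. -/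
theorem cov_single {W T : Scheme.{u}} (c : W ⟶ T) [Flat c] [LocallyOfFinitePresentation c] [Surjective c] :
    Cov (fun _ : PUnit.{u + 1} => c) := by
  refine cov_of_fpqc (T := fun _ : PUnit.{u + 1} => W) (fun _ => c) ?_
  refine Scheme.fppfPrecoverage_le_fpqcPrecoverage T ?_
  rw [Scheme.fppfPrecoverage, Scheme.ofArrows_mem_precoverage_iff]
  exact ⟨fun x => ⟨⟨⟩, c.surjective x⟩, fun _ => ⟨inferInstance, inferInstance⟩⟩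

/-- Descent of sections along a cover by one morphism of the category. -/
theorem existsUnique_mapTop (F : QCoh 𝒳) {ζ ξ' ξ : 𝒳.obj} (n : ξ' ⟶ ξ) (q₁ q₂ : ζ ⟶ ξ') (hq : q₁ ≫ n = q₂ ≫ n)
    [Flat (bmap 𝒳 n)] [LocallyOfFinitePresentation (bmap 𝒳 n)] [Surjective (bmap 𝒳 n)]
    (sq : IsPullback (bmap 𝒳 q₁) (bmap 𝒳 q₂) (bmap 𝒳 n) (bmap 𝒳 n))
    (t : Γ(F.obj.obj ξ', ⊤)) (ht : F.obj.mapTop q₁ t = F.obj.mapTop q₂ t) :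
    ∃! s, F.obj.mapTop n s = t := by
  haveI : Coh.IsQCoh (F.obj.obj ξ) := F.property.2 ξ
  obtain ⟨x, rfl⟩ := (theta_bijective F n rfl).2 t
  have hw : bmap 𝒳 q₁ ≫ bmap 𝒳 n = bmap 𝒳 q₂ ≫ bmap 𝒳 n := sq.w
  have hcompat : tr₀ (bmap 𝒳 n) (bmap 𝒳 q₁) (bmap 𝒳 q₁ ≫ bmap 𝒳 n) rfl (F.obj.obj ξ) x =
      tr₀ (bmap 𝒳 n) (bmap 𝒳 q₂) (bmap 𝒳 q₁ ≫ bmap 𝒳 n) hw.symm (F.obj.obj ξ) x := by
    apply (theta_bijective F (q₁ ≫ n) (bmap_comp q₁ n)).1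
    rw [← mapTop_theta, ht, mapTop_theta, theta_app_tr₀_congr F.obj hq.symm hw.symm _ (bmap_comp q₁ n)]
  have hgl := existsUnique_glue (g := fun _ : PUnit.{u + 1} => bmap 𝒳 n) (F.obj.obj ξ) (cov_single _) (fun _ => x)
    fun _ _ => by
      let e : pullback (bmap 𝒳 n) (bmap 𝒳 n) ⟶ sch 𝒳 ζ := sq.lift (pullback.fst _ _) (pullback.snd _ _) pullback.condition
      have h1 : e ≫ bmap 𝒳 q₁ = pullback.fst _ _ := sq.lift_fst _ _ _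
      have h2 : e ≫ bmap 𝒳 q₂ = pullback.snd _ _ := sq.lift_snd _ _ _
      have he := congrArg (tr₀ (bmap 𝒳 q₁ ≫ bmap 𝒳 n) e (pullback.fst (bmap 𝒳 n) (bmap 𝒳 n) ≫ bmap 𝒳 n)
        (by rw [← h1, Category.assoc]) (F.obj.obj ξ)) hcompat
      rw [tr₀_tr₀, tr₀_tr₀, tr₀_congr (bmap 𝒳 n) h1 _, tr₀_congr (bmap 𝒳 n) h2 _] at he
      exact he
  obtain ⟨s, hs, huniq⟩ := hgl
  refine ⟨s, ?_, fun s' hs' => huniq s' fun _ => (theta_bijective F n rfl).1 ?_⟩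
  · show F.obj.mapTop n s = _
    rw [← theta_app_pl, hs ⟨⟩]
  · show (theta F.obj n rfl).app ⊤ (pl (bmap 𝒳 n) _ _ s') = _
    rw [theta_app_pl]
    exact hs'

/-- Sections over an affine base change are generated by pulled back ones. -/
theorem bc_induction (F : QCoh 𝒳) {ξ' ξ : 𝒳.obj} (φ : ξ' ⟶ ξ) [IsAffine (sch 𝒳 ξ)] [IsAffine (sch 𝒳 ξ')]
    {p : Γ(F.obj.obj ξ', ⊤) → Prop} (hadd : ∀ a b, p a → p b → p (a + b))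
    (hsmul : ∀ (s : Γ(sch 𝒳 ξ', ⊤)) m, p (s • F.obj.mapTop φ m)) : ∀ t, p t := by
  intro t
  haveI : Coh.IsQCoh (F.obj.obj ξ) := F.property.2 ξ
  obtain ⟨x, rfl⟩ := (theta_bijective F φ rfl).2 t
  obtain ⟨w, hw⟩ := (bijective_bcMap (bmap 𝒳 φ) (F.obj.obj ξ)).2 ⟨x⟩
  obtain rfl : (bcMap (bmap 𝒳 φ) (F.obj.obj ξ) w).val = x := congrArg Sec.val hw
  clear hw
  induction w using TensorProduct.induction_on with
  | zero =>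
    rw [map_zero, Sec.val_zero, map_zero]
    simpa using hsmul 0 0
  | tmul s m =>
    rw [bcMap_tmul, Sec.val_fn_smul, Scheme.Modules.Hom.app_smul, theta_app_pl]
    exact hsmul _ m
  | add a b ha hb =>
    rw [map_add, Sec.val_add, map_add]
    exact hadd _ _ ha hb

/-- A retraction of functions extends to sections. -/
theorem exists_retract (F : QCoh 𝒳) {ξ' ξ : 𝒳.obj} (φ : ξ' ⟶ ξ) [IsAffine (sch 𝒳 ξ)] [IsAffine (sch 𝒳 ξ')]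
    (lam : Γ(sch 𝒳 ξ', ⊤) → Γ(sch 𝒳 ξ, ⊤)) (hadd : ∀ a b, lam (a + b) = lam a + lam b)
    (hmul : ∀ r a, lam ((bmap 𝒳 φ).appTop r * a) = r * lam a) :
    ∃ Φ : Γ(F.obj.obj ξ', ⊤) →+ Γ(F.obj.obj ξ, ⊤), ∀ s m, Φ (s • F.obj.mapTop φ m) = lam s • m := by
  haveI : Coh.IsQCoh (F.obj.obj ξ) := F.property.2 ξ
  let L : Fn (bmap 𝒳 φ) →ₗ[Γ(sch 𝒳 ξ, ⊤)] Γ(sch 𝒳 ξ, ⊤) :=
    { toFun := fun s => lam s
      map_add' := hadd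
      map_smul' := hmul }
  let T : Fn (bmap 𝒳 φ) ⊗[Γ(sch 𝒳 ξ, ⊤)] Γ(F.obj.obj ξ, ⊤) →ₗ[Γ(sch 𝒳 ξ, ⊤)] Γ(F.obj.obj ξ, ⊤) :=
    TensorProduct.lift ((LinearMap.lsmul _ _).comp L)
  let c : Fn (bmap 𝒳 φ) ⊗[Γ(sch 𝒳 ξ, ⊤)] Γ(F.obj.obj ξ, ⊤) → Γ(F.obj.obj ξ', ⊤) :=
    fun w => (theta F.obj φ rfl).app ⊤ (bcMap (bmap 𝒳 φ) (F.obj.obj ξ) w).val
  have hc : Function.Bijective c :=
    (theta_bijective F φ rfl).comp (Sec.val_bijective.comp (bijective_bcMap _ _))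
  let e : Fn (bmap 𝒳 φ) ⊗[Γ(sch 𝒳 ξ, ⊤)] Γ(F.obj.obj ξ, ⊤) ≃+ Γ(F.obj.obj ξ', ⊤) :=
    { Equiv.ofBijective c hc with
      map_add' := fun a b => by
        show c (a + b) = c a + c b
        simp only [c, map_add, Sec.val_add] }
  refine ⟨T.toAddMonoidHom.comp e.symm.toAddMonoidHom, fun s m => ?_⟩
  have he : e ((show Fn (bmap 𝒳 φ) from s) ⊗ₜ m) = s • F.obj.mapTop φ m := by
    show c _ = _
    simp only [c, bcMap_tmul, Sec.val_fn_smul, Scheme.Modules.Hom.app_smul, theta_app_pl]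
  show T (e.symm (s • F.obj.mapTop φ m)) = _
  rw [← he, AddEquiv.symm_apply_apply]
  exact TensorProduct.lift.tmul _ _

end Groth.Agent.TameGood19
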