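import Groth.Agent.TameGood19.Setup

/-! `[Spec B/G] ⟶ Spec B^G` is cohomologically affine for a tame action. -/

set_option autoImplicit false
set_option backward.isDefEq.respectTransparency false
set_option backward.isDefEq.respectTransparency.types false
set_option linter.style.haveILetI false
set_option linter.unusedSectionVars false
set_option maxHeartbeats 400000

universe u

open CategoryTheory CategoryTheory.Limits AlgebraicGeometry MonoidalCategory CartesianMonoidalCategory MonObj GrpObj Opposite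
open CoactBr Groth.Agent.Stk19b.QuotTriv Groth.Agent.HopfLib.SpPoints
open scoped TensorProduct

noncomputable section

namespace Groth.Agent.TameGood19

attribute [local instance] Stk19b.Quot.hasIsos_fppf

variable {R A B : Type u} [CommRing R] [CommRing A] [HopfAlgebra R A]
  [CommRing B] [Algebra R B] [HopfRep.Comod R A B] [GLin.IsCoactAlg R A B]
  {K : Type u} [CommRing K] [Algebra R K]

/-- Sections with equal pullbacks along the projection and the action do not distinguish morphisms over the base. -/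
theorem mapTop_eq_of_invariant {E : Over (Spec (CommRingCat.of R))} {yb : B →ₐ[R] K} (ab : K →ₐ[R] A ⊗[R] K)
    (k : sp R K ⟶ E)
    (hk : pt ab ≫ k = pt (Algebra.TensorProduct.includeRight : K →ₐ[R] A ⊗[R] K) ≫ k)
    (hx : smulPt (action R A B) (pt (Algebra.TensorProduct.includeLeft : A →ₐ[R] A ⊗[R] K))⁻¹
      (pt ab ≫ pt yb) = pt (ext1 A yb))
    (hext : ∀ {T : Over (Spec (CommRingCat.of R))} (a b : T ⟶ sp R K),
      a ≫ pt yb = b ≫ pt yb → a ≫ k = b ≫ k → a = b)
    (F : StMod.QCoh (QS R A B)) (m : Γ(F.obj.obj (tz A yb), ⊤))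
    (hm : F.obj.mapTop (jHom yb) m = F.obj.mapTop (actHom ab hx) m)
    {W : Over (Spec (CommRingCat.of R))} (y : W ⟶ sp R B)
    (f₁ f₂ : triv Scheme.fppfPrecoverage (action R A B) y ⟶ tz A yb) (b₁ b₂ : W ⟶ sp R K) (hb₁ : f₁.base = b₁)
    (hb₂ : f₂.base = b₂) (hbk : b₁ ≫ k = b₂ ≫ k) :
    F.obj.mapTop f₁ m = F.obj.mapTop f₂ m := by
  obtain ⟨g₁, hg₁, e₁⟩ := exists_eq_tHom f₁ hb₁
  obtain ⟨g₂, hg₂, e₂⟩ := exists_eq_tHom f₂ hb₂
  haveI := Misc15.AffinePoints.isIso_Q (R := R) A K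
  let c : W ⟶ sp R (A ⊗[R] K) := lift (g₂⁻¹ * g₁) b₁ ≫ inv (Misc15.AffinePoints.Q A K)
  have hc : c ≫ Misc15.AffinePoints.Q A K = lift (g₂⁻¹ * g₁) b₁ :=
    (Category.assoc _ _ _).trans ((congrArg (_ ≫ ·) (IsIso.inv_hom_id _)).trans (Category.comp_id _))
  have hcl : c ≫ pt (Algebra.TensorProduct.includeLeft : A →ₐ[R] A ⊗[R] K) = g₂⁻¹ * g₁ := by
    have := congrArg (· ≫ fst (sp R A) (sp R K)) hc
    simpa [Misc15.AffinePoints.Q] using this
  have hcr : c ≫ pt (Algebra.TensorProduct.includeRight : K →ₐ[R] A ⊗[R] K) = b₁ := by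
    have := congrArg (· ≫ snd (sp R A) (sp R K)) hc
    simpa [Misc15.AffinePoints.Q] using this
  have hce : c ≫ pt (ext1 A yb) = b₁ ≫ pt yb := by rw [pt_comp, ← Category.assoc, hcr]
  have hca : c ≫ pt ab = b₂ := by
    apply hext
    · rw [Category.assoc]
      have e := congrArg (fun p => smulPt (action R A B) (c ≫ pt (Algebra.TensorProduct.includeLeft : A →ₐ[R] A ⊗[R] K))
        (c ≫ p)) hx
      simp only [comp_smulPt, GrpObj.comp_inv, smulPt_smul_inv] at e
      rw [e, hce, hcl, smulPt_mul, hg₁, ← hg₂, smulPt_inv_smul]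
    · rw [Category.assoc, hk, ← Category.assoc, hcr, hbk]
  have hC : smulPt (action R A B) g₁ (c ≫ pt (ext1 A yb)) = y := by rw [hce, hg₁]
  obtain ⟨hj, ej⟩ := tHom_comp (K := Scheme.fppfPrecoverage) (aX := action R A B) hC
    (show smulPt (action R A B) 1 (pt Algebra.TensorProduct.includeRight ≫ pt yb) = pt (ext1 A yb) by
      rw [smulPt_one, ← pt_comp])
  obtain ⟨ha, ea⟩ := tHom_comp (K := Scheme.fppfPrecoverage) (aX := action R A B) hC hx
  have h₁ : tHom y (pt (ext1 A yb)) c g₁ hC ≫ jHom yb = f₁ := by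
    rw [e₁]
    exact ej.trans (tHom_congr _ _ hcr (by rw [MonObj.comp_one, _root_.mul_one]))
  have h₂ : tHom y (pt (ext1 A yb)) c g₁ hC ≫ actHom ab hx = f₂ := by
    rw [e₂]
    exact ea.trans (tHom_congr _ _ hca
      (by rw [GrpObj.comp_inv, hcl, _root_.mul_inv_rev, _root_.inv_inv, mul_inv_cancel_left]))
  rw [← h₁, ← h₂, StMod.Mod.mapTop_comp, StMod.Mod.mapTop_comp, hm]

variable [Module.Flat R A] [Algebra.FinitePresentation R A]

theorem isCohAffine (htame : ∃ α : A →ₗ[R] B, Hoch.IsComodHom A α ∧ α 1 = 1)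
    (ρ : QS R A B ⥤ᵇ AlgSt.ofSch (sp R ↥(GLin.invariants R A B)))
    (hρ : BasedFunctor.comp (AlgSt.quotMap Scheme.fppfPrecoverage (sp R A) (action R A B)) ρ =
      AlgSt.ofSpMap ((AlgSp.yon (Spec (CommRingCat.of R))).map (qmap R A B))) :
    StMod.IsCohAffine ρ := by
  intro F G w hw E hE
  obtain ⟨α, hα, h1⟩ := htame
  let q := qmap R A B
  let e := eMap E
  haveI : IsAffine (sp R B).left := inferInstanceAs (IsAffine (Spec _))
  haveI : IsAffine (sp R ↥(GLin.invariants R A B)).left := inferInstanceAs (IsAffine (Spec _))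
  haveI : IsAffine E.obj.left.left := hE
  let XE : Over (Spec (CommRingCat.of R)) := Over.mk (pullback.fst q.left e.left ≫ (sp R B).hom)
  haveI : IsAffine XE.left := inferInstanceAs (IsAffine (pullback q.left e.left))
  obtain ⟨K, _, _, ⟨i⟩⟩ := Misc15.AffinePoints.exists_sp XE
  let k₀ : XE ⟶ E.obj.left := Over.homMk (pullback.snd q.left e.left) (by
    show pullback.snd q.left e.left ≫ E.obj.left.hom = pullback.fst q.left e.left ≫ (sp R B).hom
    rw [← Over.w e, ← pullback.condition_assoc]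
    exact congrArg (_ ≫ ·) (Over.w q))
  let x₀ : XE ⟶ sp R B := Over.homMk (pullback.fst q.left e.left) rfl
  obtain ⟨yb, hyb⟩ := Misc15.AffinePoints.pt_surjective (i.hom ≫ x₀)
  let k : sp R K ⟶ E.obj.left := i.hom ≫ k₀
  have sq : IsPullback (pt yb).left k.left q.left e.left := by
    rw [hyb]
    have s2 : IsPullback x₀.left k₀.left q.left e.left := IsPullback.of_hasPullback _ _
    exact s2.of_iso ((Over.forget _).mapIso i).symm (Iso.refl _) (Iso.refl _) (Iso.refl _) (by simp) (by simp [k])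
      (by simp) (by simp)
  have hext : ∀ {T : Over (Spec (CommRingCat.of R))} (a b : T ⟶ sp R K),
      a ≫ pt yb = b ≫ pt yb → a ≫ k = b ≫ k → a = b := fun a b h1 h2 =>
    Over.OverMorphism.ext (sq.hom_ext (congrArg CommaMorphism.left h1) (congrArg CommaMorphism.left h2))
  have hxk : pt yb ≫ q = k ≫ e := Over.OverMorphism.ext sq.w
  let jp : sp R (A ⊗[R] K) ⟶ sp R K := pt Algebra.TensorProduct.includeRight
  let h : sp R (A ⊗[R] K) ⟶ sp R A := pt Algebra.TensorProduct.includeLeft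
  have hl : (smulPt (action R A B) h (jp ≫ pt yb)) ≫ q = (jp ≫ k) ≫ e := by
    rw [smulPt_qmap, Category.assoc, hxk]
    simp only [Category.assoc]
  let act : sp R (A ⊗[R] K) ⟶ sp R K := Over.homMk
    (sq.lift (smulPt (action R A B) h (jp ≫ pt yb)).left (jp ≫ k).left (congrArg CommaMorphism.left hl)) (by
      rw [← Over.w (pt yb), sq.lift_fst_assoc]
      exact Over.w (smulPt (action R A B) h (jp ≫ pt yb)))
  obtain ⟨ab, hab⟩ := Misc15.AffinePoints.pt_surjective act
  have hax : pt ab ≫ pt yb = smulPt (action R A B) h (jp ≫ pt yb) := by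
    rw [hab]
    exact Over.OverMorphism.ext (sq.lift_fst _ _ _)
  have hk : pt ab ≫ k = jp ≫ k := by
    rw [hab]
    exact Over.OverMorphism.ext (sq.lift_snd _ _ _)
  have hx : smulPt (action R A B) h⁻¹ (pt ab ≫ pt yb) = pt (ext1 A yb) := by
    rw [hax, smulPt_inv_smul, ← pt_comp]
  obtain ⟨α₀, hα₀⟩ := exists_alpha ρ E hρ (pt yb) k hxk
  intro s
  let n₀ := s.1 (tz A yb) α₀
  have hn₀ : G.obj.mapTop (jHom yb) n₀ = G.obj.mapTop (actHom ab hx) n₀ := by
    have e2 : ρ.map (jHom (A := A) yb) ≫ α₀ = ρ.map (actHom ab hx) ≫ α₀ := by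
      apply alpha_ext ρ E
      rw [← StMod.map_comp_baseOver, ← StMod.map_comp_baseOver, hα₀]
      show (jHom (A := A) yb).base ≫ k = (actHom ab hx).base ≫ k
      exact ((congrArg (· ≫ k) (tHom_base (K := Scheme.fppfPrecoverage) (pt (ext1 A yb)) (pt yb) jp 1 _)).trans
        hk.symm).trans (congrArg (· ≫ k) (tHom_base (K := Scheme.fppfPrecoverage) (pt (ext1 A yb)) (pt yb) (pt ab) h⁻¹ hx)).symm
    exact (s.2 (jHom yb) α₀).trans (e2 ▸ (s.2 (actHom ab hx) α₀).symm)
  obtain ⟨m₁, hm₁⟩ := hw (tz A yb) (isAffine_tz yb) n₀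
  obtain ⟨m, hm, hmu⟩ := exists_invariant_lift ab k hk hx hext w hα h1 m₁ (by rw [hm₁]; exact hn₀)
  obtain ⟨t, ht⟩ := exists_extension ρ E hρ sq α₀ hα₀ F m fun W y f₁ f₂ hf => by
    refine mapTop_eq_of_invariant ab k hk hx hext F m hm y f₁ f₂ _ _ rfl rfl ?_
    have e3 := congrArg (StMod.baseOver ρ (triv Scheme.fppfPrecoverage (action R A B) y)) hf
    rw [← StMod.map_comp_baseOver, ← StMod.map_comp_baseOver, hα₀] at e3
    exact e3
  refine ⟨t, relSect_ext ρ E hρ sq α₀ hα₀ G _ s ?_⟩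
  rw [StMod.Mod.relSectMap_val, ht, hmu, hm₁]

end Groth.Agent.TameGood19
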