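import Groth.Agent.TameGood19.Setup
import Groth.Agent.Stk19.AlgSt.Qc
import Groth.Agent.Stk19.AlgSt.SepDiag
import Groth.Agent.Stk19b.Quot.DiagFppf
import Groth.Agent.AlgSpLib.MorMore

/-! `[Spec B/G] ⟶ Spec B^G` is quasi-compact and quasi-separated. -/

set_option autoImplicit false
set_option backward.isDefEq.respectTransparency false
set_option backward.isDefEq.respectTransparency.types false
set_option linter.style.haveILetI false
set_option linter.unusedSectionVars false

universe u

open CategoryTheory CategoryTheory.Limits AlgebraicGeometry MonoidalCategory CartesianMonoidalCategory MonObj GrpObj Opposite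
open CoactBr Groth.Agent.Stk19 FibCat Groth.Agent.Desc19
open scoped TensorProduct

noncomputable section

namespace Groth.Agent.TameGood19

attribute [local instance] Stk19b.Quot.hasIsos_fppf

variable {S : Scheme.{u}}

theorem qcqs_of_affineMor {X : AlgSp.Sp S} {U : Over S} (a : X ⟶ (AlgSp.yon S).obj U) (hX : AlgSp.IsAlgSpace X)
    (h : AlgSp.IsAffineMor a) :
    (AlgSp.IsQuasiCompactMor ⊓ AlgSp.IsQuasiSeparatedMor : MorphismProperty (AlgSp.Sp S)) a := by
  have h' : AlgSp.RepWith @IsAffineHom a := (AlgSpLib.isAffineMor_iff_repWith a).1 h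
  refine ⟨isQuasiCompactMor_of_repWith
    (AlgSpLib.RepWith.mono (fun _ _ g (_ : IsAffineHom g) => (inferInstance : QuasiCompact g)) h'),
    AlgSpLib.repWith_diagonal_of_repWith hX @QuasiCompact h'.1 fun Z g => ?_⟩
  have : IsAffineHom (h'.1.snd g).left := h'.property_snd g
  infer_instance

theorem qcqs_yon {V W : Over S} (f : V ⟶ W) [QuasiCompact f.left] [QuasiSeparated f.left] :
    (AlgSp.IsQuasiCompactMor ⊓ AlgSp.IsQuasiSeparatedMor : MorphismProperty (AlgSp.Sp S)) ((AlgSp.yon S).map f) :=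
  ⟨isQuasiCompactMor_of_repWith ((AlgSp.repWith_yon_map_iff @QuasiCompact f).2 inferInstance),
    (AlgSp.repWith_diagonal_yon_map_iff @QuasiCompact f).2 (inferInstance : QuasiCompact (pullback.diagonal f.left))⟩

theorem diag_toSelf_ofSch (V : Over S) [QuasiCompact V.hom] [QuasiSeparated V.hom] :
    AlgSt.RepByAlgSpWith (AlgSp.IsQuasiCompactMor ⊓ AlgSp.IsQuasiSeparatedMor)
      (FibCat.diag (toSelf (AlgSt.ofSch V))) := by
  let c : V ⟶ Over.mk (𝟙 S) := Over.homMk V.hom
  haveI : QuasiCompact c.left := inferInstanceAs (QuasiCompact V.hom)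
  haveI : QuasiSeparated c.left := inferInstanceAs (QuasiSeparated V.hom)
  refine (diag_transport (f' := AlgSt.ofSpMap ((AlgSp.yon S).map c)) (f := toSelf (AlgSt.ofSch V))
    (a := BasedFunctor.id _) (b := BasedFunctor.comp (AlgSt.toOverCat _) (toSelf (overCat (Over.mk (𝟙 S)))))
    (isEquivOver_id _) (isEquivOver_comp (isEquivOver_toOverCat _) isEquivOver_toSelf_terminal) (selfIso _ _)).1 ?_
  exact diag_ofSpMap pbStable_qcqs (V := ⟨_, AlgSp.IsAlgSpace.yon_obj V⟩) (Z := ⟨_, AlgSp.IsAlgSpace.yon_obj _⟩) _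
    (diagonal_qcqs (qcqs_yon c).2)

variable {R A B : Type u} [CommRing R] [CommRing A] [HopfAlgebra R A] [Module.Flat R A]
  [Algebra.FinitePresentation R A] [CommRing B] [Algebra R B] [HopfRep.Comod R A B] [GLin.IsCoactAlg R A B]

theorem qc_qs
    (h𝒳 : AlgSt.IsAlgStack Scheme.fppfPrecoverage (QS R A B))
    (ρ : QS R A B ⥤ᵇ AlgSt.ofSch (sp R ↥(GLin.invariants R A B)))
    (hρ : BasedFunctor.comp (AlgSt.quotMap Scheme.fppfPrecoverage (sp R A) (action R A B)) ρ =
      AlgSt.ofSpMap ((AlgSp.yon (Spec (CommRingCat.of R))).map (qmap R A B))) :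
    AlgSt.IsQuasiCompactMor Scheme.fppfPrecoverage ρ ∧ AlgSt.IsQuasiSeparatedMor ρ := by
  haveI : Scheme.fppfPrecoverage.{u}.IsStableUnderBaseChange :=
    inferInstanceAs (Scheme.precoverage (@Flat ⊓ @LocallyOfFinitePresentation)).IsStableUnderBaseChange
  haveI : IsAffine (sp R B).left := inferInstanceAs (IsAffine (Spec _))
  haveI : IsAffine (sp R A).left := inferInstanceAs (IsAffine (Spec _))
  haveI : IsAffine (sp R ↥(GLin.invariants R A B)).left := inferInstanceAs (IsAffine (Spec _))
  haveI : IsAffineHom (sp R A).hom := inferInstance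
  haveI := sp_flat (R := R) (A := A)
  haveI := sp_lfp (R := R) (A := A)
  haveI : IsAffineHom (qmap R A B).left := inferInstance
  have hY := (isDM_ofSp (⟨_, AlgSp.IsAlgSpace.yon_obj (sp R ↥(GLin.invariants R A B))⟩ : AlgSp.Space _)).1
  refine ⟨?_, ?_⟩
  · refine qcMor_of_surjective (isAlgStack_overCat (sp R B)) h𝒳 hY
      (f := Stk19b.Quot.atlas (sp R A) Scheme.fppfPrecoverage (action R A B))
      (p := BasedFunctor.comp (AlgSt.ofOverCat (sp R B))
        (AlgSt.ofSpMap ((AlgSp.yon (Spec (CommRingCat.of R))).map (qmap R A B))))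
      (eqToIso ?_)
      (isSurjective_of_with h𝒳.isStack.1
        (Stk19b.Quot.rep_surjective Scheme.fppfPrecoverage_le_fpqcPrecoverage)) ?_
    · rw [← hρ]
      rfl
    · refine qcMor_of_with hY (isAlgStack_overCat (sp R B)) (with_equiv_comp (isEquivOver_ofOverCat (sp R B)) ?_)
      exact repByAlgSpWith_ofSpMap pbStable_qcMor (V := ⟨_, AlgSp.IsAlgSpace.yon_obj _⟩)
        (Z := ⟨_, AlgSp.IsAlgSpace.yon_obj _⟩) _ (qcqs_yon (qmap R A B)).1
  · haveI : IsAffineHom (sp R B).hom := inferInstance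
    have hX : IsAffineHom (pullback.diagonal (sp R B).hom) := inferInstance
    have hd : AlgSt.RepByAlgSpWith (AlgSp.IsQuasiCompactMor ⊓ AlgSp.IsQuasiSeparatedMor)
        (FibCat.diag (toSelf (QS R A B))) :=
      repByAlgSpWith_mono (fun X U a hX h => qcqs_of_affineMor a hX h)
        ((Stk19b.Quot.affine_diag_iff (action R A B)).2 hX)
    exact diag_of_comp h𝒳 hY fibGrpd_selfOver pbStable_qcqs schemeTested_qcqs compStable_qcqs ρ
      (toSelf (AlgSt.ofSch (sp R ↥(GLin.invariants R A B)))) (diag_toSelf_ofSch _)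
      (fun V Z a ha => diagonal_qcqs ha.2)
      ((diag_transport (f' := BasedFunctor.comp ρ (toSelf (AlgSt.ofSch (sp R ↥(GLin.invariants R A B)))))
        (f := toSelf (QS R A B)) (a := BasedFunctor.id _)
        (b := BasedFunctor.id _) (isEquivOver_id _) (isEquivOver_id _) (selfIso _ _)).2 hd)

end Groth.Agent.TameGood19
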