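import Mathlib.AlgebraicGeometry.Morphisms.Flat
import Mathlib.Algebra.Category.Ring.Constructions
import Mathlib.RingTheory.Flat.Equalizer

/-!
# Equalisers of two morphisms and flat base change

If the functions on an affine scheme `X` over an affine `T` with equal pullbacks along `σ₀, σ₁ : X₁ ⇉ X` are those of
`T`, the same holds after any flat base change.
-/

set_option autoImplicit false
set_option backward.isDefEq.respectTransparency false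
set_option backward.isDefEq.respectTransparency.types false

universe u

open CategoryTheory CategoryTheory.Limits AlgebraicGeometry Opposite TopologicalSpace TensorProduct

namespace Groth.Agent.TameGood19

/-- Equalisers commute with flat tensor products. -/
theorem existsUnique_one_tmul {C A A₁ B : Type u} [CommRing C] [CommRing A] [CommRing A₁] [CommRing B]
    [Algebra C A] [Algebra C A₁] [Algebra C B] [Module.Flat C B] (a₀ a₁ : A →ₐ[C] A₁)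
    (hinj : Function.Injective (algebraMap C A)) (hfix : ∀ a, a₀ a = a₁ a → a ∈ Set.range (algebraMap C A)) :
    Function.Injective (fun b : B => (1 : A) ⊗ₜ[C] b) ∧
      ∀ z : A ⊗[C] B, a₀.toLinearMap.rTensor B z = a₁.toLinearMap.rTensor B z →
        ∃ b : B, (1 : A) ⊗ₜ[C] b = z := by
  let i : C →ₗ[C] A := Algebra.linearMap C A
  let f : A →ₗ[C] A₁ := a₀.toLinearMap - a₁.toLinearMap
  have hex : Function.Exact i f := fun a =>
    ⟨fun h => hfix a (sub_eq_zero.1 h), by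
      rintro ⟨c, rfl⟩
      exact sub_eq_zero.2 ((a₀.commutes c).trans (a₁.commutes c).symm)⟩
  have hex' := Module.Flat.rTensor_exact B hex
  have hinj' : Function.Injective (i.rTensor B) := Module.Flat.rTensor_preserves_injective_linearMap i hinj
  have hi : ∀ b : B, i.rTensor B ((TensorProduct.lid C B).symm b) = (1 : A) ⊗ₜ[C] b := fun b => by
    simp [i]
  refine ⟨fun b b' e => (TensorProduct.lid C B).symm.injective (hinj' (by rw [hi, hi]; exact e)), fun z hz => ?_⟩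
  have h0 : f.rTensor B z = 0 := by
    rw [LinearMap.rTensor_sub, LinearMap.sub_apply, hz, sub_self]
  obtain ⟨w, rfl⟩ := (hex' z).1 h0
  exact ⟨TensorProduct.lid C B w, by rw [← hi, LinearEquiv.symm_apply_apply]⟩

/-- The same for cocartesian squares of rings. -/
theorem existsUnique_of_isPushout {C A A₁ B P P₁ : CommRingCat.{u}} {a : C ⟶ A} {a' : C ⟶ A₁} {b : C ⟶ B}
    {l : A ⟶ P} {r : B ⟶ P} {l₁ : A₁ ⟶ P₁} {r₁ : B ⟶ P₁} (H : IsPushout a b l r) (H₁ : IsPushout a' b l₁ r₁)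
    (hb : b.hom.Flat) (σ₀ σ₁ : A ⟶ A₁) (γ₀ γ₁ : P ⟶ P₁)
    (hσ₀ : a ≫ σ₀ = a') (hσ₁ : a ≫ σ₁ = a') (hl₀ : l ≫ γ₀ = σ₀ ≫ l₁) (hl₁ : l ≫ γ₁ = σ₁ ≫ l₁)
    (hr₀ : r ≫ γ₀ = r₁) (hr₁ : r ≫ γ₁ = r₁)
    (hinj : Function.Injective a) (hfix : ∀ x, σ₀ x = σ₁ x → x ∈ Set.range a) :
    Function.Injective r ∧ ∀ z, γ₀ z = γ₁ z → z ∈ Set.range r := by
  obtain ⟨C⟩ := C
  obtain ⟨A⟩ := A
  obtain ⟨A₁⟩ := A₁
  obtain ⟨B⟩ := B
  obtain ⟨P⟩ := P
  obtain ⟨P₁⟩ := P₁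
  letI := a.hom.toAlgebra
  letI := a'.hom.toAlgebra
  letI := b.hom.toAlgebra
  haveI : Module.Flat C B := hb
  letI := l.hom.toAlgebra
  letI := r.hom.toAlgebra
  letI := (a ≫ l).hom.toAlgebra
  haveI : IsScalarTower C A P := .of_algebraMap_eq' rfl
  haveI : IsScalarTower C B P := .of_algebraMap_eq' (congrArg CommRingCat.Hom.hom H.w)
  letI := l₁.hom.toAlgebra
  letI := r₁.hom.toAlgebra
  letI := (a' ≫ l₁).hom.toAlgebra
  haveI : IsScalarTower C A₁ P₁ := .of_algebraMap_eq' rfl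
  haveI : IsScalarTower C B P₁ := .of_algebraMap_eq' (congrArg CommRingCat.Hom.hom H₁.w)
  have hpo : Algebra.IsPushout C A B P := CommRingCat.isPushout_iff_isPushout.1 H
  have hpo₁ : Algebra.IsPushout C A₁ B P₁ := CommRingCat.isPushout_iff_isPushout.1 H₁
  let τ₀ : A →ₐ[C] A₁ := ⟨σ₀.hom, fun c => congrArg (fun φ => φ c) hσ₀⟩
  let τ₁ : A →ₐ[C] A₁ := ⟨σ₁.hom, fun c => congrArg (fun φ => φ c) hσ₁⟩
  obtain ⟨h1, h2⟩ := existsUnique_one_tmul (B := B) τ₀ τ₁ hinj hfix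
  let e : A ⊗[C] B ≃ₐ[A] P := Algebra.IsPushout.equiv C A B P
  let e₁ : A₁ ⊗[C] B ≃ₐ[A₁] P₁ := Algebra.IsPushout.equiv C A₁ B P₁
  have he : ∀ x y, e (x ⊗ₜ y) = l x * r y := fun x y => Algebra.IsPushout.equiv_tmul ..
  have he₁ : ∀ x y, e₁ (x ⊗ₜ y) = l₁ x * r₁ y := fun x y => Algebra.IsPushout.equiv_tmul ..
  have her : ∀ y, r y = e (1 ⊗ₜ y) := fun y => by rw [he, map_one, one_mul]
  refine ⟨fun y y' h => h1 (e.injective (by rw [← her, ← her]; exact h)), fun z hz => ?_⟩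
  have hcomp : ∀ (σ : CommRingCat.of A ⟶ CommRingCat.of A₁) (γ : CommRingCat.of P ⟶ CommRingCat.of P₁) (τ : A →ₐ[C] A₁),
      (∀ x, τ x = σ x) → (∀ x, γ (l x) = l₁ (σ x)) → (∀ y, γ (r y) = r₁ y) →
      ∀ w, γ (e w) = e₁ (τ.toLinearMap.rTensor B w) := fun σ γ τ hτ hlg hrg w => by
    induction w using TensorProduct.induction_on with
    | zero => simp
    | add w w' hw hw' => simp only [map_add, hw, hw']
    | tmul x y =>
      rw [LinearMap.rTensor_tmul, he, he₁, map_mul, hlg, hrg, ← hτ]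
      rfl
  obtain ⟨w, rfl⟩ := e.surjective z
  obtain ⟨y, hy⟩ := h2 w (e₁.injective (by
    rw [← hcomp σ₀ γ₀ τ₀ (fun _ => rfl) (fun x => congrArg (fun φ => φ x) hl₀) (fun y => congrArg (fun φ => φ y) hr₀),
      ← hcomp σ₁ γ₁ τ₁ (fun _ => rfl) (fun x => congrArg (fun φ => φ x) hl₁) (fun y => congrArg (fun φ => φ y) hr₁), hz]))
  exact ⟨y, by rw [her, hy]⟩

variable {X X₁ T XE XE₁ E : Scheme.{u}} [IsAffine X] [IsAffine X₁] [IsAffine T] {q : X ⟶ T} {q₁ : X₁ ⟶ T}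
  {e : E ⟶ T} {x : XE ⟶ X} {x₁ : XE₁ ⟶ X₁} {k : XE ⟶ E} {k₁ : XE₁ ⟶ E}

/-- Functions on `X ×_T E` with equal pullbacks are functions on `E`. -/
theorem appTop_equalizer (sq : IsPullback x k q e) (sq₁ : IsPullback x₁ k₁ q₁ e) [Flat e]
    (σ₀ σ₁ : X₁ ⟶ X) (γ₀ γ₁ : XE₁ ⟶ XE) (hσ₀ : σ₀ ≫ q = q₁) (hσ₁ : σ₁ ≫ q = q₁)
    (hx₀ : γ₀ ≫ x = x₁ ≫ σ₀) (hx₁ : γ₁ ≫ x = x₁ ≫ σ₁) (hk₀ : γ₀ ≫ k = k₁) (hk₁ : γ₁ ≫ k = k₁)
    (hinj : Function.Injective q.appTop)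
    (hfix : ∀ a, σ₀.appTop a = σ₁.appTop a → a ∈ Set.range q.appTop) :
    Function.Injective k.appTop ∧
      ∀ s : Γ(XE, ⊤), γ₀.appTop s = γ₁.appTop s → s ∈ Set.range k.appTop := by
  have le₀ : ∀ V : E.Opens, k₁ ⁻¹ᵁ V ≤ γ₀ ⁻¹ᵁ (k ⁻¹ᵁ V) := fun V => by
    rw [← Scheme.Hom.comp_preimage, hk₀]
  have le₁ : ∀ V : E.Opens, k₁ ⁻¹ᵁ V ≤ γ₁ ⁻¹ᵁ (k ⁻¹ᵁ V) := fun V => by
    rw [← Scheme.Hom.comp_preimage, hk₁]
  have aff : ∀ V : E.Opens, IsAffineOpen V → Function.Injective (k.app V) ∧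
      ∀ z, γ₀.appLE (k ⁻¹ᵁ V) (k₁ ⁻¹ᵁ V) (le₀ V) z = γ₁.appLE (k ⁻¹ᵁ V) (k₁ ⁻¹ᵁ V) (le₁ V) z →
        z ∈ Set.range (k.app V) := by
    intro V hV
    have hXT : (⊤ : X.Opens) ≤ q ⁻¹ᵁ ⊤ := le_rfl
    have hXT₁ : (⊤ : X₁.Opens) ≤ q₁ ⁻¹ᵁ ⊤ := le_rfl
    have hVT : V ≤ e ⁻¹ᵁ ⊤ := le_top
    have hY : k ⁻¹ᵁ V = x ⁻¹ᵁ ⊤ ⊓ k ⁻¹ᵁ V := by simp
    have hY₁ : k₁ ⁻¹ᵁ V = x₁ ⁻¹ᵁ ⊤ ⊓ k₁ ⁻¹ᵁ V := by simp
    have H := (isIso_pushoutSection_iff sq (hUST := hVT) (hUSX := hXT) (hUY := hY)).1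
      (isIso_pushoutSection_of_isAffineOpen sq hVT hXT hY (isAffineOpen_top T) hV (isAffineOpen_top X))
    have H₁ := (isIso_pushoutSection_iff sq₁ (hUST := hVT) (hUSX := hXT₁) (hUY := hY₁)).1
      (isIso_pushoutSection_of_isAffineOpen sq₁ hVT hXT₁ hY₁ (isAffineOpen_top T) hV (isAffineOpen_top X₁))
    rw [k.app_eq_appLE]
    refine existsUnique_of_isPushout H H₁ (e.flat_appLE (isAffineOpen_top T) hV _)
      (σ₀.appLE ⊤ ⊤ le_rfl) (σ₁.appLE ⊤ ⊤ le_rfl) (γ₀.appLE _ _ (le₀ V)) (γ₁.appLE _ _ (le₁ V))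
      ?_ ?_ ?_ ?_ ?_ ?_ ?_ ?_
    · rw [Scheme.Hom.appLE_comp_appLE]
      simp only [hσ₀]
    · rw [Scheme.Hom.appLE_comp_appLE]
      simp only [hσ₁]
    · rw [Scheme.Hom.appLE_comp_appLE, Scheme.Hom.appLE_comp_appLE]
      simp only [hx₀]
    · rw [Scheme.Hom.appLE_comp_appLE, Scheme.Hom.appLE_comp_appLE]
      simp only [hx₁]
    · rw [Scheme.Hom.appLE_comp_appLE]
      simp only [hk₀]
    · rw [Scheme.Hom.appLE_comp_appLE]
      simp only [hk₁]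
    · rw [show q.appLE ⊤ ⊤ _ = q.appTop from q.appLE_eq_app]
      exact hinj
    · intro a ha
      rw [show q.appLE ⊤ ⊤ _ = q.appTop from q.appLE_eq_app]
      refine hfix a ?_
      rw [← show σ₀.appLE ⊤ ⊤ _ = σ₀.appTop from σ₀.appLE_eq_app, ← show σ₁.appLE ⊤ ⊤ _ = σ₁.appTop from σ₁.appLE_eq_app]
      exact ha
  have inj : ∀ (W : E.Opens), Function.Injective (k.app W) := by
    intro W a b hab
    refine TopCat.Sheaf.eq_of_locally_eq' E.sheaf (fun V : {V : E.affineOpens // V.1 ≤ W} => V.1.1) W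
      (fun V => homOfLE V.2) ?_ a b fun V => (aff _ V.1.2).1 ?_
    · intro p hp
      obtain ⟨V, hV, hpV, hVW⟩ := Opens.isBasis_iff_nbhd.1 E.isBasis_affineOpens hp
      exact Opens.mem_iSup.2 ⟨⟨⟨V, hV⟩, hVW⟩, hpV⟩
    · show (E.presheaf.map (homOfLE V.2).op ≫ k.app V.1.1) a = (E.presheaf.map (homOfLE V.2).op ≫ k.app V.1.1) b
      rw [k.naturality, CommRingCat.comp_apply, CommRingCat.comp_apply, hab]
  refine ⟨inj ⊤, fun s hs => ?_⟩
  have hloc : ∀ V : E.affineOpens, ∃ r, k.app V.1 r = XE.presheaf.map (homOfLE le_top).op s := fun V =>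
    (aff _ V.2).2 _ (by
      have e0 : XE.presheaf.map (homOfLE le_top).op ≫ γ₀.appLE _ _ (le₀ V.1) =
          γ₀.appTop ≫ XE₁.presheaf.map (homOfLE (le_top : k₁ ⁻¹ᵁ V.1 ≤ ⊤)).op := by
        rw [Scheme.Hom.map_appLE]
        rfl
      have e1 : XE.presheaf.map (homOfLE le_top).op ≫ γ₁.appLE _ _ (le₁ V.1) =
          γ₁.appTop ≫ XE₁.presheaf.map (homOfLE (le_top : k₁ ⁻¹ᵁ V.1 ≤ ⊤)).op := by
        rw [Scheme.Hom.map_appLE]
        rfl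
      rw [← CommRingCat.comp_apply, ← CommRingCat.comp_apply, e0, e1, CommRingCat.comp_apply,
        CommRingCat.comp_apply, hs])
  choose r hr using hloc
  have hcompat : TopCat.Presheaf.IsCompatible E.presheaf (fun V : E.affineOpens => V.1) r := by
    intro V W
    apply inj
    show (E.presheaf.map (Opens.infLELeft V.1 W.1).op ≫ k.app _) (r V) =
      (E.presheaf.map (Opens.infLERight V.1 W.1).op ≫ k.app _) (r W)
    rw [k.naturality, k.naturality, CommRingCat.comp_apply, CommRingCat.comp_apply, hr, hr,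
      ← CommRingCat.comp_apply, ← CommRingCat.comp_apply, ← Functor.map_comp, ← Functor.map_comp]
    rfl
  have hcov : (⊤ : E.Opens) ≤ iSup fun V : E.affineOpens => V.1 := by
    intro p _
    obtain ⟨V, hV, hpV, -⟩ := Opens.isBasis_iff_nbhd.1 E.isBasis_affineOpens (Opens.mem_top p)
    exact Opens.mem_iSup.2 ⟨⟨V, hV⟩, hpV⟩
  obtain ⟨t, ht, -⟩ := TopCat.Sheaf.existsUnique_gluing' E.sheaf (fun V : E.affineOpens => V.1) ⊤
    (fun _ => homOfLE le_top) hcov r hcompat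
  refine ⟨t, TopCat.Sheaf.eq_of_locally_eq' XE.sheaf (fun V : E.affineOpens => k ⁻¹ᵁ V.1) (k ⁻¹ᵁ ⊤)
    (fun _ => homOfLE le_top) (fun p _ => ?_) _ _ fun V => ?_⟩
  · obtain ⟨V, hV⟩ := Opens.mem_iSup.1 (hcov (Opens.mem_top (k p)))
    exact Opens.mem_iSup.2 ⟨V, hV⟩
  · show (k.app ⊤ ≫ XE.presheaf.map _) t = XE.presheaf.map (homOfLE le_top).op s
    rw [← hr V, ← ht V]
    show _ = (E.presheaf.map (homOfLE (le_top : V.1 ≤ ⊤)).op ≫ k.app V.1) t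
    rw [k.naturality]
    rfl

end Groth.Agent.TameGood19
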