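import Groth.Agent.TameGood19.Setup
import Groth.Agent.TameGood19.Invariants

/-! The functions on `Spec B^G` are the sections of the structure sheaf of `[Spec B/G]`. -/

set_option autoImplicit false
set_option backward.isDefEq.respectTransparency false
set_option backward.isDefEq.respectTransparency.types false
set_option linter.style.haveILetI false
set_option linter.unusedSectionVars false
set_option maxHeartbeats 400000

universe u

open CategoryTheory CategoryTheory.Limits AlgebraicGeometry MonoidalCategory CartesianMonoidalCategory MonObj GrpObj Opposite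
open CoactBr Groth.Agent.Stk19b.QuotTriv
open scoped TensorProduct

noncomputable section

namespace Groth.Agent.TameGood19

attribute [local instance] Stk19b.Quot.hasIsos_fppf

variable {R A B : Type u} [CommRing R] [CommRing A] [HopfAlgebra R A]
  [CommRing B] [Algebra R B] [HopfRep.Comod R A B] [GLin.IsCoactAlg R A B]

theorem qmap_appTop (c : ↥(GLin.invariants R A B)) :
    (qmap R A B).left.appTop (iG _ c) = iG B c.1 := appTop_iG (GLin.invariants R A B).val c

theorem qmap_appTop_injective : Function.Injective (qmap R A B).left.appTop := by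
  intro a b h
  obtain ⟨a, rfl⟩ := exists_iG a
  obtain ⟨b, rfl⟩ := exists_iG b
  rw [qmap_appTop, qmap_appTop] at h
  have := congrArg (Scheme.ΓSpecIso (CommRingCat.of B)).hom h
  rw [hom_iG, hom_iG] at this
  rw [Subtype.ext this]

theorem qmap_appTop_fixed (a : Γ((sp R B).left, ⊤))
    (h : (pt (Algebra.TensorProduct.includeLeft : B →ₐ[R] B ⊗[R] A)).left.appTop a =
      (pt (GLin.coactAlgHom R A B)).left.appTop a) :
    a ∈ Set.range (qmap R A B).left.appTop := by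
  obtain ⟨b, rfl⟩ := exists_iG a
  rw [appTop_iG, appTop_iG] at h
  have := congrArg (Scheme.ΓSpecIso (CommRingCat.of (B ⊗[R] A))).hom h
  rw [hom_iG, hom_iG] at this
  exact ⟨iG _ ⟨b, this.symm⟩, qmap_appTop _⟩

variable [Module.Flat R A] [Algebra.FinitePresentation R A]

theorem unitIsIso (ρ : QS R A B ⥤ᵇ AlgSt.ofSch (sp R ↥(GLin.invariants R A B)))
    (hρ : BasedFunctor.comp (AlgSt.quotMap Scheme.fppfPrecoverage (sp R A) (action R A B)) ρ =
      AlgSt.ofSpMap ((AlgSp.yon (Spec (CommRingCat.of R))).map (qmap R A B))) :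
    StMod.UnitIsIso ρ := by
  intro E
  haveI := etale_eMap E
  let q := qmap R A B
  let e := eMap E
  haveI : IsAffine (sp R B).left := inferInstanceAs (IsAffine (Spec _))
  haveI : IsAffine (sp R (B ⊗[R] A)).left := inferInstanceAs (IsAffine (Spec _))
  haveI : IsAffine (sp R ↥(GLin.invariants R A B)).left := inferInstanceAs (IsAffine (Spec _))
  let XE : Over (Spec (CommRingCat.of R)) := Over.mk (pullback.fst q.left e.left ≫ (sp R B).hom)
  let x : XE ⟶ sp R B := Over.homMk (pullback.fst q.left e.left) rfl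
  let k : XE ⟶ E.obj.left := Over.homMk (pullback.snd q.left e.left) (by
    show pullback.snd q.left e.left ≫ E.obj.left.hom = pullback.fst q.left e.left ≫ (sp R B).hom
    rw [← Over.w e, ← pullback.condition_assoc]
    exact congrArg (_ ≫ ·) (Over.w q))
  have sq : IsPullback x.left k.left q.left e.left := IsPullback.of_hasPullback _ _
  have hxk : x ≫ q = k ≫ e := Over.OverMorphism.ext pullback.condition
  obtain ⟨α₀, hα₀⟩ := exists_alpha ρ E hρ x k hxk
  -- the two maps from `X × G`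
  let σ₀ : sp R (B ⊗[R] A) ⟶ sp R B := pt Algebra.TensorProduct.includeLeft
  let σ₁ : sp R (B ⊗[R] A) ⟶ sp R B := pt (GLin.coactAlgHom R A B)
  let g : sp R (B ⊗[R] A) ⟶ sp R A := pt Algebra.TensorProduct.includeRight
  have hσ : σ₁ = lift σ₀ g ≫ ract R A B := by
    rw [lift_pt_ract, Algebra.TensorProduct.lift_includeLeft_includeRight, AlgHom.id_comp]
  have hσq : σ₁ ≫ q = σ₀ ≫ q := by
    rw [hσ, Category.assoc, ract_qmap, lift_fst_assoc]
  have hgσ : smulPt (action R A B) g σ₁ = σ₀ := by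
    show lift g σ₁ ≫ _ = σ₀
    rw [lift_action_act, hσ, lift_ract_ract, mul_inv_cancel, lift_one_ract]
  let XE₁ : Over (Spec (CommRingCat.of R)) :=
    Over.mk (pullback.fst (σ₀ ≫ q).left e.left ≫ (sp R (B ⊗[R] A)).hom)
  let x₁ : XE₁ ⟶ sp R (B ⊗[R] A) := Over.homMk (pullback.fst (σ₀ ≫ q).left e.left) rfl
  let k₁ : XE₁ ⟶ E.obj.left := Over.homMk (pullback.snd (σ₀ ≫ q).left e.left) (by
    show pullback.snd (σ₀ ≫ q).left e.left ≫ E.obj.left.hom = pullback.fst (σ₀ ≫ q).left e.left ≫ (sp R (B ⊗[R] A)).hom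
    rw [← Over.w e, ← pullback.condition_assoc]
    exact congrArg (_ ≫ ·) (Over.w (σ₀ ≫ q)))
  have hx₁k₁ : x₁ ≫ σ₀ ≫ q = k₁ ≫ e := Over.OverMorphism.ext pullback.condition
  have hδ : ∀ σ : sp R (B ⊗[R] A) ⟶ sp R B, σ ≫ q = σ₀ ≫ q →
      ∃ δ : XE₁ ⟶ XE, δ ≫ x = x₁ ≫ σ ∧ δ ≫ k = k₁ := fun σ h => by
    have hw : (x₁ ≫ σ) ≫ q = k₁ ≫ e := by rw [Category.assoc, h, hx₁k₁]
    refine ⟨Over.homMk (sq.lift (x₁ ≫ σ).left k₁.left (congrArg CommaMorphism.left hw)) ?_,
      Over.OverMorphism.ext (sq.lift_fst _ _ _), Over.OverMorphism.ext (sq.lift_snd _ _ _)⟩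
    rw [← Over.w x, sq.lift_fst_assoc]
    exact Over.w (x₁ ≫ σ)
  obtain ⟨δ₀, hδ₀x, hδ₀k⟩ := hδ σ₀ rfl
  obtain ⟨δ₁, hδ₁x, hδ₁k⟩ := hδ σ₁ hσq
  obtain ⟨hinj, hrange⟩ := appTop_equalizer sq (IsPullback.of_hasPullback (σ₀ ≫ q).left e.left) σ₀.left σ₁.left δ₀.left δ₁.left
    rfl (congrArg CommaMorphism.left hσq) (congrArg CommaMorphism.left hδ₀x) (congrArg CommaMorphism.left hδ₁x)
    (congrArg CommaMorphism.left hδ₀k) (congrArg CommaMorphism.left hδ₁k) qmap_appTop_injective qmap_appTop_fixed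
  refine ⟨fun r r' h => hinj ?_, fun s => ?_⟩
  · have := congrArg (fun t => t.1 (triv Scheme.fppfPrecoverage (action R A B) x) α₀) h
    simp only [StMod.unitSect_val, hα₀] at this
    exact this
  let s₀ : Γ(XE.left, ⊤) := s.1 (triv Scheme.fppfPrecoverage (action R A B) x) α₀
  have hmove : ∀ {y : XE₁ ⟶ sp R B}
      (m : triv Scheme.fppfPrecoverage (action R A B) y ⟶ triv Scheme.fppfPrecoverage (action R A B) x)
      (l : XE₁ ⟶ XE), m.base = l →
      s.1 _ (ρ.map m ≫ α₀) = l.left.appTop s₀ := fun m l hl => by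
    rw [← s.2 m α₀, ← hl]
    rfl
  have h0 : smulPt (action R A B) 1 (δ₀ ≫ x) = x₁ ≫ σ₀ := by rw [smulPt_one, hδ₀x]
  have h1 : smulPt (action R A B) (x₁ ≫ g) (δ₁ ≫ x) = x₁ ≫ σ₀ := by rw [hδ₁x, ← comp_smulPt, hgσ]
  have hfix : δ₀.left.appTop s₀ = δ₁.left.appTop s₀ := by
    rw [← hmove (tHom (x₁ ≫ σ₀) x δ₀ 1 h0) δ₀ (tHom_base _ _ _ _ _),
      ← hmove (tHom (x₁ ≫ σ₀) x δ₁ (x₁ ≫ g) h1) δ₁ (tHom_base _ _ _ _ _)]
    refine congrArg (s.1 _) (alpha_ext ρ E ?_)
    rw [← StMod.map_comp_baseOver, ← StMod.map_comp_baseOver, hα₀]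
    show (tHom (K := Scheme.fppfPrecoverage) (x₁ ≫ σ₀) x δ₀ 1 h0).base ≫ k =
      (tHom (K := Scheme.fppfPrecoverage) (x₁ ≫ σ₀) x δ₁ (x₁ ≫ g) h1).base ≫ k
    exact ((congrArg (· ≫ k) (tHom_base _ _ _ _ _)).trans (hδ₀k.trans hδ₁k.symm)).trans
      (congrArg (· ≫ k) (tHom_base _ _ _ _ _)).symm
  obtain ⟨r, hr⟩ := hrange s₀ hfix
  refine ⟨r, relSect_ext ρ E hρ sq α₀ hα₀ ⟨StMod.O _, StMod.isCartesian_O, StMod.isLocQCoh_O⟩ _ s ?_⟩
  rw [StMod.unitSect_val, hα₀]
  exact hr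

end Groth.Agent.TameGood19
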