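import Groth.Agent.TameGood19.Comod

/-! Exactness of invariants implies that `[Spec B/G] ⟶ Spec B^G` is cohomologically affine. -/

set_option autoImplicit false
set_option backward.isDefEq.respectTransparency false
set_option backward.isDefEq.respectTransparency.types false
set_option linter.style.haveILetI false
set_option linter.unusedSectionVars false
set_option maxHeartbeats 400000

universe u

open CategoryTheory CategoryTheory.Limits AlgebraicGeometry MonoidalCategory CartesianMonoidalCategory MonObj GrpObj Opposite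
open CoactBr Groth.Agent.Stk19b.QuotTriv Groth.Agent.HopfLib.SpPoints
open scoped TensorProduct

noncomputable section

namespace Groth.Agent.TameGood19

attribute [local instance] Stk19b.Quot.hasIsos_fppf

variable {R A B : Type u} [CommRing R] [CommRing A] [HopfAlgebra R A]
  [CommRing B] [Algebra R B] [HopfRep.Comod R A B] [GLin.IsCoactAlg R A B]
  {K : Type u} [CommRing K] [Algebra R K]

/-- Inversion on the group coordinate. -/
def inv₁ : A ⊗[R] K →ₐ[R] A ⊗[R] K :=
  Algebra.TensorProduct.map (HopfAlgebra.antipodeAlgHom R A) (AlgHom.id R K)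

theorem pt_inv₁_right : pt (inv₁ : A ⊗[R] K →ₐ[R] _) ≫ pt (Algebra.TensorProduct.includeRight : K →ₐ[R] A ⊗[R] K) =
    pt (Algebra.TensorProduct.includeRight : K →ₐ[R] A ⊗[R] K) := by
  rw [← pt_comp]
  exact congrArg pt (AlgHom.ext fun q => by simp [inv₁])

theorem pt_inv₁_left : pt (inv₁ : A ⊗[R] K →ₐ[R] _) ≫ pt (Algebra.TensorProduct.includeLeft : A →ₐ[R] A ⊗[R] K) =
    (pt (Algebra.TensorProduct.includeLeft : A →ₐ[R] A ⊗[R] K))⁻¹ := by
  rw [pt_inv, ← pt_comp]
  exact congrArg pt (AlgHom.ext fun q => by simp [inv₁])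

variable [Module.Flat R A] [Algebra.FinitePresentation R A]

theorem isCohAffine_of_invariants (ρ : QS R A B ⥤ᵇ AlgSt.ofSch (sp R ↥(GLin.invariants R A B)))
    (hρ : BasedFunctor.comp (AlgSt.quotMap Scheme.fppfPrecoverage (sp R A) (action R A B)) ρ =
      AlgSt.ofSpMap ((AlgSp.yon (Spec (CommRingCat.of R))).map (qmap R A B)))
    (hex : ∀ (M N : Type u) [AddCommGroup M] [Module R M] [Module B M] [IsScalarTower R B M]
        [HopfRep.Comod R A M] [TameAct.IsHopfMod R A B M]
        [AddCommGroup N] [Module R N] [Module B N] [IsScalarTower R B N]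
        [HopfRep.Comod R A N] [TameAct.IsHopfMod R A B N] (f : M →ₗ[B] N),
        Hoch.IsComodHom A (f.restrictScalars R) → Function.Surjective f →
          ∀ n ∈ HopfRep.fixedPts R A N, ∃ m ∈ HopfRep.fixedPts R A M, f m = n) :
    StMod.IsCohAffine ρ := by
  intro F G w hw E hE
  let q := qmap R A B
  let e := eMap E
  haveI : IsAffine (sp R B).left := inferInstanceAs (IsAffine (Spec _))
  haveI : IsAffine (sp R ↥(GLin.invariants R A B)).left := inferInstanceAs (IsAffine (Spec _))
  haveI : IsAffine E.obj.left.left := hE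
  let XE : Over (Spec (CommRingCat.of R)) := Over.mk (pullback.fst q.left e.left ≫ (sp R B).hom)
  haveI : IsAffine XE.left := inferInstanceAs (IsAffine (pullback q.left e.left))
  obtain ⟨K, _, _, ⟨i⟩⟩ := Misc15.AffinePoints.exists_sp XE
  let k₀ : XE ⟶ E.obj.left := Over.homMk (pullback.snd q.left e.left) (by
    show pullback.snd q.left e.left ≫ E.obj.left.hom = pullback.fst q.left e.left ≫ (sp R B).hom
    rw [← Over.w e, ← pullback.condition_assoc]
    exact congrArg (_ ≫ ·) (Over.w q))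
  let x₀ : XE ⟶ sp R B := Over.homMk (pullback.fst q.left e.left) rfl
  obtain ⟨yb, hyb⟩ := Misc15.AffinePoints.pt_surjective (i.hom ≫ x₀)
  let k : sp R K ⟶ E.obj.left := i.hom ≫ k₀
  have sq : IsPullback (pt yb).left k.left q.left e.left := by
    rw [hyb]
    have s2 : IsPullback x₀.left k₀.left q.left e.left := IsPullback.of_hasPullback _ _
    exact s2.of_iso ((Over.forget _).mapIso i).symm (Iso.refl _) (Iso.refl _) (Iso.refl _) (by simp) (by simp [k])
      (by simp) (by simp)
  have hext : ∀ {T : Over (Spec (CommRingCat.of R))} (a b : T ⟶ sp R K),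
      a ≫ pt yb = b ≫ pt yb → a ≫ k = b ≫ k → a = b := fun a b h1 h2 =>
    Over.OverMorphism.ext (sq.hom_ext (congrArg CommaMorphism.left h1) (congrArg CommaMorphism.left h2))
  have hxk : pt yb ≫ q = k ≫ e := Over.OverMorphism.ext sq.w
  let jp : sp R (A ⊗[R] K) ⟶ sp R K := pt Algebra.TensorProduct.includeRight
  let h : sp R (A ⊗[R] K) ⟶ sp R A := pt Algebra.TensorProduct.includeLeft
  have hl : (smulPt (action R A B) h⁻¹ (jp ≫ pt yb)) ≫ q = (jp ≫ k) ≫ e := by
    rw [smulPt_qmap, Category.assoc, hxk]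
    simp only [Category.assoc]
  let act : sp R (A ⊗[R] K) ⟶ sp R K := Over.homMk
    (sq.lift (smulPt (action R A B) h⁻¹ (jp ≫ pt yb)).left (jp ≫ k).left (congrArg CommaMorphism.left hl)) (by
      rw [← Over.w (pt yb), sq.lift_fst_assoc]
      exact Over.w (smulPt (action R A B) h⁻¹ (jp ≫ pt yb)))
  obtain ⟨rb, hrb⟩ := Misc15.AffinePoints.pt_surjective act
  have hrx : pt rb ≫ pt yb = smulPt (action R A B) h⁻¹ (jp ≫ pt yb) := by
    rw [hrb]
    exact Over.OverMorphism.ext (sq.lift_fst _ _ _)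
  have hk : pt rb ≫ k = jp ≫ k := by
    rw [hrb]
    exact Over.OverMorphism.ext (sq.lift_snd _ _ _)
  have hr : smulPt (action R A B) h (pt rb ≫ pt yb) = pt (ext1 A yb) := by
    rw [hrx, smulPt_smul_inv, ← pt_comp]
  obtain ⟨α₀, hα₀⟩ := exists_alpha ρ E hρ (pt yb) k hxk
  intro s
  let n₀ : Mk G yb := s.1 (tz A yb) α₀
  letI := comodM F rb k hk hr hext
  letI := comodM G rb k hk hr hext
  haveI := isHopfMod (F := F) rb k hk hr hext
  haveI := isHopfMod (F := G) rb k hk hr hext
  let f : Mk F yb →ₗ[B] Mk G yb :=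
    { toFun := wM F w yb
      map_add' := map_add _
      map_smul' := fun b m => Scheme.Modules.Hom.app_smul (w.hom.app (tz A yb)) (bG yb b) m }
  have hfc : Hoch.IsComodHom A (f.restrictScalars R) := coactM_map rb hr w (f.restrictScalars R) fun _ => rfl
  have hn₀ : n₀ ∈ HopfRep.fixedPts R A (Mk G yb) := by
    refine (coactM_eq_iff rb hr n₀).2 ?_
    have e2 : ρ.map (rHom rb hr) ≫ α₀ = ρ.map (jHom (A := A) yb) ≫ α₀ := by
      apply alpha_ext ρ E
      rw [← StMod.map_comp_baseOver, ← StMod.map_comp_baseOver, hα₀]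
      show (rHom rb hr).base ≫ k = (jHom (A := A) yb).base ≫ k
      exact ((congrArg (· ≫ k) (tHom_base (K := Scheme.fppfPrecoverage) (pt (ext1 A yb)) (pt yb) (pt rb) h hr)).trans
        hk).trans (congrArg (· ≫ k) (tHom_base (K := Scheme.fppfPrecoverage) (pt (ext1 A yb)) (pt yb) jp 1 _)).symm
    exact (s.2 (rHom rb hr) α₀).trans (e2 ▸ (s.2 (jHom yb) α₀).symm)
  obtain ⟨m, hm, hmu⟩ := hex (Mk F yb) (Mk G yb) f hfc (hw (tz A yb) (isAffine_tz yb)) n₀ hn₀
  have hm' : rM rb hr m = jM yb m := (coactM_eq_iff rb hr m).1 hm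
  obtain ⟨ab, hab⟩ := Misc15.AffinePoints.pt_surjective (pt inv₁ ≫ pt rb)
  have hak : pt ab ≫ k = jp ≫ k := by
    rw [hab, Category.assoc, hk, ← Category.assoc, pt_inv₁_right]
  have hi : smulPt (action R A B) 1 (pt inv₁ ≫ pt (ext1 A yb)) = pt (ext1 A yb) := by
    rw [smulPt_one, pt_comp yb (Algebra.TensorProduct.includeRight : K →ₐ[R] A ⊗[R] K), ← Category.assoc,
      pt_inv₁_right]
  have hx : smulPt (action R A B) h⁻¹ (pt ab ≫ pt yb) = pt (ext1 A yb) := by
    have e := congrArg (pt inv₁ ≫ ·) hr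
    simp only [comp_smulPt] at e
    rw [pt_inv₁_left, ← Category.assoc, ← hab] at e
    rw [e, pt_comp yb (Algebra.TensorProduct.includeRight : K →ₐ[R] A ⊗[R] K), ← Category.assoc,
      pt_inv₁_right]
  let I : tz A (ext1 A yb) ⟶ tz A (ext1 A yb) := tHom _ _ _ 1 hi
  have eIr : I ≫ rHom rb hr = actHom ab hx := by
    obtain ⟨_, e1⟩ := tHom_comp (K := Scheme.fppfPrecoverage) (aX := action R A B) hi hr
    exact e1.trans (tHom_congr _ _ hab.symm (by rw [pt_inv₁_left, _root_.one_mul]))
  have eIj : I ≫ jHom yb = jHom yb := by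
    obtain ⟨_, e1⟩ := tHom_comp (K := Scheme.fppfPrecoverage) (aX := action R A B) hi
      (show smulPt (action R A B) 1 (jp ≫ pt yb) = pt (ext1 A yb) by rw [smulPt_one, ← pt_comp])
    exact e1.trans (tHom_congr _ _ pt_inv₁_right (by rw [MonObj.comp_one, _root_.mul_one]))
  have hma : F.obj.mapTop (jHom yb) m = F.obj.mapTop (actHom ab hx) m :=
    ((congrArg (fun p => F.obj.mapTop p m) eIj).symm.trans (StMod.Mod.mapTop_comp F.obj I (jHom yb) m)).trans
      (((congrArg (fun z => F.obj.mapTop I z) hm').symm.trans (StMod.Mod.mapTop_comp F.obj I (rHom rb hr) m).symm).trans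
        (congrArg (fun p => F.obj.mapTop p m) eIr))
  obtain ⟨t, ht⟩ := exists_extension ρ E hρ sq α₀ hα₀ F m fun W y f₁ f₂ hf => by
    refine mapTop_eq_of_invariant ab k hak hx hext F m hma y f₁ f₂ _ _ rfl rfl ?_
    have e3 := congrArg (StMod.baseOver ρ (triv Scheme.fppfPrecoverage (action R A B) y)) hf
    rw [← StMod.map_comp_baseOver, ← StMod.map_comp_baseOver, hα₀] at e3
    exact e3
  refine ⟨t, relSect_ext ρ E hρ sq α₀ hα₀ G _ s ?_⟩
  rw [StMod.Mod.relSectMap_val, ht]
  exact hmu

end Groth.Agent.TameGood19
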