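import Groth.Agent.TameGood19.EqModule

/-! A cohomologically affine `[Spec B/G] ⟶ Spec B^G` has exact invariants. -/

set_option autoImplicit false
set_option backward.isDefEq.respectTransparency false
set_option backward.isDefEq.respectTransparency.types false
set_option linter.style.haveILetI false
set_option linter.unusedSectionVars false
set_option maxHeartbeats 400000

universe u

open CategoryTheory CategoryTheory.Limits AlgebraicGeometry MonoidalCategory CartesianMonoidalCategory MonObj GrpObj Opposite TopologicalSpace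
open CoactBr Groth.Agent.Stk19b.QuotTriv Groth.Agent.HopfLib.SpPoints
open Groth.Agent.Coherent Groth.Agent.PicLib Groth.Agent.Desc19b.QDesc
open scoped TensorProduct

noncomputable section

namespace Groth.Agent.TameGood19

attribute [local instance] Stk19b.Quot.hasIsos_fppf

variable {R A B : Type u} [CommRing R] [CommRing A] [HopfAlgebra R A]
  [CommRing B] [Algebra R B] [HopfRep.Comod R A B] [GLin.IsCoactAlg R A B]

variable {M : Type u} [AddCommGroup M] [Module R M] [Module B M] [IsScalarTower R B M]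
  [HopfRep.Comod R A M] [TameAct.IsHopfMod R A B M]

variable {T T' : Over (Spec (CommRingCat.of R))}

/-- The trivial object of a point. -/
abbrev trv (y : T ⟶ sp R B) : (QS R A B).obj := triv Scheme.fppfPrecoverage (action R A B) y

/-- The value at a point of the torsor. -/
def evAt {ξ : (QS R A B).obj} (e : T ⟶ ξ.P) (y : T ⟶ sp R B) (he : e ≫ ξ.φ = y) :
    Γ(fObj M ξ, ⊤) →+ Γ(pb M y, ⊤) :=
  (tr₀ ξ.φ.left e.left y.left (congrArg CommaMorphism.left he) (P0 B M)).comp (val M ⊤)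

theorem evAt_apply {ξ : (QS R A B).obj} (e : T ⟶ ξ.P) (y : T ⟶ sp R B) (he : e ≫ ξ.φ = y) (s : Γ(fObj M ξ, ⊤)) :
    evAt e y he s = tr₀ ξ.φ.left e.left y.left (congrArg CommaMorphism.left he) (P0 B M) (val M ⊤ s) := rfl

theorem evAt_mapTop {ξ ξ' : (QS R A B).obj} (χ : ξ' ⟶ ξ) (e : T ⟶ ξ'.P) (e' : T' ⟶ ξ.P) (f : T ⟶ T')
    (g : T ⟶ sp R A) (x : T ⟶ sp R B) (x' : T' ⟶ sp R B) (he : e ≫ ξ'.φ = x) (he' : e' ≫ ξ.φ = x')
    (hg : smulPt (action R A B) g (f ≫ x') = x) (hgz : smulPt ξ.act g (f ≫ e') = e ≫ χ.top)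
    (s : Γ(fObj M ξ, ⊤)) :
    evAt e x he ((eqMod M).mapTop χ s) =
      (Theta M g hg).app ⊤ (tr₀ x'.left f.left (f ≫ x').left rfl (P0 B M) (evAt e' x' he' s)) := by
  have hz : (f ≫ e') ≫ ξ.φ = f ≫ x' := by rw [Category.assoc, he']
  have hz' : (e ≫ χ.top) ≫ ξ.φ = x := by rw [Category.assoc, χ.wφ, he]
  have key := isInv_val M s T (f ≫ e') (e ≫ χ.top) g hgz (f ≫ x') x hz hz' hg ⊤ (top_le _) (top_le _)
  rw [evAt_apply, evAt_apply, eqMod_mapTop, tr₀_tr₀, tr₀_def, tr₀_def, tM, tr_tr]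
  exact key.symm

/-- The value at the unit section. -/
def evT (y : T ⟶ sp R B) : Γ(fObj M (trv (A := A) y), ⊤) →+ Γ(pb M y, ⊤) :=
  evAt (ξ := trv (A := A) y) (unitSec T) y (unitSec_φ y)

theorem evT_apply (y : T ⟶ sp R B) (s : Γ(fObj M (trv (A := A) y), ⊤)) :
    evT y s = tr₀ (trv (A := A) y).φ.left (unitSec T).left y.left (congrArg CommaMorphism.left (unitSec_φ y)) (P0 B M)
      (val M ⊤ s) := rfl

theorem smul_unitSec (x : T ⟶ sp R B) (x' : T' ⟶ sp R B) (f : T ⟶ T') (g : T ⟶ sp R A)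
    (hg : smulPt (action R A B) g (f ≫ x') = x) :
    smulPt (trv (A := A) x').act g (f ≫ unitSec T') =
      unitSec T ≫ (tHom (K := Scheme.fppfPrecoverage) x x' f g hg).top := by
  have e1 : f ≫ unitSec T' = (lift (1 : T ⟶ sp R A) f : T ⟶ sp R A ⊗ T') := by
    show f ≫ lift 1 (𝟙 T') = _
    rw [comp_lift, MonObj.comp_one, Category.comp_id]
  have e2 : unitSec T ≫ (tHom (K := Scheme.fppfPrecoverage) x x' f g hg).top = (lift g f : T ⟶ sp R A ⊗ T') := by
    show lift 1 (𝟙 T) ≫ _ = _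
    rw [tHom_top, comp_lift, MonObj.comp_mul, lift_fst, lift_snd_assoc, lift_snd_assoc, _root_.one_mul,
      Category.id_comp, Category.id_comp]
  rw [e1, e2, triv_smul, _root_.mul_one]

theorem evT_tHom (x : T ⟶ sp R B) (x' : T' ⟶ sp R B) (f : T ⟶ T') (g : T ⟶ sp R A)
    (hg : smulPt (action R A B) g (f ≫ x') = x) (s : Γ(fObj M (trv (A := A) x'), ⊤)) :
    evT x ((eqMod M).mapTop (tHom x x' f g hg) s) =
      (Theta M g hg).app ⊤ (tr₀ x'.left f.left (f ≫ x').left rfl (P0 B M) (evT x' s)) :=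
  evAt_mapTop (ξ := trv (A := A) x') (ξ' := trv (A := A) x) (tHom x x' f g hg) (unitSec T) (unitSec T') f g x x'
    (unitSec_φ x) (unitSec_φ x') hg (smul_unitSec x x' f g hg) s

/-- The family of an invariant vector. -/
theorem isInv_sec (ξ : (QS R A B).obj) (n : M) (hn : HopfRep.Comod.coact (k := R) (A := A) n = n ⊗ₜ (1 : A)) :
    IsInv M (U := (⊤ : ξ.base.left.Opens)) (pl ξ.φ.left (P0 B M) (U := ⊤) (V := ξ.π.left ⁻¹ᵁ ⊤) (fun _ _ => trivial) (glob B M n)) := by
  intro T z z' g hg y y' hy hy' h V e e'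
  rw [tr_pl, tr_pl]
  rw [← resM_pl y.left (P0 B M) (top_le y.left) (le_top : V ≤ ⊤), ← resM_pl y'.left (P0 B M) (top_le y'.left)
    (le_top : V ≤ ⊤), app_resM, ← sec_apply, ← sec_apply, Theta_sec, hn, actS_one]

variable [Module.Flat R A] [Algebra.FinitePresentation R A]

theorem exists_globSect (n : M) (hn : HopfRep.Comod.coact (k := R) (A := A) n = n ⊗ₜ (1 : A)) :
    ∃ s : (eqMod M : StMod.Mod (QS R A B)).GlobSect,
      ∀ (ξ : (QS R A B).obj), val M ⊤ (s.1 ξ) =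
        pl ξ.φ.left (P0 B M) (U := ⊤) (V := ξ.π.left ⁻¹ᵁ ⊤) (fun _ _ => trivial) (glob B M n) := by
  choose s hs using fun ξ : (QS R A B).obj => exists_val M (isInv_sec ξ n hn)
  refine ⟨⟨s, fun ξ' ξ χ => mapTop_eq_of_val M χ ?_⟩, hs⟩
  rw [hs, hs, tM]
  exact tr_pl _ _ _ _ _ _ _ _

/-- A global section as a section of the pushforward. -/
def globToRel {F : StMod.Mod (QS R A B)} (ρ : QS R A B ⥤ᵇ AlgSt.ofSch (sp R ↥(GLin.invariants R A B)))
    (ob : (AlgSt.ofSch (sp R ↥(GLin.invariants R A B))).obj) (s : F.GlobSect) : StMod.Mod.RelSect ρ F ob :=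
  ⟨fun ξ _ => s.1 ξ, fun _ _ φ _ => s.2 φ⟩

theorem sec_bijective (y : sp R B ⟶ sp R B) (hy : y.left = 𝟙 _) : Function.Bijective (sec (M := M) y) := by
  have h : ∀ (f : Spec (CommRingCat.of B) ⟶ Spec (CommRingCat.of B)), f = 𝟙 _ →
      Function.Bijective (pl f (P0 B M) (top_le f)) := fun f hf => by
    subst hf
    exact pl_id_bijective (P0 B M) ⊤
  exact (h y.left hy).comp glob_bijective

omit [Module.Flat R A] [Algebra.FinitePresentation R A] in
theorem actS_injective :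
    Function.Injective (actS (M := M) (pt (Algebra.TensorProduct.includeRight : A →ₐ[R] B ⊗[R] A))
      (pt (Algebra.TensorProduct.includeLeft : B →ₐ[R] B ⊗[R] A))) := by
  let N' : Type u := (B ⊗[R] A) ⊗[B] M
  let Q : (sp R (B ⊗[R] A)).left.Modules := P0 (B ⊗[R] A) N'
  let ψ : M →+ Γ(Q, ⊤) := (glob (B ⊗[R] A) N').comp (TensorProduct.mk B (B ⊗[R] A) M 1).toAddMonoidHom
  obtain ⟨h, hh⟩ := exists_secHom (pt (Algebra.TensorProduct.includeLeft : B →ₐ[R] B ⊗[R] A)) (Q := Q) ψ fun b m => by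
    show glob (B ⊗[R] A) N' ((1 : B ⊗[R] A) ⊗ₜ[B] (b • m)) =
      fn _ b • glob (B ⊗[R] A) N' ((1 : B ⊗[R] A) ⊗ₜ[B] m)
    rw [TensorProduct.tmul_smul, ← algebraMap_smul (B ⊗[R] A) b ((1 : B ⊗[R] A) ⊗ₜ[B] m), glob_smul, fn_apply,
      appTop_iG]
    rfl
  let r : N' →+ M ⊗[R] A := TensorProduct.liftAddHom
    (AddMonoidHom.mk' (fun s => AddMonoidHom.mk' (fun m => TameAct.hmSMul R A B M s (m ⊗ₜ[R] (1 : A)))
      fun m m' => by rw [TensorProduct.add_tmul, map_add])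
      fun s s' => AddMonoidHom.ext fun m => show TameAct.hmSMul R A B M (s + s') _ = _ by
        rw [map_add]
        rfl)
    fun b s m => by
      show TameAct.hmSMul R A B M (b • s) (m ⊗ₜ[R] (1 : A)) = TameAct.hmSMul R A B M s ((b • m) ⊗ₜ[R] (1 : A))
      induction s using TensorProduct.induction_on with
      | zero => simp
      | add p q hp hq => simp only [smul_add, map_add, LinearMap.add_apply, hp, hq]
      | tmul c a => rw [TensorProduct.smul_tmul', TameAct.hmSMul_tmul, TameAct.hmSMul_tmul, smul_eq_mul, smul_smul, _root_.mul_comm]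
  let e : M ⊗[R] A →+ N' := TensorProduct.liftAddHom
    (AddMonoidHom.mk' (fun m => AddMonoidHom.mk' (fun a => ((1 : B) ⊗ₜ[R] a) ⊗ₜ[B] m)
      fun a a' => by rw [TensorProduct.tmul_add, TensorProduct.add_tmul])
      fun m m' => AddMonoidHom.ext fun a => TensorProduct.tmul_add _ m m')
    fun t m a => by
      show ((1 : B) ⊗ₜ[R] a) ⊗ₜ[B] (t • m) = ((1 : B) ⊗ₜ[R] (t • a)) ⊗ₜ[B] m
      rw [← algebraMap_smul B t m, ← TensorProduct.smul_tmul, TensorProduct.smul_tmul', TensorProduct.tmul_smul,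
        TensorProduct.smul_tmul' t, Algebra.algebraMap_eq_smul_one, smul_eq_mul, _root_.mul_one]
  have key : ∀ x, h.app ⊤ (actS (pt Algebra.TensorProduct.includeRight)
      (pt (Algebra.TensorProduct.includeLeft : B →ₐ[R] B ⊗[R] A)) x) = glob (B ⊗[R] A) N' (e x) := fun x => by
    induction x using TensorProduct.induction_on with
    | zero => simp
    | add p q hp hq => simp only [map_add, hp, hq]
    | tmul m a =>
      rw [actS_tmul, Scheme.Modules.Hom.app_smul, hh, fn_apply, appTop_iG]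
      refine (glob_smul (B := B ⊗[R] A) (M := N') _ _).symm.trans (congrArg _ ?_)
      show ((1 : B) ⊗ₜ[R] a : B ⊗[R] A) • ((1 : B ⊗[R] A) ⊗ₜ[B] m) = _
      rw [TensorProduct.smul_tmul', smul_eq_mul, _root_.mul_one]
      rfl
  have hre : ∀ x, r (e x) = x := fun x => by
    induction x using TensorProduct.induction_on with
    | zero => simp
    | add p q hp hq => simp only [map_add, hp, hq]
    | tmul m a =>
      show TameAct.hmSMul R A B M ((1 : B) ⊗ₜ[R] a) (m ⊗ₜ[R] (1 : A)) = _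
      rw [TameAct.hmSMul_tmul, one_smul, _root_.mul_one]
  intro x x' hxx
  have e2 := congrArg (fun z => h.app ⊤ z) hxx
  simp only [key] at e2
  rw [← hre x, ← hre x', glob_bijective.1 e2]

theorem isSurj_eqMap {N : Type u} [AddCommGroup N] [Module R N] [Module B N] [IsScalarTower R B N]
    [HopfRep.Comod R A N] [TameAct.IsHopfMod R A B N] (f : M →ₗ[B] N)
    (hf : Hoch.IsComodHom A (f.restrictScalars R)) (hs : Function.Surjective f) :
    StMod.Mod.IsSurj (eqMap (R := R) (A := A) f hf).hom := fun ξ hξ => by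
  haveI : IsAffine ξ.base.left := hξ
  haveI : Coh.IsQCoh (fObj M ξ) := isQCoh_fObj M ξ
  haveI : Coh.IsQCoh (fObj N ξ) := isQCoh_fObj N ξ
  let u : fObj M ξ ⟶ fObj N ξ := (eqMap f hf).hom.app ξ
  haveI : Epi u := epi_eqMap_app f hf hs ξ
  let S : ShortComplex ξ.base.left.Modules := ShortComplex.mk (kernel.ι u) u (kernel.condition u)
  have hS : S.ShortExact := { exact := ShortComplex.exact_kernel u }
  haveI : Coh.IsQCoh S.X₁ := isQCoh_kernel u
  exact sections_surjective hS (isAffineOpen_top _)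

omit [Module.Flat R A] [Algebra.FinitePresentation R A] in
theorem coact_eq_of_evT (y₀ : sp R B ⟶ sp R B) (hy₀ : y₀ = 𝟙 _) (σ₁ : sp R (B ⊗[R] A) ⟶ sp R B) (m : M)
    (t₀ : Γ(fObj M (trv (A := A) y₀), ⊤)) (hm : sec y₀ m = evT y₀ t₀)
    (hga : smulPt (action R A B) (1 : sp R (B ⊗[R] A) ⟶ sp R A)
      (pt (Algebra.TensorProduct.includeLeft : B →ₐ[R] B ⊗[R] A) ≫ y₀) =
        pt (Algebra.TensorProduct.includeLeft : B →ₐ[R] B ⊗[R] A))
    (hgb : smulPt (action R A B) (pt (Algebra.TensorProduct.includeRight : A →ₐ[R] B ⊗[R] A)) (σ₁ ≫ y₀) =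
      pt (Algebra.TensorProduct.includeLeft : B →ₐ[R] B ⊗[R] A))
    (et : (eqMod M).mapTop (tHom _ y₀ (pt (Algebra.TensorProduct.includeLeft : B →ₐ[R] B ⊗[R] A)) 1 hga) t₀ =
      (eqMod M).mapTop (tHom _ y₀ σ₁ (pt (Algebra.TensorProduct.includeRight : A →ₐ[R] B ⊗[R] A)) hgb) t₀) :
    HopfRep.Comod.coact (k := R) (A := A) m = m ⊗ₜ (1 : A) := by
  have e2 := congrArg (evT (pt (Algebra.TensorProduct.includeLeft : B →ₐ[R] B ⊗[R] A))) et
  rw [evT_tHom, evT_tHom, ← hm, tr₀_sec (pt (Algebra.TensorProduct.includeLeft : B →ₐ[R] B ⊗[R] A)) y₀ _ rfl,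
    tr₀_sec σ₁ y₀ _ rfl, Theta_sec, Theta_sec] at e2
  refine actS_injective (A := A) (B := B) (M := M) ?_
  rw [actS_one]
  refine e2.symm.trans ?_
  have h1 : smulPt (action R A B) (1 : sp R (B ⊗[R] A) ⟶ sp R A)
      (pt (Algebra.TensorProduct.includeLeft : B →ₐ[R] B ⊗[R] A)) =
        pt (Algebra.TensorProduct.includeLeft : B →ₐ[R] B ⊗[R] A) := smulPt_one (action R A B) _
  rw [← Theta_sec (M := M) (1 : sp R (B ⊗[R] A) ⟶ sp R A) h1, Theta_one (M := M) _ h1]
  rfl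

omit [Module.Flat R A] [Algebra.FinitePresentation R A] in
theorem pbMap_evAt {N : Type u} [AddCommGroup N] [Module R N] [Module B N] [IsScalarTower R B N]
    [HopfRep.Comod R A N] [TameAct.IsHopfMod R A B N] (f : M →ₗ[B] N) {ξ : (QS R A B).obj} (e : T ⟶ ξ.P)
    (y : T ⟶ sp R B) (he : e ≫ ξ.φ = y) (n : N) (t : Γ(fObj M ξ, ⊤))
    (hsec : (pbMap f ξ.φ).app _ (val M ⊤ t) =
      pl ξ.φ.left (P0 B N) (U := ⊤) (V := ξ.π.left ⁻¹ᵁ ⊤) (fun _ _ => trivial) (glob B N n)) :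
    (pbMap f y).app ⊤ (evAt e y he t) = sec y n := by
  rw [evAt_apply, tr₀_def, pbMap_tr]
  refine (congrArg (tr _ _ _ _ _ _) hsec).trans ?_
  rw [tr_pl, sec_apply]

omit [Module.Flat R A] [Algebra.FinitePresentation R A] in
theorem eq_of_evT {N : Type u} [AddCommGroup N] [Module R N] [Module B N] [IsScalarTower R B N]
    [HopfRep.Comod R A N] [TameAct.IsHopfMod R A B N] (f : M →ₗ[B] N) (y₀ : sp R B ⟶ sp R B)
    (hy₀ : y₀.left = 𝟙 _) (m : M) (n : N) (t₀ : Γ(fObj M (trv (A := A) y₀), ⊤)) (hm : sec y₀ m = evT y₀ t₀)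
    (hsec : (pbMap f (trv (A := A) y₀).φ).app _ (val M ⊤ t₀) =
      pl (trv (A := A) y₀).φ.left (P0 B N) (U := ⊤) (V := (trv (A := A) y₀).π.left ⁻¹ᵁ ⊤) (fun _ _ => trivial)
        (glob B N n)) : f m = n := by
  apply (sec_bijective (M := N) y₀ hy₀).1
  rw [← pbMap_sec f y₀ m, hm]
  exact pbMap_evAt f (ξ := trv (A := A) y₀) (unitSec _) y₀ (unitSec_φ y₀) n t₀ hsec

theorem exists_fixed_preimage
    (ρ : QS R A B ⥤ᵇ AlgSt.ofSch (sp R ↥(GLin.invariants R A B)))
    (hρ : BasedFunctor.comp (AlgSt.quotMap Scheme.fppfPrecoverage (sp R A) (action R A B)) ρ =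
      AlgSt.ofSpMap ((AlgSp.yon (Spec (CommRingCat.of R))).map (qmap R A B)))
    (hca : StMod.IsCohAffine ρ)
    {N : Type u} [AddCommGroup N] [Module R N] [Module B N] [IsScalarTower R B N]
    [HopfRep.Comod R A N] [TameAct.IsHopfMod R A B N] (f : M →ₗ[B] N)
    (hf : Hoch.IsComodHom A (f.restrictScalars R)) (hs : Function.Surjective f) (n : N)
    (hn : n ∈ HopfRep.fixedPts R A N) : ∃ m ∈ HopfRep.fixedPts R A M, f m = n := by
  let E : AlgSp.EtOver ((AlgSp.yon (Spec (CommRingCat.of R))).obj (sp R ↥(GLin.invariants R A B))) :=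
    AlgSp.EtOver.mk (𝟙 _) (AlgSp.repWith_id @Etale (sp R ↥(GLin.invariants R A B)))
  have heE : eMap E = 𝟙 _ := rfl
  haveI : IsAffine E.obj.left.left := inferInstanceAs (IsAffine (Spec _))
  obtain ⟨sN, hsN⟩ := exists_globSect (A := A) (B := B) (M := N) n hn
  obtain ⟨t, ht⟩ := hca (eqMap (A := A) f hf) (isSurj_eqMap f hf hs) E inferInstance
    (globToRel ρ (StMod.etaOf E) sN)
  have hy₀ : pt (AlgHom.id R B) = 𝟙 (sp R B) := pt_id
  have hy₀' : (pt (AlgHom.id R B) : sp R B ⟶ sp R B).left = 𝟙 _ := by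
    rw [hy₀]
    rfl
  obtain ⟨α₀, hα₀⟩ := exists_alpha ρ E hρ (pt (AlgHom.id R B)) (pt (AlgHom.id R B) ≫ qmap R A B)
    (by rw [heE, Category.comp_id])
  obtain ⟨m, hm⟩ := (sec_bijective (M := M) (pt (AlgHom.id R B)) hy₀').2
    (evT (pt (AlgHom.id R B)) (t.1 (trv (A := A) (pt (AlgHom.id R B))) α₀))
  refine ⟨m, ?_, ?_⟩
  · have hσ : pt (GLin.coactAlgHom R A B) =
        lift (pt (Algebra.TensorProduct.includeLeft : B →ₐ[R] B ⊗[R] A))
          (pt (Algebra.TensorProduct.includeRight : A →ₐ[R] B ⊗[R] A)) ≫ ract R A B := by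
      rw [lift_pt_ract, Algebra.TensorProduct.lift_includeLeft_includeRight, AlgHom.id_comp]
    have hy : ∀ σ : sp R (B ⊗[R] A) ⟶ sp R B, σ ≫ pt (AlgHom.id R B) = σ := fun σ => by
      rw [hy₀, Category.comp_id]
    have hga : smulPt (action R A B) (1 : sp R (B ⊗[R] A) ⟶ sp R A)
        (pt (Algebra.TensorProduct.includeLeft : B →ₐ[R] B ⊗[R] A) ≫ pt (AlgHom.id R B)) =
          pt (Algebra.TensorProduct.includeLeft : B →ₐ[R] B ⊗[R] A) := by rw [smulPt_one, hy]
    have hgb : smulPt (action R A B) (pt (Algebra.TensorProduct.includeRight : A →ₐ[R] B ⊗[R] A))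
        (pt (GLin.coactAlgHom R A B) ≫ pt (AlgHom.id R B)) =
          pt (Algebra.TensorProduct.includeLeft : B →ₐ[R] B ⊗[R] A) := by
      rw [hy]
      show lift _ _ ≫ _ = _
      rw [lift_action_act, hσ, lift_ract_ract, mul_inv_cancel, lift_one_ract]
    refine coact_eq_of_evT (pt (AlgHom.id R B)) hy₀ _ m _ hm hga hgb ?_
    have eα : ρ.map (tHom (K := Scheme.fppfPrecoverage) _ (pt (AlgHom.id R B))
          (pt (Algebra.TensorProduct.includeLeft : B →ₐ[R] B ⊗[R] A)) 1 hga) ≫ α₀ =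
        ρ.map (tHom (K := Scheme.fppfPrecoverage) _ (pt (AlgHom.id R B)) (pt (GLin.coactAlgHom R A B))
          (pt (Algebra.TensorProduct.includeRight : A →ₐ[R] B ⊗[R] A)) hgb) ≫ α₀ := by
      apply alpha_ext ρ E
      rw [← StMod.map_comp_baseOver, ← StMod.map_comp_baseOver, hα₀]
      show (tHom (K := Scheme.fppfPrecoverage) _ (pt (AlgHom.id R B))
          (pt (Algebra.TensorProduct.includeLeft : B →ₐ[R] B ⊗[R] A)) 1 hga).base ≫ _ =
        (tHom (K := Scheme.fppfPrecoverage) _ (pt (AlgHom.id R B)) (pt (GLin.coactAlgHom R A B))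
          (pt (Algebra.TensorProduct.includeRight : A →ₐ[R] B ⊗[R] A)) hgb).base ≫ _
      refine ((congrArg (· ≫ pt (AlgHom.id R B) ≫ qmap R A B) (tHom_base (K := Scheme.fppfPrecoverage) _ _ _ _ hga)).trans
        ?_).trans (congrArg (· ≫ pt (AlgHom.id R B) ≫ qmap R A B) (tHom_base (K := Scheme.fppfPrecoverage) _ _ _ _ hgb)).symm
      rw [← Category.assoc, ← Category.assoc, hy, hy, hσ, Category.assoc, ract_qmap, lift_fst_assoc]
    exact (t.2 _ α₀).trans (eα ▸ (t.2 _ α₀).symm)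
  · refine eq_of_evT f (pt (AlgHom.id R B)) hy₀' m n _ hm ?_
    refine ((val_eqMap f hf (trv (A := A) (pt (AlgHom.id R B))) ⊤ _).symm.trans ?_).trans (hsN _)
    exact congrArg (val N ⊤) (congrArg (fun w => w.1 (trv (A := A) (pt (AlgHom.id R B))) α₀) ht)

end Groth.Agent.TameGood19
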