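import Groth.Agent.TameGood19.Triv
import Groth.Agent.TameGood19.Sections
import Groth.Agent.HopfLib.SpPoints
import Groth.Agent.Stk19b.Quot.Atlas
import Groth.Prelude.Def_W4c1tameactTame
import Mathlib.RingTheory.HopfAlgebra.Convolution

/-! Averaging of sections over trivial objects of `[Spec B/G]` by a total integral. -/

set_option autoImplicit false
set_option backward.isDefEq.respectTransparency false
set_option backward.isDefEq.respectTransparency.types false
set_option linter.style.haveILetI false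
set_option linter.unusedSectionVars false
set_option maxHeartbeats 400000

universe u

open CategoryTheory CategoryTheory.Limits AlgebraicGeometry MonoidalCategory CartesianMonoidalCategory MonObj GrpObj Opposite
open CoactBr Groth.Agent.Stk19b.QuotTriv Groth.Agent.HopfLib.SpPoints
open scoped TensorProduct

noncomputable section

namespace Groth.Agent.TameGood19

local instance : Scheme.fppfPrecoverage.{u}.HasIsos := Stk19b.Quot.hasIsos_fppf.{u}

variable {R : Type u} [CommRing R] {A : Type u} [CommRing A] [HopfAlgebra R A]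
  {B : Type u} [CommRing B] [Algebra R B] [HopfRep.Comod R A B] [GLin.IsCoactAlg R A B]
  {K K' : Type u} [CommRing K] [Algebra R K] [CommRing K'] [Algebra R K']

variable (R A B) in
/-- The quotient category. -/
abbrev QS := AlgSt.QuotSt Scheme.fppfPrecoverage (sp R A) (action R A B)

variable (A) in
/-- The trivial object of a ring-valued point. -/
abbrev tz (yb : B →ₐ[R] K) : (QS R A B).obj := triv Scheme.fppfPrecoverage (action R A B) (pt yb)

/-- Functions on `Spec K`. -/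
abbrev iG (K : Type u) [CommRing K] (q : K) : Γ(Spec (CommRingCat.of K), ⊤) :=
  (Scheme.ΓSpecIso (CommRingCat.of K)).inv q

theorem iG_mul (a b : K) : iG K (a * b) = iG K a * iG K b := map_mul _ a b

theorem iG_one : iG K (1 : K) = 1 := map_one _

theorem exists_iG (r : Γ(Spec (CommRingCat.of K), ⊤)) : ∃ q, iG K q = r :=
  ⟨(Scheme.ΓSpecIso (CommRingCat.of K)).hom r, congrArg (fun φ => φ r) (Scheme.ΓSpecIso (CommRingCat.of K)).hom_inv_id⟩

theorem hom_iG (q : K) : (Scheme.ΓSpecIso (CommRingCat.of K)).hom (iG K q) = q :=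
  congrArg (fun φ => φ q) (Scheme.ΓSpecIso (CommRingCat.of K)).inv_hom_id

theorem appTop_iG (f : K →ₐ[R] K') (q : K) : (pt f).left.appTop (iG K q) = iG K' (f q) :=
  congrArg (fun φ => φ q) (Scheme.ΓSpecIso_inv_naturality (CommRingCat.ofHom f.toRingHom)).symm

instance isAffine_tz (yb : B →ₐ[R] K) : IsAffine (StMod.sch (QS R A B) (tz A yb)) :=
  inferInstanceAs (IsAffine (Spec _))

theorem smul_pt (g : A →ₐ[R] K) (yb : B →ₐ[R] K) :
    smulPt (action R A B) (pt g) (pt yb) =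
      pt ((Algebra.TensorProduct.lift yb (g.comp (HopfAlgebra.antipodeAlgHom R A)) fun _ _ => .all _ _).comp
        (GLin.coactAlgHom R A B)) := by
  show lift (pt g) (pt yb) ≫ _ = _
  rw [lift_action_act, pt_inv, lift_pt_ract]

/-- `a ⊗ q ↦ y(α a) q`. -/
def lam (α : A →ₗ[R] B) (yb : B →ₐ[R] K) : A ⊗[R] K →ₗ[R] K :=
  LinearMap.mul' R K ∘ₗ TensorProduct.map (yb.toLinearMap ∘ₗ α) LinearMap.id

theorem lam_tmul (α : A →ₗ[R] B) (yb : B →ₐ[R] K) (a : A) (q : K) : lam α yb (a ⊗ₜ q) = yb (α a) * q := rfl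

theorem lam_one {α : A →ₗ[R] B} (h1 : α 1 = 1) (yb : B →ₐ[R] K) : lam α yb 1 = 1 := by
  rw [Algebra.TensorProduct.one_def, lam_tmul, h1, map_one, _root_.mul_one]

theorem lam_mul (α : A →ₗ[R] B) (yb : B →ₐ[R] K) (r : K) (s : A ⊗[R] K) :
    lam α yb ((Algebra.TensorProduct.includeRight : K →ₐ[R] A ⊗[R] K) r * s) = r * lam α yb s := by
  induction s using TensorProduct.induction_on with
  | zero => simp
  | add a b ha hb => simp only [_root_.mul_add, map_add, ha, hb]
  | tmul a q =>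
    rw [Algebra.TensorProduct.includeRight_apply, Algebra.TensorProduct.tmul_mul_tmul, _root_.one_mul, lam_tmul,
      lam_tmul, mul_left_comm]

/-- `a ⊗ q ↦ a₁ ⊗ g(a₂) f(q)`. -/
def liftD (f : K →ₐ[R] K') (g : A →ₐ[R] K') : A ⊗[R] K →ₐ[R] A ⊗[R] K' :=
  Algebra.TensorProduct.lift ((Algebra.TensorProduct.map (AlgHom.id R A) g).comp (Bialgebra.comulAlgHom R A))
    (Algebra.TensorProduct.includeRight.comp f) fun _ _ => .all _ _

theorem liftD_tmul (f : K →ₐ[R] K') (g : A →ₐ[R] K') (a : A) (q : K) :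
    liftD f g (a ⊗ₜ q) =
      Algebra.TensorProduct.map (AlgHom.id R A) g (Bialgebra.comulAlgHom R A a) * ((1 : A) ⊗ₜ f q) := rfl

theorem liftD_comp_includeRight (f : K →ₐ[R] K') (g : A →ₐ[R] K') :
    (liftD f g).comp Algebra.TensorProduct.includeRight = Algebra.TensorProduct.includeRight.comp f := by
  apply AlgHom.ext
  intro q
  simp [liftD]

theorem pt_liftD_includeRight (f : K →ₐ[R] K') (g : A →ₐ[R] K') :
    pt (liftD f g) ≫ pt Algebra.TensorProduct.includeRight =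
      pt (Algebra.TensorProduct.includeRight : K' →ₐ[R] A ⊗[R] K') ≫ pt f := by
  rw [← pt_comp, liftD_comp_includeRight, pt_comp]

theorem pt_liftD_includeLeft (f : K →ₐ[R] K') (g : A →ₐ[R] K') :
    pt (liftD f g) ≫ pt (Algebra.TensorProduct.includeLeft : A →ₐ[R] A ⊗[R] K) =
      pt (Algebra.TensorProduct.includeLeft : A →ₐ[R] A ⊗[R] K') *
        (pt (Algebra.TensorProduct.includeRight : K' →ₐ[R] A ⊗[R] K') ≫ pt g) := by
  rw [← pt_comp, ← pt_comp, pt_mul_pt]
  congr 1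
  rw [liftD, Algebra.TensorProduct.lift_comp_includeLeft]
  refine congrArg (fun φ => AlgHom.comp φ (Bialgebra.comulAlgHom R A)) ?_
  apply Algebra.TensorProduct.ext' fun a b => ?_
  simp

open WithConv in
theorem lam_liftD {α : A →ₗ[R] B} (hα : Hoch.IsComodHom A α) {yb : B →ₐ[R] K} {yb' : B →ₐ[R] K'}
    {f : K →ₐ[R] K'} {g : A →ₐ[R] K'} (hg : smulPt (action R A B) (pt g) (pt f ≫ pt yb) = pt yb')
    (s : A ⊗[R] K) : lam α yb' (liftD f g s) = f (lam α yb s) := by
  have hy : yb' = (Algebra.TensorProduct.lift (f.comp yb) (g.comp (HopfAlgebra.antipodeAlgHom R A))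
      fun _ _ => .all _ _).comp (GLin.coactAlgHom R A B) := pt_injective (by rw [← smul_pt, pt_comp, hg])
  let u : WithConv (A →ₗ[R] K') := toConv ((f.comp yb).toLinearMap ∘ₗ α)
  let GS : WithConv (A →ₗ[R] K') := toConv (g.toLinearMap ∘ₗ HopfAlgebraStruct.antipode R)
  have hu : yb'.toLinearMap ∘ₗ α = (u * GS).ofConv := by
    refine LinearMap.ext fun a => ?_
    show yb' (α a) = _
    rw [hy, AlgHom.comp_apply, show GLin.coactAlgHom R A B (α a) = α.rTensor A (CoalgebraStruct.comul a) from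
      LinearMap.congr_fun hα a]
    show _ = LinearMap.mul' R K' (TensorProduct.map u.ofConv GS.ofConv (CoalgebraStruct.comul a))
    generalize CoalgebraStruct.comul (R := R) a = t
    induction t using TensorProduct.induction_on with
    | zero => simp
    | add p q hp hq => simp only [map_add, hp, hq]
    | tmul p q => rfl
  have h1 : GS * toConv g.toLinearMap = 1 := by
    have e := LinearMap.algHom_comp_convMul_distrib g (toConv (HopfAlgebraStruct.antipode R)) (toConv LinearMap.id)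
    rw [LinearMap.antipode_mul_id, ofConv_toConv, ofConv_toConv, LinearMap.comp_id] at e
    refine WithConv.ext (Eq.trans (e.symm.trans ?_) rfl)
    refine LinearMap.ext fun c => ?_
    exact g.commutes _
  induction s using TensorProduct.induction_on with
  | zero => simp
  | add p q hp hq => simp only [map_add, hp, hq]
  | tmul a q =>
    have key : ∀ t : A ⊗[R] A, lam α yb' (Algebra.TensorProduct.map (AlgHom.id R A) g t * ((1 : A) ⊗ₜ f q)) =
        LinearMap.mul' R K' (TensorProduct.map (yb'.toLinearMap ∘ₗ α) g.toLinearMap t) * f q := fun t => by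
      induction t using TensorProduct.induction_on with
      | zero => simp
      | add p q hp hq => simp only [map_add, _root_.add_mul, hp, hq]
      | tmul p q =>
        rw [Algebra.TensorProduct.map_tmul, Algebra.TensorProduct.tmul_mul_tmul, _root_.mul_one, lam_tmul,
          TensorProduct.map_tmul, LinearMap.mul'_apply, _root_.mul_assoc]
        rfl
    rw [liftD_tmul, key, hu]
    show ((u * GS) * toConv g.toLinearMap) a * f q = _
    rw [_root_.mul_assoc u, h1, _root_.mul_one, lam_tmul, map_mul]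
    rfl

variable (F : StMod.QCoh (QS R A B))

/-- The extended point. -/
abbrev ext1 (A : Type u) [CommRing A] [Algebra R A] (yb : B →ₐ[R] K) : B →ₐ[R] A ⊗[R] K :=
  Algebra.TensorProduct.includeRight.comp yb

/-- The projection `Spec A × Spec K ⟶ Spec K`. -/
def jHom (yb : B →ₐ[R] K) : tz A (ext1 A yb) ⟶ tz A yb :=
  tHom _ _ (pt Algebra.TensorProduct.includeRight) 1 (by rw [smulPt_one, ← pt_comp])

theorem bmap_tHom {T T' : Over (Spec (CommRingCat.of R))} (x : T ⟶ sp R B) (x' : T' ⟶ sp R B) (f : T ⟶ T')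
    (g : T ⟶ sp R A) (hg : smulPt (action R A B) g (f ≫ x') = x) :
    StMod.bmap (QS R A B) (tHom x x' f g hg) = f.left :=
  congrArg CommaMorphism.left (tHom_base (K := Scheme.fppfPrecoverage) x x' f g hg)

theorem appTop_tHom {yb : B →ₐ[R] K} {yb' : B →ₐ[R] K'} (f : K →ₐ[R] K') (g : sp R K' ⟶ sp R A)
    (hg : smulPt (action R A B) g (pt f ≫ pt yb) = pt yb') (q : K) :
    (StMod.bmap (QS R A B) (tHom (pt yb') (pt yb) (pt f) g hg : tz A yb' ⟶ tz A yb)).appTop (iG K q) =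
      iG K' (f q) := by
  rw [bmap_tHom]
  exact appTop_iG f q

theorem bmap_jHom (yb : B →ₐ[R] K) :
    StMod.bmap (QS R A B) (jHom (A := A) yb) =
      (pt (Algebra.TensorProduct.includeRight : K →ₐ[R] A ⊗[R] K)).left := bmap_tHom _ _ _ _ _

/-- `Φ` integrates along the fibres. -/
def IsAvg (α : A →ₗ[R] B) (yb : B →ₐ[R] K) (Φ : Γ(F.obj.obj (tz A (ext1 A yb)), ⊤) →+ Γ(F.obj.obj (tz A yb), ⊤)) :
    Prop :=
  ∀ (s : A ⊗[R] K) (m : Γ(F.obj.obj (tz A yb), ⊤)),
    Φ (iG (A ⊗[R] K) s • F.obj.mapTop (jHom yb) m) = iG K (lam α yb s) • m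

theorem exists_avg (α : A →ₗ[R] B) (yb : B →ₐ[R] K) : ∃ Φ, IsAvg F α yb Φ := by
  obtain ⟨Φ, hΦ⟩ := exists_retract F (jHom (A := A) yb)
    (fun s => iG K (lam α yb ((Scheme.ΓSpecIso (CommRingCat.of (A ⊗[R] K))).hom s)))
    (fun a b => by simp only [map_add, iG])
    (fun r a => by
      obtain ⟨q, rfl⟩ := exists_iG r
      obtain ⟨t, rfl⟩ := exists_iG a
      erw [appTop_tHom]
      beta_reduce
      rw [← iG_mul, hom_iG, hom_iG, lam_mul, iG_mul])
  exact ⟨Φ, fun s m => by rw [hΦ, hom_iG]⟩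

variable {F}

/-- Induction over the sections on `Spec A × Spec K`. -/
theorem ext1_induction {yb : B →ₐ[R] K} {p : Γ(F.obj.obj (tz A (ext1 A yb)), ⊤) → Prop}
    (hadd : ∀ a b, p a → p b → p (a + b)) (hsmul : ∀ s m, p (iG (A ⊗[R] K) s • F.obj.mapTop (jHom yb) m)) :
    ∀ t, p t :=
  bc_induction F (jHom yb) hadd fun s m => by
    obtain ⟨q, rfl⟩ := exists_iG s
    exact hsmul q m

theorem IsAvg.map_app {G : StMod.QCoh (QS R A B)} (w : F ⟶ G) {α : A →ₗ[R] B} {yb : B →ₐ[R] K} {Φ Ψ}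
    (hΦ : IsAvg F α yb Φ) (hΨ : IsAvg G α yb Ψ) :
    ∀ t, (w.hom.app (tz A yb)).app ⊤ (Φ t) = Ψ ((w.hom.app (tz A (ext1 A yb))).app ⊤ t) :=
  ext1_induction (fun a b ha hb => by simp only [map_add, ha, hb]) fun s m => by
    rw [hΦ, Scheme.Modules.Hom.app_smul, Scheme.Modules.Hom.app_smul, ← StMod.Mod.mapTop_app, hΨ]

/-- The lift of a morphism of trivial objects. -/
theorem exists_lift_hom {yb : B →ₐ[R] K} {yb' : B →ₐ[R] K'} (f : K →ₐ[R] K') (g : A →ₐ[R] K')
    (hg : smulPt (action R A B) (pt g) (pt f ≫ pt yb) = pt yb') :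
    ∃ (hD : smulPt (action R A B) (pt (Algebra.TensorProduct.includeRight : K' →ₐ[R] A ⊗[R] K') ≫ pt g)
      (pt (liftD f g) ≫ pt (ext1 A yb)) = pt (ext1 A yb')), (tHom (K := Scheme.fppfPrecoverage) (pt (ext1 A yb')) (pt (ext1 A yb)) (pt (liftD f g))
        (pt (Algebra.TensorProduct.includeRight : K' →ₐ[R] A ⊗[R] K') ≫ pt g) hD : tz A (ext1 A yb') ⟶ _) ≫
          jHom (A := A) yb = jHom yb' ≫ tHom _ _ (pt f) (pt g) hg := by
  have hD : smulPt (action R A B) (pt (Algebra.TensorProduct.includeRight : K' →ₐ[R] A ⊗[R] K') ≫ pt g)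
      (pt (liftD f g) ≫ pt (ext1 A yb)) = pt (ext1 A yb') := by
    rw [pt_comp yb' (Algebra.TensorProduct.includeRight : K' →ₐ[R] A ⊗[R] K'), ← hg, comp_smulPt, pt_comp, ← Category.assoc,
      pt_liftD_includeRight, Category.assoc]
  refine ⟨hD, ?_⟩
  unfold jHom
  obtain ⟨_, e1⟩ := tHom_comp (K := Scheme.fppfPrecoverage) (aX := action R A B) hD
    (show smulPt (action R A B) 1 (pt Algebra.TensorProduct.includeRight ≫ pt yb) = pt (ext1 A yb) by
      rw [smulPt_one, ← pt_comp])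
  obtain ⟨_, e2⟩ := tHom_comp (K := Scheme.fppfPrecoverage) (aX := action R A B)
    (show smulPt (action R A B) 1 (pt Algebra.TensorProduct.includeRight ≫ pt yb') = pt (ext1 A yb') by
      rw [smulPt_one, ← pt_comp]) hg
  refine e1.trans (Eq.trans ?_ e2.symm)
  exact tHom_congr _ _ (pt_liftD_includeRight f g) (by rw [MonObj.comp_one, _root_.mul_one, _root_.one_mul])

theorem IsAvg.mapTop_tHom {α : A →ₗ[R] B} (hα : Hoch.IsComodHom A α) {yb : B →ₐ[R] K} {yb' : B →ₐ[R] K'}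
    (f : K →ₐ[R] K') (g : A →ₐ[R] K') (hg : smulPt (action R A B) (pt g) (pt f ≫ pt yb) = pt yb') {Φ Φ'}
    (hΦ : IsAvg F α yb Φ) (hΦ' : IsAvg F α yb' Φ')
    (hD : smulPt (action R A B) (pt (Algebra.TensorProduct.includeRight : K' →ₐ[R] A ⊗[R] K') ≫ pt g)
      (pt (liftD f g) ≫ pt (ext1 A yb)) = pt (ext1 A yb')) :
    ∀ t, F.obj.mapTop (tHom (pt yb') (pt yb) (pt f) (pt g) hg : tz A yb' ⟶ tz A yb) (Φ t) =
      Φ' (F.obj.mapTop (tHom (pt (ext1 A yb')) (pt (ext1 A yb)) (pt (liftD f g))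
        (pt (Algebra.TensorProduct.includeRight : K' →ₐ[R] A ⊗[R] K') ≫ pt g) hD :
          tz A (ext1 A yb') ⟶ tz A (ext1 A yb)) t) :=
  ext1_induction (fun a b ha hb => by simp only [map_add, StMod.Mod.mapTop_add, ha, hb]) fun s m => by
    obtain ⟨_, e⟩ := exists_lift_hom f g hg
    rw [hΦ, StMod.Mod.mapTop_smul, StMod.Mod.mapTop_smul, appTop_tHom, appTop_tHom,
      ← StMod.Mod.mapTop_comp, e, StMod.Mod.mapTop_comp, hΦ', lam_liftD hα hg]

section Invariant

variable {E : Over (Spec (CommRingCat.of R))} {yb : B →ₐ[R] K} (ab : K →ₐ[R] A ⊗[R] K) (k : sp R K ⟶ E)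
  (hk : pt ab ≫ k = pt Algebra.TensorProduct.includeRight ≫ k)
  (hx : smulPt (action R A B) (pt (Algebra.TensorProduct.includeLeft : A →ₐ[R] A ⊗[R] K))⁻¹
    (pt ab ≫ pt yb) = pt (ext1 A yb))
  (hext : ∀ {T : Over (Spec (CommRingCat.of R))} (a b : T ⟶ sp R K),
    a ≫ pt yb = b ≫ pt yb → a ≫ k = b ≫ k → a = b)

/-- The action morphism. -/
def actHom : tz A (ext1 A yb) ⟶ tz A yb :=
  tHom _ _ (pt ab) (pt (Algebra.TensorProduct.includeLeft : A →ₐ[R] A ⊗[R] K))⁻¹ hx

include hk hext in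
theorem exists_invariant_lift {F G : StMod.QCoh (QS R A B)} (w : F ⟶ G) {α : A →ₗ[R] B} (hα : Hoch.IsComodHom A α)
    (h1 : α 1 = 1) (m : Γ(F.obj.obj (tz A yb), ⊤))
    (hm : G.obj.mapTop (jHom yb) ((w.hom.app _).app ⊤ m) = G.obj.mapTop (actHom ab hx) ((w.hom.app _).app ⊤ m)) :
    ∃ m', F.obj.mapTop (jHom yb) m' = F.obj.mapTop (actHom ab hx) m' ∧
      (w.hom.app _).app ⊤ m' = (w.hom.app _).app ⊤ m := by
  obtain ⟨Φ, hΦ⟩ := exists_avg F α yb
  obtain ⟨Ψ, hΨ⟩ := exists_avg G α yb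
  obtain ⟨Φ', hΦ'⟩ := exists_avg F α (ext1 A yb)
  refine ⟨Φ (F.obj.mapTop (actHom ab hx) m), ?_, ?_⟩
  · let z := F.obj.mapTop (actHom ab hx) m
    let jp' : sp R (A ⊗[R] (A ⊗[R] K)) ⟶ sp R (A ⊗[R] K) := pt Algebra.TensorProduct.includeRight
    let h' : sp R (A ⊗[R] (A ⊗[R] K)) ⟶ sp R A := pt Algebra.TensorProduct.includeLeft
    obtain ⟨c₀, hc₀⟩ := Groth.Agent.Misc15.AffinePoints.pt_surjective (1 : sp R (A ⊗[R] K) ⟶ sp R A)
    obtain ⟨c₁, hc₁⟩ := Groth.Agent.Misc15.AffinePoints.pt_surjective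
      (pt (Algebra.TensorProduct.includeLeft : A →ₐ[R] A ⊗[R] K))⁻¹
    have hj : smulPt (action R A B) (pt c₀) (pt (Algebra.TensorProduct.includeRight : K →ₐ[R] A ⊗[R] K) ≫ pt yb) = pt (ext1 A yb) := by
      rw [hc₀, smulPt_one, ← pt_comp]
    have ha : smulPt (action R A B) (pt c₁) (pt ab ≫ pt yb) = pt (ext1 A yb) := by rw [hc₁]; exact hx
    have ej : jHom (A := A) yb = tHom _ _ (pt (Algebra.TensorProduct.includeRight : K →ₐ[R] A ⊗[R] K)) (pt c₀) hj := tHom_congr _ _ rfl hc₀.symm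
    have ea : actHom ab hx = tHom _ _ (pt ab) (pt c₁) ha := tHom_congr _ _ rfl hc₁.symm
    obtain ⟨hD₀, -⟩ := exists_lift_hom (Algebra.TensorProduct.includeRight : K →ₐ[R] A ⊗[R] K) c₀ hj
    obtain ⟨hD₁, -⟩ := exists_lift_hom ab c₁ ha
    have lhs := IsAvg.mapTop_tHom hα (Algebra.TensorProduct.includeRight : K →ₐ[R] A ⊗[R] K) c₀ hj hΦ hΦ' hD₀ z
    have rhs := IsAvg.mapTop_tHom hα ab c₁ ha hΦ hΦ' hD₁ z
    rw [← ej] at lhs
    rw [← ea] at rhs
    show F.obj.mapTop _ (Φ z) = F.obj.mapTop _ (Φ z)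
    rw [lhs, rhs, ← StMod.Mod.mapTop_comp, ← StMod.Mod.mapTop_comp]
    refine congrArg Φ' (congrArg (fun q => F.obj.mapTop q m) ?_)
    unfold actHom
    obtain ⟨_, e1⟩ := tHom_comp (K := Scheme.fppfPrecoverage) (aX := action R A B) hD₀ hx
    obtain ⟨_, e2⟩ := tHom_comp (K := Scheme.fppfPrecoverage) (aX := action R A B) hD₁ hx
    refine e1.trans (Eq.trans ?_ e2.symm)
    have hl₀ : pt (liftD Algebra.TensorProduct.includeRight c₀) ≫
        pt (Algebra.TensorProduct.includeLeft : A →ₐ[R] A ⊗[R] K) = h' := by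
      rw [pt_liftD_includeLeft, hc₀, MonObj.comp_one, _root_.mul_one]
    have hl₁ : pt (liftD ab c₁) ≫ pt (Algebra.TensorProduct.includeLeft : A →ₐ[R] A ⊗[R] K) =
        h' * (jp' ≫ pt (Algebra.TensorProduct.includeLeft : A →ₐ[R] A ⊗[R] K))⁻¹ := by
      rw [pt_liftD_includeLeft, hc₁, GrpObj.comp_inv]
    have hab : ∀ {T : Over (Spec (CommRingCat.of R))} (D : T ⟶ sp R (A ⊗[R] K)),
        D ≫ pt ab ≫ pt yb = smulPt (action R A B) (D ≫ pt Algebra.TensorProduct.includeLeft) (D ≫ pt (Algebra.TensorProduct.includeRight : K →ₐ[R] A ⊗[R] K) ≫ pt yb) := by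
      intro T D
      rw [← comp_smulPt, show pt (Algebra.TensorProduct.includeRight : K →ₐ[R] A ⊗[R] K) ≫ pt yb = pt (ext1 A yb)
        from (pt_comp _ _).symm, ← hx, smulPt_smul_inv]
    refine tHom_congr _ _ (hext _ _ ?_ ?_) ?_
    · rw [Category.assoc, Category.assoc, hab, hab, hl₀, hl₁]
      simp only [← Category.assoc, pt_liftD_includeRight]
      rw [Category.assoc jp' (pt ab), hab jp', ← smulPt_mul, _root_.mul_assoc, inv_mul_cancel, _root_.mul_one]
      rfl
    · rw [Category.assoc, Category.assoc, hk]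
      simp only [← Category.assoc, pt_liftD_includeRight]
      rw [Category.assoc jp' (pt ab), hk, Category.assoc]
    · rw [GrpObj.comp_inv, GrpObj.comp_inv, hl₀, hl₁, hc₀, hc₁, MonObj.comp_one, _root_.one_mul, GrpObj.comp_inv,
        _root_.mul_inv_rev, _root_.inv_inv, inv_mul_cancel_left]
  · rw [IsAvg.map_app w hΦ hΨ, ← StMod.Mod.mapTop_app, ← hm]
    have e := hΨ 1 ((w.hom.app (tz A yb)).app ⊤ m)
    rw [iG_one, one_smul, lam_one h1, iG_one, one_smul] at e
    exact e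

end Invariant

end Groth.Agent.TameGood19
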