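import Groth.Agent.TameGood19.CohAffine

/-! Sections over the trivial objects of `[Spec B/G]` as `(B, A)`-modules. -/

set_option autoImplicit false
set_option backward.isDefEq.respectTransparency false
set_option backward.isDefEq.respectTransparency.types false
set_option linter.style.haveILetI false
set_option linter.unusedSectionVars false
set_option maxHeartbeats 400000

universe u

open CategoryTheory CategoryTheory.Limits AlgebraicGeometry MonoidalCategory CartesianMonoidalCategory MonObj GrpObj Opposite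
open CoactBr Groth.Agent.Stk19b.QuotTriv Groth.Agent.HopfLib.SpPoints
open scoped TensorProduct

noncomputable section

namespace Groth.Agent.TameGood19

attribute [local instance] Stk19b.Quot.hasIsos_fppf

variable {R A B : Type u} [CommRing R] [CommRing A] [HopfAlgebra R A]
  [CommRing B] [Algebra R B] [HopfRep.Comod R A B] [GLin.IsCoactAlg R A B]
  {K : Type u} [CommRing K] [Algebra R K]

/-- A function of `B` on the point `yb`. -/
def bG (yb : B →ₐ[R] K) : B →+* Γ(Spec (CommRingCat.of K), ⊤) :=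
  (Scheme.ΓSpecIso (CommRingCat.of K)).inv.hom.comp yb.toRingHom

theorem bG_apply (yb : B →ₐ[R] K) (b : B) : bG yb b = iG K (yb b) := rfl

variable (F : StMod.QCoh (QS R A B))

/-- The sections over a trivial object. -/
def Mk (yb : B →ₐ[R] K) : Type u := Γ(F.obj.obj (tz A yb), ⊤)

instance (yb : B →ₐ[R] K) : AddCommGroup (Mk F yb) := inferInstanceAs (AddCommGroup Γ(F.obj.obj (tz A yb), ⊤))

instance (yb : B →ₐ[R] K) : Module Γ(Spec (CommRingCat.of K), ⊤) (Mk F yb) :=
  inferInstanceAs (Module Γ(StMod.sch (QS R A B) (tz A yb), ⊤) Γ(F.obj.obj (tz A yb), ⊤))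

instance (yb : B →ₐ[R] K) : Module B (Mk F yb) := Module.compHom _ (bG yb)

instance (yb : B →ₐ[R] K) : Module R (Mk F yb) := Module.compHom _ (algebraMap R B)

instance (yb : B →ₐ[R] K) : IsScalarTower R B (Mk F yb) :=
  IsScalarTower.of_algebraMap_smul fun _ _ => rfl

variable {F}

theorem smul_Mk {yb : B →ₐ[R] K} (b : B) (m : Mk F yb) : b • m = iG K (yb b) • m := rfl

theorem smulR_Mk {yb : B →ₐ[R] K} (r : R) (m : Mk F yb) : r • m = iG K (algebraMap R K r) • m := by
  rw [← yb.commutes r]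
  rfl

/-- Pullback along the projection. -/
def jM (yb : B →ₐ[R] K) (m : Mk F yb) : Mk F (ext1 A yb) := F.obj.mapTop (jHom yb) m

theorem jM_add (yb : B →ₐ[R] K) (m m' : Mk F yb) : jM yb (m + m') = jM yb m + jM yb m' :=
  StMod.Mod.mapTop_add ..

theorem jM_smul (yb : B →ₐ[R] K) (q : K) (m : Mk F yb) :
    jM yb (iG K q • m) = iG (A ⊗[R] K) (1 ⊗ₜ q) • jM yb m := by
  refine (StMod.Mod.mapTop_smul F.obj (jHom (A := A) yb) (iG K q) m).trans ?_
  erw [appTop_tHom]
  rfl

theorem iG_add (a b : K) : iG K (a + b) = iG K a + iG K b := map_add _ a b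

theorem iG_zero : iG K (0 : K) = 0 := map_zero _

theorem iG_tmul_smul (r : R) (a : A) (yb : B →ₐ[R] K) (m : Mk F yb) :
    iG (A ⊗[R] K) ((r • a) ⊗ₜ[R] (1 : K)) • jM yb m =
      r • (iG (A ⊗[R] K) (a ⊗ₜ[R] (1 : K)) • jM yb m) := by
  have e : iG (A ⊗[R] K) ((r • a) ⊗ₜ[R] (1 : K)) =
      iG (A ⊗[R] K) (algebraMap R (A ⊗[R] K) r) * iG (A ⊗[R] K) (a ⊗ₜ[R] (1 : K)) := by
    rw [← iG_mul, ← Algebra.smul_def, TensorProduct.smul_tmul']
  rw [e, smulR_Mk r]
  exact mul_smul _ _ _

variable (F) in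
/-- `m ⊗ a ↦ a • pr^* m`. -/
def psi (yb : B →ₐ[R] K) : Mk F yb ⊗[R] A →ₗ[R] Mk F (ext1 A yb) :=
  TensorProduct.lift <| LinearMap.mk₂ R (fun m a => iG (A ⊗[R] K) (a ⊗ₜ (1 : K)) • jM yb m)
    (fun m m' a => by rw [jM_add, smul_add])
    (fun r m a => by
      rw [smulR_Mk r m, jM_smul, smulR_Mk r, smul_smul, smul_smul, ← iG_mul, ← iG_mul, mul_comm]
      congr 3
      rw [← (Algebra.TensorProduct.includeRight : K →ₐ[R] A ⊗[R] K).commutes r]
      rfl)
    (fun m a a' => by rw [TensorProduct.add_tmul, iG_add, add_smul])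
    (fun r m a => iG_tmul_smul r a yb m)

theorem psi_tmul (yb : B →ₐ[R] K) (m : Mk F yb) (a : A) :
    psi F yb (m ⊗ₜ a) = iG (A ⊗[R] K) (a ⊗ₜ (1 : K)) • jM yb m := rfl

theorem psi_one (yb : B →ₐ[R] K) (m : Mk F yb) : psi F yb (m ⊗ₜ 1) = jM yb m := by
  rw [psi_tmul, ← Algebra.TensorProduct.one_def, iG_one, one_smul]

/-- The inverse of `psi`, on generators. -/
def psiInvGen (yb : B →ₐ[R] K) (m : Mk F yb) : A ⊗[R] K →ₗ[R] Mk F yb ⊗[R] A :=
  (TensorProduct.comm R A (Mk F yb)).toLinearMap ∘ₗ LinearMap.lTensor A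
    { toFun := fun q => iG K q • m
      map_add' := fun a b => by rw [iG_add, add_smul]
      map_smul' := fun r q => by rw [Algebra.smul_def, iG_mul, mul_smul, ← smulR_Mk]; rfl }

theorem psiInvGen_tmul (yb : B →ₐ[R] K) (m : Mk F yb) (a : A) (q : K) :
    psiInvGen yb m (a ⊗ₜ q) = (iG K q • m) ⊗ₜ a := rfl

theorem exists_lift (F : StMod.QCoh (QS R A B)) {ξ' ξ : (QS R A B).obj} (φ : ξ' ⟶ ξ)
    [IsAffine (StMod.sch _ ξ)] [IsAffine (StMod.sch _ ξ')] {M' : Type u} [AddCommGroup M']
    (β : Γ(StMod.sch _ ξ', ⊤) → Γ(F.obj.obj ξ, ⊤) → M') (hadd : ∀ a b m, β (a + b) m = β a m + β b m)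
    (hadd' : ∀ a m m', β a (m + m') = β a m + β a m')
    (hmul : ∀ r a m, β ((StMod.bmap _ φ).appTop r * a) m = β a (r • m)) :
    ∃ Φ : Γ(F.obj.obj ξ', ⊤) →+ M', ∀ s m, Φ (s • F.obj.mapTop φ m) = β s m := by
  haveI : Coh.IsQCoh (F.obj.obj ξ) := F.property.2 ξ
  open Groth.Agent.Desc19b.QDesc in
  let T : Fn (StMod.bmap _ φ) ⊗[Γ(StMod.sch _ ξ, ⊤)] Γ(F.obj.obj ξ, ⊤) →+ M' :=
    TensorProduct.liftAddHom
      (AddMonoidHom.mk' (fun s => AddMonoidHom.mk' (β s) (hadd' s)) fun a b => AddMonoidHom.ext fun m => hadd a b m)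
      fun r s m => hmul r s m
  open Groth.Agent.Desc19b.QDesc in
  let c : Fn (StMod.bmap _ φ) ⊗[Γ(StMod.sch _ ξ, ⊤)] Γ(F.obj.obj ξ, ⊤) → Γ(F.obj.obj ξ', ⊤) :=
    fun w => (theta F.obj φ rfl).app ⊤ (bcMap (StMod.bmap _ φ) (F.obj.obj ξ) w).val
  open Groth.Agent.Desc19b.QDesc in
  have hc : Function.Bijective c :=
    (theta_bijective F φ rfl).comp (Sec.val_bijective.comp (bijective_bcMap _ _))
  open Groth.Agent.Desc19b.QDesc in
  have hca : ∀ a b, c (a + b) = c a + c b := fun a b => by simp only [c, map_add, Sec.val_add]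
  let e := AddEquiv.mk (Equiv.ofBijective c hc) hca
  refine ⟨T.comp e.symm.toAddMonoidHom, fun s m => ?_⟩
  open Groth.Agent.Desc19b.QDesc in
  have he : e ((show Fn (StMod.bmap _ φ) from s) ⊗ₜ m) = s • F.obj.mapTop φ m := by
    show c _ = _
    simp only [c, bcMap_tmul, Sec.val_fn_smul, Scheme.Modules.Hom.app_smul, theta_app_pl]
  show T (e.symm (s • F.obj.mapTop φ m)) = _
  rw [← he, AddEquiv.symm_apply_apply]
  rfl

theorem psi_bijective (yb : B →ₐ[R] K) : Function.Bijective (psi F yb) := by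
  constructor
  · obtain ⟨Φ, hΦ⟩ := exists_lift F (jHom (A := A) yb)
      (fun s (m : Mk F yb) => psiInvGen yb m ((Scheme.ΓSpecIso (CommRingCat.of (A ⊗[R] K))).hom s))
      (fun a b m => by simp only [map_add])
      (fun a m m' => by
        obtain ⟨t, rfl⟩ := exists_iG a
        rw [hom_iG]
        induction t using TensorProduct.induction_on with
        | zero => simp
        | add x y hx hy => simp only [map_add, hx, hy]; abel
        | tmul a q => rw [psiInvGen_tmul, psiInvGen_tmul, psiInvGen_tmul, ← TensorProduct.add_tmul]; congr 1; exact smul_add _ _ _)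
      (fun r a m => by
        obtain ⟨q, rfl⟩ := exists_iG r
        obtain ⟨t, rfl⟩ := exists_iG a
        erw [appTop_tHom]
        beta_reduce
        rw [← iG_mul, hom_iG, hom_iG]
        induction t using TensorProduct.induction_on with
        | zero => simp
        | add x y hx hy => simp only [_root_.mul_add, map_add, hx, hy]
        | tmul a p =>
          rw [Algebra.TensorProduct.includeRight_apply, Algebra.TensorProduct.tmul_mul_tmul, _root_.one_mul,
            psiInvGen_tmul, psiInvGen_tmul, mul_comm q p, iG_mul]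
          congr 1
          exact mul_smul _ _ _)
    have h : ∀ x, Φ (psi F yb x) = x := fun x => by
      induction x using TensorProduct.induction_on with
      | zero => rw [map_zero]; exact map_zero Φ
      | add x y hx hy => rw [map_add]; exact (map_add Φ _ _).trans (congrArg₂ _ hx hy)
      | tmul m a =>
        refine (hΦ (iG (A ⊗[R] K) (a ⊗ₜ 1)) m).trans ?_
        rw [hom_iG, psiInvGen_tmul, iG_one, one_smul]
    exact Function.LeftInverse.injective h
  · refine ext1_induction (F := F) (fun a b ⟨x, hx⟩ ⟨y, hy⟩ => ⟨x + y, (map_add _ x y).trans (congrArg₂ _ hx hy)⟩)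
      fun s m => ?_
    induction s using TensorProduct.induction_on with
    | zero => exact ⟨0, by rw [map_zero, iG_zero]; exact (zero_smul _ (jM (A := A) yb m)).symm⟩
    | add x y hx hy =>
      obtain ⟨u, hu⟩ := hx
      obtain ⟨v, hv⟩ := hy
      refine ⟨u + v, ?_⟩
      rw [iG_add]
      exact ((map_add _ u v).trans (congrArg₂ _ hu hv)).trans (add_smul _ _ _).symm
    | tmul a q =>
      refine ⟨(iG K q • (show Mk F yb from m)) ⊗ₜ a, ?_⟩
      rw [psi_tmul, jM_smul, smul_smul, ← iG_mul, Algebra.TensorProduct.tmul_mul_tmul, _root_.mul_one, _root_.one_mul]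
      rfl

section Coaction

variable {E : Over (Spec (CommRingCat.of R))} {yb : B →ₐ[R] K} (rb : K →ₐ[R] A ⊗[R] K) (k : sp R K ⟶ E)
  (hk : pt rb ≫ k = pt (Algebra.TensorProduct.includeRight : K →ₐ[R] A ⊗[R] K) ≫ k)
  (hr : smulPt (action R A B) (pt (Algebra.TensorProduct.includeLeft : A →ₐ[R] A ⊗[R] K))
    (pt rb ≫ pt yb) = pt (ext1 A yb))
  (hext : ∀ {T : Over (Spec (CommRingCat.of R))} (a b : T ⟶ sp R K),
    a ≫ pt yb = b ≫ pt yb → a ≫ k = b ≫ k → a = b)

/-- The morphism of the coaction. -/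
def rHom : tz A (ext1 A yb) ⟶ tz A yb :=
  tHom _ _ (pt rb) (pt (Algebra.TensorProduct.includeLeft : A →ₐ[R] A ⊗[R] K)) hr

include hr in
theorem rb_yb (b : B) : rb (yb b) = Algebra.TensorProduct.map (AlgHom.id R A) yb
    ((Algebra.TensorProduct.comm R B A) (GLin.coactAlgHom R A B b)) := by
  have e : pt rb ≫ pt yb = smulPt (action R A B)
      (pt (Algebra.TensorProduct.includeLeft : A →ₐ[R] A ⊗[R] K))⁻¹ (pt (ext1 A yb)) := by
    rw [← hr, smulPt_inv_smul]
  rw [← pt_comp] at e
  rw [show smulPt (action R A B) (pt (Algebra.TensorProduct.includeLeft : A →ₐ[R] A ⊗[R] K))⁻¹ (pt (ext1 A yb)) =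
      lift (pt (ext1 A yb)) (pt (Algebra.TensorProduct.includeLeft : A →ₐ[R] A ⊗[R] K)) ≫ ract R A B by
    show lift _ _ ≫ _ = _
    rw [lift_action_act, _root_.inv_inv], lift_pt_ract] at e
  rw [← AlgHom.comp_apply, pt_injective e, AlgHom.comp_apply]
  generalize GLin.coactAlgHom R A B b = t
  induction t using TensorProduct.induction_on with
  | zero => simp
  | add x y hx hy => simp only [map_add, hx, hy]
  | tmul x a => simp

variable (F) in
/-- `psi` as an equivalence. -/
def psiE (yb : B →ₐ[R] K) : Mk F yb ⊗[R] A ≃ₗ[R] Mk F (ext1 A yb) :=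
  LinearEquiv.ofBijective (psi F yb) (psi_bijective yb)

/-- Pullback along the morphism of the coaction. -/
def rM (m : Mk F yb) : Mk F (ext1 A yb) := F.obj.mapTop (rHom rb hr) m

theorem rM_add (m m' : Mk F yb) : rM rb hr (m + m') = rM rb hr m + rM rb hr m' :=
  StMod.Mod.mapTop_add ..

theorem rM_smul (q : K) (m : Mk F yb) : rM rb hr (iG K q • m) = iG (A ⊗[R] K) (rb q) • rM rb hr m := by
  refine (StMod.Mod.mapTop_smul F.obj (rHom rb hr) (iG K q) m).trans ?_
  erw [appTop_tHom]
  rfl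

theorem rM_smulR (r : R) (m : Mk F yb) : rM rb hr (r • m) = r • rM rb hr m := by
  rw [smulR_Mk r m, rM_smul, smulR_Mk r, rb.commutes]

variable (F) in
/-- The coaction on the sections. -/
def coactM : Mk F yb →ₗ[R] Mk F yb ⊗[R] A :=
  (psiE F yb).symm.toLinearMap ∘ₗ
    { toFun := rM rb hr
      map_add' := rM_add rb hr
      map_smul' := rM_smulR rb hr }

theorem psi_coactM (m : Mk F yb) : psi F yb (coactM F rb hr m) = rM rb hr m :=
  (psiE F yb).apply_symm_apply _

theorem pt_map_includeRight :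
    pt (Algebra.TensorProduct.map (AlgHom.id R A) rb) ≫
        pt (Algebra.TensorProduct.includeRight : K →ₐ[R] A ⊗[R] K) =
      pt (Algebra.TensorProduct.includeRight : A ⊗[R] K →ₐ[R] A ⊗[R] (A ⊗[R] K)) ≫ pt rb := by
  rw [← pt_comp, ← pt_comp]
  exact congrArg pt (AlgHom.ext fun q => by simp)

theorem pt_map_includeLeft :
    pt (Algebra.TensorProduct.map (AlgHom.id R A) rb) ≫
        pt (Algebra.TensorProduct.includeLeft : A →ₐ[R] A ⊗[R] K) =
      pt (Algebra.TensorProduct.includeLeft : A →ₐ[R] A ⊗[R] (A ⊗[R] K)) := by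
  rw [← pt_comp]
  exact congrArg pt (AlgHom.ext fun q => by simp)

/-- `a ⊗ q ↦ a₂ ⊗ (a₁ ⊗ q)`. -/
def liftC : A ⊗[R] K →ₐ[R] A ⊗[R] (A ⊗[R] K) :=
  Algebra.TensorProduct.lift
    ((Algebra.TensorProduct.map (AlgHom.id R A) Algebra.TensorProduct.includeLeft).comp
      ((Algebra.TensorProduct.comm R A A).toAlgHom.comp (Bialgebra.comulAlgHom R A)))
    (Algebra.TensorProduct.includeRight.comp Algebra.TensorProduct.includeRight) fun _ _ => .all _ _

theorem pt_liftC_includeRight :
    pt (liftC : A ⊗[R] K →ₐ[R] _) ≫ pt (Algebra.TensorProduct.includeRight : K →ₐ[R] A ⊗[R] K) =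
      pt (Algebra.TensorProduct.includeRight : A ⊗[R] K →ₐ[R] A ⊗[R] (A ⊗[R] K)) ≫
        pt (Algebra.TensorProduct.includeRight : K →ₐ[R] A ⊗[R] K) := by
  rw [← pt_comp, ← pt_comp]
  exact congrArg pt (AlgHom.ext fun q => by simp [liftC])

theorem pt_liftC_includeLeft :
    pt (liftC : A ⊗[R] K →ₐ[R] _) ≫ pt (Algebra.TensorProduct.includeLeft : A →ₐ[R] A ⊗[R] K) =
      (pt (Algebra.TensorProduct.includeRight : A ⊗[R] K →ₐ[R] A ⊗[R] (A ⊗[R] K)) ≫
          pt (Algebra.TensorProduct.includeLeft : A →ₐ[R] A ⊗[R] K)) *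
        pt (Algebra.TensorProduct.includeLeft : A →ₐ[R] A ⊗[R] (A ⊗[R] K)) := by
  rw [← pt_comp, ← pt_comp, pt_mul_pt]
  congr 1
  refine AlgHom.ext fun a => ?_
  simp only [liftC, AlgHom.comp_apply, Algebra.TensorProduct.includeLeft_apply, Algebra.TensorProduct.lift_tmul,
    map_one, _root_.mul_one]
  generalize Bialgebra.comulAlgHom R A a = t
  induction t using TensorProduct.induction_on with
  | zero => simp
  | add x y hx hy => simp only [map_add, hx, hy]
  | tmul x y => simp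

include hk hext in
theorem coassocM :
    (TensorProduct.assoc R (Mk F yb) A A).toLinearMap ∘ₗ (coactM F rb hr).rTensor A ∘ₗ coactM F rb hr =
      (CoalgebraStruct.comul (R := R) (A := A)).lTensor (Mk F yb) ∘ₗ coactM F rb hr := by
  let Ξ : Mk F yb ⊗[R] A ⊗[R] A ≃ₗ[R] Mk F (ext1 A (ext1 A yb)) :=
    (TensorProduct.congr (psiE F yb) (LinearEquiv.refl R A)).trans (psiE F (ext1 A yb))
  let Θ : Mk F yb ⊗[R] (A ⊗[R] A) →ₗ[R] Mk F (ext1 A (ext1 A yb)) :=
    Ξ.toLinearMap ∘ₗ (TensorProduct.assoc R (Mk F yb) A A).symm.toLinearMap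
  have hΘ : Function.Injective Θ := Ξ.injective.comp (TensorProduct.assoc R (Mk F yb) A A).symm.injective
  let h₁ : sp R (A ⊗[R] (A ⊗[R] K)) ⟶ sp R A := pt Algebra.TensorProduct.includeLeft
  let jp' : sp R (A ⊗[R] (A ⊗[R] K)) ⟶ sp R (A ⊗[R] K) := pt Algebra.TensorProduct.includeRight
  let h₂ : sp R (A ⊗[R] (A ⊗[R] K)) ⟶ sp R A :=
    jp' ≫ pt (Algebra.TensorProduct.includeLeft : A →ₐ[R] A ⊗[R] K)
  have hH : smulPt (action R A B) h₂ (pt (Algebra.TensorProduct.map (AlgHom.id R A) rb) ≫ pt (ext1 A yb)) =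
      pt (ext1 A (ext1 A yb)) := by
    have e := congrArg (jp' ≫ ·) hr
    simp only [comp_smulPt] at e
    rw [pt_comp yb (Algebra.TensorProduct.includeRight : K →ₐ[R] A ⊗[R] K), ← Category.assoc,
      pt_map_includeRight, Category.assoc, e, ← pt_comp]
  have hC : smulPt (action R A B) 1 (pt (liftC : A ⊗[R] K →ₐ[R] _) ≫ pt (ext1 A yb)) = pt (ext1 A (ext1 A yb)) := by
    rw [smulPt_one, pt_comp yb (Algebra.TensorProduct.includeRight : K →ₐ[R] A ⊗[R] K), ← Category.assoc,
      pt_liftC_includeRight, Category.assoc, ← pt_comp, ← pt_comp]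
  let H : tz A (ext1 A (ext1 A yb)) ⟶ tz A (ext1 A yb) := tHom _ _ _ h₂ hH
  let C : tz A (ext1 A (ext1 A yb)) ⟶ tz A (ext1 A yb) := tHom _ _ _ 1 hC
  have hj₁ : smulPt (action R A B) 1 (pt (Algebra.TensorProduct.includeRight : K →ₐ[R] A ⊗[R] K) ≫ pt yb) =
      pt (ext1 A yb) := by rw [smulPt_one, ← pt_comp]
  have hj₂ : smulPt (action R A B) 1
      (pt (Algebra.TensorProduct.includeRight : A ⊗[R] K →ₐ[R] A ⊗[R] (A ⊗[R] K)) ≫ pt (ext1 A yb)) =
      pt (ext1 A (ext1 A yb)) := by rw [smulPt_one, ← pt_comp]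
  have eH : H ≫ jHom yb = jHom (ext1 A yb) ≫ rHom rb hr := by
    obtain ⟨_, e1⟩ := tHom_comp (K := Scheme.fppfPrecoverage) (aX := action R A B) hH hj₁
    obtain ⟨_, e2⟩ := tHom_comp (K := Scheme.fppfPrecoverage) (aX := action R A B) hj₂ hr
    refine e1.trans (Eq.trans ?_ e2.symm)
    exact tHom_congr _ _ (pt_map_includeRight rb) (by rw [MonObj.comp_one, _root_.mul_one, _root_.one_mul])
  have eC : C ≫ jHom yb = jHom (ext1 A yb) ≫ jHom yb := by
    obtain ⟨_, e1⟩ := tHom_comp (K := Scheme.fppfPrecoverage) (aX := action R A B) hC hj₁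
    obtain ⟨_, e2⟩ := tHom_comp (K := Scheme.fppfPrecoverage) (aX := action R A B) hj₂ hj₁
    refine e1.trans (Eq.trans ?_ e2.symm)
    exact tHom_congr _ _ pt_liftC_includeRight (by simp only [MonObj.comp_one])
  have eR : H ≫ rHom rb hr = C ≫ rHom rb hr := by
    obtain ⟨v1, e1⟩ := tHom_comp (K := Scheme.fppfPrecoverage) (aX := action R A B) hH hr
    obtain ⟨v2, e2⟩ := tHom_comp (K := Scheme.fppfPrecoverage) (aX := action R A B) hC hr
    have eg : h₂ * (pt (Algebra.TensorProduct.map (AlgHom.id R A) rb) ≫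
          pt (Algebra.TensorProduct.includeLeft : A →ₐ[R] A ⊗[R] K)) =
        1 * (pt (liftC : A ⊗[R] K →ₐ[R] _) ≫ pt (Algebra.TensorProduct.includeLeft : A →ₐ[R] A ⊗[R] K)) := by
      rw [_root_.one_mul, pt_map_includeLeft, pt_liftC_includeLeft]
    refine e1.trans (Eq.trans ?_ e2.symm)
    refine tHom_congr _ _ (hext _ _ ?_ ?_) eg
    · rw [← eg] at v2
      have := congrArg (smulPt (action R A B) (h₂ * (pt (Algebra.TensorProduct.map (AlgHom.id R A) rb) ≫
          pt (Algebra.TensorProduct.includeLeft : A →ₐ[R] A ⊗[R] K)))⁻¹) (v1.trans v2.symm)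
      simpa only [smulPt_inv_smul] using this
    · simp only [Category.assoc, hk]
      simp only [← Category.assoc, pt_map_includeRight, pt_liftC_includeRight]
      simp only [Category.assoc, hk]
  have hΘl : ∀ (x : Mk F yb ⊗[R] A) (a : A),
      Ξ (x ⊗ₜ a) = iG (A ⊗[R] (A ⊗[R] K)) (a ⊗ₜ (1 : A ⊗[R] K)) • jM (ext1 A yb) (psi F yb x) := fun x a => rfl
  have hL : ∀ x, Ξ ((coactM F rb hr).rTensor A x) =
      (show Mk F (ext1 A (ext1 A yb)) from F.obj.mapTop H (psi F yb x)) := by
    intro x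
    induction x using TensorProduct.induction_on with
    | zero =>
      rw [map_zero, map_zero, map_zero]
      exact (StMod.Mod.mapTop_zero F.obj H).symm
    | add x y hx hy =>
      rw [map_add, map_add, map_add, hx, hy]
      exact (StMod.Mod.mapTop_add F.obj H _ _).symm
    | tmul m a =>
      rw [LinearMap.rTensor_tmul, hΘl, psi_coactM, psi_tmul]
      refine Eq.trans ?_ (StMod.Mod.mapTop_smul F.obj H (iG (A ⊗[R] K) (a ⊗ₜ 1)) (jM yb m)).symm
      erw [appTop_tHom]
      rw [Algebra.TensorProduct.map_tmul, map_one]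
      refine congrArg (iG (A ⊗[R] (A ⊗[R] K)) (a ⊗ₜ (1 : A ⊗[R] K)) • ·) ?_
      refine Eq.trans ?_ (StMod.Mod.mapTop_comp F.obj H (jHom yb) m)
      rw [eH]
      exact (StMod.Mod.mapTop_comp F.obj (jHom (ext1 A yb)) (rHom rb hr) m).symm
  have hR : ∀ x, Θ ((CoalgebraStruct.comul (R := R) (A := A)).lTensor (Mk F yb) x) =
      (show Mk F (ext1 A (ext1 A yb)) from F.obj.mapTop C (psi F yb x)) := by
    intro x
    induction x using TensorProduct.induction_on with
    | zero =>
      rw [map_zero, map_zero, map_zero]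
      exact (StMod.Mod.mapTop_zero F.obj C).symm
    | add x y hx hy =>
      rw [map_add, map_add, map_add, hx, hy]
      exact (StMod.Mod.mapTop_add F.obj C _ _).symm
    | tmul m a =>
      rw [LinearMap.lTensor_tmul, psi_tmul]
      refine Eq.trans ?_ (StMod.Mod.mapTop_smul F.obj C (iG (A ⊗[R] K) (a ⊗ₜ 1)) (jM yb m)).symm
      erw [appTop_tHom]
      refine Eq.trans ?_ (congrArg (iG (A ⊗[R] (A ⊗[R] K)) (liftC (a ⊗ₜ (1 : K))) • ·)
        ((congrArg (fun q => F.obj.mapTop q m) eC).symm.trans (StMod.Mod.mapTop_comp F.obj C (jHom yb) m)))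
      have hj : F.obj.mapTop (jHom (ext1 A yb) ≫ jHom yb) m = jM (ext1 A yb) (jM yb m) :=
        StMod.Mod.mapTop_comp F.obj _ _ m
      show _ = iG (A ⊗[R] (A ⊗[R] K)) (liftC (a ⊗ₜ (1 : K))) •
        (show Mk F (ext1 A (ext1 A yb)) from F.obj.mapTop (jHom (ext1 A yb) ≫ jHom yb) m)
      rw [hj, show liftC (a ⊗ₜ (1 : K)) = Algebra.TensorProduct.map (AlgHom.id R A) Algebra.TensorProduct.includeLeft
        (Algebra.TensorProduct.comm R A A (Bialgebra.comulAlgHom R A a)) from by
          rw [liftC, Algebra.TensorProduct.lift_tmul, map_one, _root_.mul_one]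
          rfl]
      show Θ (m ⊗ₜ CoalgebraStruct.comul a) = _
      rw [show Bialgebra.comulAlgHom R A a = CoalgebraStruct.comul (R := R) a from rfl]
      generalize CoalgebraStruct.comul (R := R) a = t
      induction t using TensorProduct.induction_on with
      | zero =>
        rw [TensorProduct.tmul_zero, map_zero, map_zero, map_zero, iG_zero]
        exact (zero_smul _ _).symm
      | add x y hx hy =>
        rw [TensorProduct.tmul_add, map_add, hx, hy, map_add, map_add, iG_add]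
        exact (add_smul _ _ _).symm
      | tmul p q =>
        show Ξ ((m ⊗ₜ p) ⊗ₜ q) = _
        rw [hΘl, psi_tmul, jM_smul, smul_smul, ← iG_mul, Algebra.TensorProduct.comm_tmul,
          Algebra.TensorProduct.map_tmul, Algebra.TensorProduct.tmul_mul_tmul, _root_.mul_one, _root_.one_mul]
        rfl
  refine LinearMap.ext fun m => hΘ ?_
  show Ξ ((TensorProduct.assoc R (Mk F yb) A A).symm ((TensorProduct.assoc R (Mk F yb) A A) _)) =
    Θ ((CoalgebraStruct.comul (R := R) (A := A)).lTensor (Mk F yb) (coactM F rb hr m))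
  rw [LinearEquiv.symm_apply_apply, LinearMap.comp_apply, hL, hR]
  rw [psi_coactM]
  show F.obj.mapTop H (F.obj.mapTop (rHom rb hr) m) = F.obj.mapTop C (F.obj.mapTop (rHom rb hr) m)
  rw [← StMod.Mod.mapTop_comp, ← StMod.Mod.mapTop_comp, eR]

include hk hext in
theorem counitM :
    (CoalgebraStruct.counit (R := R) (A := A)).lTensor (Mk F yb) ∘ₗ coactM F rb hr =
      (TensorProduct.mk R (Mk F yb) R).flip 1 := by
  let c₀ : A ⊗[R] K →ₐ[R] K :=
    Algebra.TensorProduct.lift ((Algebra.ofId R K).comp (Bialgebra.counitAlgHom R A)) (AlgHom.id R K) fun _ _ => .all _ _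
  have h0r : pt c₀ ≫ pt (Algebra.TensorProduct.includeRight : K →ₐ[R] A ⊗[R] K) = 𝟙 _ := by
    rw [← pt_comp, show c₀.comp Algebra.TensorProduct.includeRight = AlgHom.id R K from
      AlgHom.ext fun q => by simp [c₀], pt_id]
  have h0l : pt c₀ ≫ pt (Algebra.TensorProduct.includeLeft : A →ₐ[R] A ⊗[R] K) = 1 := by
    rw [← pt_comp, Algebra.TensorProduct.lift_comp_includeLeft, ← one_eq_pt]
  have hU : smulPt (action R A B) 1 (pt c₀ ≫ pt (ext1 A yb)) = pt yb := by
    rw [smulPt_one, pt_comp yb (Algebra.TensorProduct.includeRight : K →ₐ[R] A ⊗[R] K), ← Category.assoc, h0r,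
      Category.id_comp]
  let U : tz A yb ⟶ tz A (ext1 A yb) := tHom _ _ _ 1 hU
  have hj₁ : smulPt (action R A B) 1 (pt (Algebra.TensorProduct.includeRight : K →ₐ[R] A ⊗[R] K) ≫ pt yb) =
      pt (ext1 A yb) := by rw [smulPt_one, ← pt_comp]
  have hid : smulPt (action R A B) 1 (𝟙 (sp R K) ≫ pt yb) = pt yb := by rw [Category.id_comp, smulPt_one]
  have ei : 𝟙 (tz A yb) = tHom (pt yb) (pt yb) (𝟙 _) 1 hid := by
    refine AlgSt.QuotObj.hom_ext (tHom_base _ _ _ _ _).symm ?_
    rw [tHom_top, MonObj.comp_one, _root_.mul_one, Category.comp_id]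
    exact lift_fst_snd.symm
  have eUj : U ≫ jHom yb = 𝟙 _ := by
    obtain ⟨_, e1⟩ := tHom_comp (K := Scheme.fppfPrecoverage) (aX := action R A B) hU hj₁
    refine e1.trans (Eq.trans ?_ ei.symm)
    exact tHom_congr _ _ h0r (by rw [MonObj.comp_one, _root_.mul_one])
  have eUr : U ≫ rHom rb hr = 𝟙 _ := by
    obtain ⟨v, e1⟩ := tHom_comp (K := Scheme.fppfPrecoverage) (aX := action R A B) hU hr
    have eg : 1 * (pt c₀ ≫ pt (Algebra.TensorProduct.includeLeft : A →ₐ[R] A ⊗[R] K)) = 1 := by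
      rw [h0l, _root_.mul_one]
    refine e1.trans (Eq.trans ?_ ei.symm)
    refine tHom_congr _ _ (hext _ _ ?_ ?_) eg
    · rw [eg, smulPt_one] at v
      rw [v, Category.id_comp]
    · rw [Category.assoc, hk, ← Category.assoc, h0r]
  have key : ∀ x : Mk F yb ⊗[R] A, TensorProduct.rid R (Mk F yb)
      ((CoalgebraStruct.counit (R := R) (A := A)).lTensor (Mk F yb) x) =
      (show Mk F yb from F.obj.mapTop U (psi F yb x)) := by
    intro x
    induction x using TensorProduct.induction_on with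
    | zero =>
      rw [map_zero, map_zero, map_zero]
      exact (StMod.Mod.mapTop_zero F.obj U).symm
    | add x y hx hy =>
      rw [map_add, map_add, map_add, hx, hy]
      exact (StMod.Mod.mapTop_add F.obj U _ _).symm
    | tmul m a =>
      rw [LinearMap.lTensor_tmul, TensorProduct.rid_tmul, psi_tmul]
      refine Eq.trans ?_ (StMod.Mod.mapTop_smul F.obj U (iG (A ⊗[R] K) (a ⊗ₜ 1)) (jM yb m)).symm
      erw [appTop_tHom]
      rw [smulR_Mk]
      refine Eq.trans ?_ (congrArg (iG K (c₀ (a ⊗ₜ (1 : K))) • ·)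
        ((StMod.Mod.mapTop_id F.obj (ξ := tz A yb) m).symm.trans
          ((congrArg (fun q => F.obj.mapTop q m) eUj).symm.trans (StMod.Mod.mapTop_comp F.obj U (jHom yb) m))))
      simp [c₀]
  refine LinearMap.ext fun m => (TensorProduct.rid R (Mk F yb)).injective ?_
  show TensorProduct.rid R (Mk F yb) ((CoalgebraStruct.counit (R := R) (A := A)).lTensor (Mk F yb)
    (coactM F rb hr m)) = TensorProduct.rid R (Mk F yb) (m ⊗ₜ (1 : R))
  rw [key, psi_coactM, TensorProduct.rid_tmul, one_smul]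
  show F.obj.mapTop U (F.obj.mapTop (rHom rb hr) m) = m
  rw [← StMod.Mod.mapTop_comp, eUr]
  exact StMod.Mod.mapTop_id F.obj (ξ := tz A yb) m

variable (F) in
/-- The comodule of sections. -/
abbrev comodM : HopfRep.Comod R A (Mk F yb) where
  coact := coactM F rb hr
  coassoc := coassocM rb k hk hr hext
  counit_comp := counitM rb k hk hr hext

theorem smul_congr₂ {P N : Type u} [CommRing P] [AddCommGroup N] [Module P N] {a b c d : P} (h : a * b = c * d) (n : N) :
    a • b • n = c • d • n := by rw [← mul_smul, h, mul_smul]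

theorem psi_hmSMul (t : B ⊗[R] A) (x : Mk F yb ⊗[R] A) :
    psi F yb (TameAct.hmSMul R A B (Mk F yb) t x) =
      iG (A ⊗[R] K) (Algebra.TensorProduct.map (AlgHom.id R A) yb (Algebra.TensorProduct.comm R B A t)) •
        psi F yb x := by
  induction t using TensorProduct.induction_on with
  | zero => rw [map_zero, LinearMap.zero_apply, map_zero, map_zero, map_zero, iG_zero, zero_smul]
  | add t t' h h' => rw [map_add, LinearMap.add_apply, map_add, h, h', map_add, map_add, iG_add, add_smul]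
  | tmul b a =>
    induction x using TensorProduct.induction_on with
    | zero => rw [map_zero, map_zero, smul_zero]
    | add x y hx hy => rw [map_add, map_add, hx, hy, map_add, smul_add]
    | tmul m a' =>
      rw [TameAct.hmSMul_tmul, psi_tmul, smul_Mk b m, jM_smul, psi_tmul]
      refine smul_congr₂ (P := Γ(Spec (CommRingCat.of (A ⊗[R] K)), ⊤)) (N := Mk F (ext1 A yb)) ?_ (jM yb m)
      rw [← iG_mul, ← iG_mul]
      have e : (a * a') ⊗ₜ[R] (1 : K) * (1 : A) ⊗ₜ[R] yb b =
          Algebra.TensorProduct.map (AlgHom.id R A) yb (Algebra.TensorProduct.comm R B A (b ⊗ₜ[R] a)) *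
            a' ⊗ₜ[R] (1 : K) := by simp
      rw [e]

include hk hext in
theorem isHopfMod :
    letI := comodM F rb k hk hr hext
    TameAct.IsHopfMod R A B (Mk F yb) := by
  letI := comodM F rb k hk hr hext
  refine ⟨fun b m => (psiE F yb).injective ?_⟩
  show psi F yb (coactM F rb hr (b • m)) =
    psi F yb (TameAct.hmSMul R A B (Mk F yb) _ (coactM F rb hr m))
  rw [psi_hmSMul, psi_coactM, psi_coactM, smul_Mk, rM_smul, rb_yb rb hr, GLin.coactAlgHom_apply]

theorem coactM_eq_iff (m : Mk F yb) : coactM F rb hr m = m ⊗ₜ 1 ↔ rM rb hr m = jM yb m := by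
  rw [← psi_coactM rb hr m, ← psi_one]
  exact (psiE F yb).injective.eq_iff.symm

variable (F) in
/-- A morphism of modules on sections. -/
def wM {G : StMod.QCoh (QS R A B)} (w : F ⟶ G) (z : B →ₐ[R] K) : Mk F z →+ Mk G z :=
  ((w.hom.app (tz A z)).app ⊤).hom

theorem psi_map {G : StMod.QCoh (QS R A B)} (w : F ⟶ G) (x : Mk F yb ⊗[R] A) (f : Mk F yb →ₗ[R] Mk G yb)
    (hf : ∀ m, f m = (w.hom.app (tz A yb)).app ⊤ m) :
    wM F w (ext1 A yb) (psi F yb x) = psi G yb (f.rTensor A x) := by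
  induction x using TensorProduct.induction_on with
  | zero => simp only [map_zero]
  | add x y hx hy => simp only [map_add, hx, hy]
  | tmul m a =>
    rw [LinearMap.rTensor_tmul, psi_tmul, psi_tmul]
    show (w.hom.app (tz A (ext1 A yb))).app ⊤ _ = _
    refine (Scheme.Modules.Hom.app_smul _ _ _).trans (congrArg (iG (A ⊗[R] K) (a ⊗ₜ (1 : K)) • ·) ?_)
    rw [jM, jM, hf]
    exact (StMod.Mod.mapTop_app w.hom (jHom yb) m).symm

theorem coactM_map {G : StMod.QCoh (QS R A B)} (w : F ⟶ G) (f : Mk F yb →ₗ[R] Mk G yb)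
    (hf : ∀ m, f m = (w.hom.app (tz A yb)).app ⊤ m) :
    coactM G rb hr ∘ₗ f = f.rTensor A ∘ₗ coactM F rb hr := by
  refine LinearMap.ext fun m => (psiE G yb).injective ?_
  show psi G yb (coactM G rb hr (f m)) = psi G yb (f.rTensor A (coactM F rb hr m))
  rw [← psi_map w _ f hf, psi_coactM, psi_coactM, rM, rM, hf]
  exact StMod.Mod.mapTop_app w.hom (rHom rb hr) m

end Coaction

end Groth.Agent.TameGood19
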