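import Groth.Agent.Desc19b.QDesc.EffectiveIso
import Groth.Agent.Desc19b.QDesc.FF

/-! Descent data for modules along one morphism. -/

set_option autoImplicit false
set_option backward.isDefEq.respectTransparency false
set_option backward.isDefEq.respectTransparency.types false
set_option maxHeartbeats 300000

universe u

open CategoryTheory CategoryTheory.Limits AlgebraicGeometry Opposite TopologicalSpace
open Groth.Agent.Coherent Groth.Agent.PicLib Groth.Agent.Desc19b.QDesc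

noncomputable section

namespace Groth.Agent.TameGood19

section mc

variable {X Y Z W : Scheme.{u}}

/-- The two ways of composing three pullbacks agree. -/
theorem mcI_assoc (g : Y ⟶ X) (h : Z ⟶ Y) (k : Z ⟶ X) (hk : h ≫ g = k) (h' : W ⟶ Z) (hh : W ⟶ Y)
    (hhh : h' ≫ h = hh) (k' : W ⟶ X) (hk' : h' ≫ k = k') (P : X.Modules) :
    mcI h h' hh hhh ((Scheme.Modules.pullback g).obj P) ≫ mcI g hh k' (by rw [← hhh, Category.assoc, hk, hk']) P =
      (Scheme.Modules.pullback h').map (mcI g h k hk P) ≫ mcI k h' k' hk' P := by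
  subst hhh
  exact (Pseudofunctor.mapComp'_inv_whiskerRight_mapComp'₀₂₃_inv_app Desc.modPF.{u} g.op.toLoc h.op.toLoc
      h'.op.toLoc k.op.toLoc (h' ≫ h).op.toLoc k'.op.toLoc (by subst hk; rfl) rfl (by subst hk'; rfl) P).symm

theorem tr_hom_congr (g : Y ⟶ X) {h h' : Z ⟶ Y} (e : h = h') (k : Z ⟶ X) (hk : h ≫ g = k) (P : X.Modules)
    {V : Y.Opens} {V' : Z.Opens} (eV : V' ≤ h ⁻¹ᵁ V) (x : Γ((Scheme.Modules.pullback g).obj P, V)) :
    tr g h k hk P eV x = tr g h' k (e ▸ hk) P (e ▸ eV) x := by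
  subst e
  rfl

theorem tr_id (g : Y ⟶ X) (P : X.Modules) {V : Y.Opens} (x : Γ((Scheme.Modules.pullback g).obj P, V)) :
    tr g (𝟙 Y) g (Category.id_comp g) P (le_refl V) x = x := by
  have hb : Function.Bijective (tr g (𝟙 Y) g (Category.id_comp g) P (le_refl V)) := by
    haveI : IsIso (mcI g (𝟙 Y) g (Category.id_comp g) P) :=
      ⟨mcH g (𝟙 Y) g (Category.id_comp g) P, mcI_mcH _ _ _ _ _, mcH_mcI _ _ _ _ _⟩
    exact (ConcreteCategory.bijective_of_isIso ((mcI g (𝟙 Y) g (Category.id_comp g) P).app V)).comp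
      (pl_id_bijective _ V)
  refine hb.1 ?_
  rw [tr_tr]
  exact tr_hom_congr g (Category.id_comp _) g _ P _ x

theorem conj_pull {C D : Type*} [Category C] [Category D] (F : C ⥤ D) {p₁ p₂ k₁ k₂ : C} {a : p₁ ⟶ k₁}
    {θ : k₁ ⟶ k₂} {b : k₂ ⟶ p₂} {a₂ : p₂ ⟶ k₂} (hba : b ≫ a₂ = 𝟙 k₂) {P₁ P₂ Q₁ Q₂ : D} {mh : P₁ ⟶ F.obj p₁}
    {mi : F.obj p₁ ⟶ P₁} (h1 : mh ≫ mi = 𝟙 P₁) {miy : F.obj p₂ ⟶ P₂} {i₁ : P₁ ⟶ Q₁} {θ' : Q₁ ⟶ Q₂}
    {h₂ : Q₂ ⟶ P₂} {i₂ : P₂ ⟶ Q₂} (h7 : i₂ ≫ h₂ = 𝟙 P₂) {cx : F.obj k₁ ⟶ Q₁} {cy : F.obj k₂ ⟶ Q₂}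
    (ex : mi ≫ i₁ = F.map a ≫ cx) (ey : miy ≫ i₂ = F.map a₂ ≫ cy) (et : cx ≫ θ' = F.map θ ≫ cy) :
    mh ≫ F.map (a ≫ θ ≫ b) ≫ miy = i₁ ≫ θ' ≫ h₂ := by
  have e : miy = F.map a₂ ≫ cy ≫ h₂ := by rw [← reassoc_of% ey, h7, Category.comp_id]
  rw [e, Functor.map_comp, Functor.map_comp]
  simp only [Category.assoc]
  rw [← F.map_comp_assoc b, hba, F.map_id, Category.id_comp, ← reassoc_of% et, ← reassoc_of% ex, reassoc_of% h1]

variable {Z' : Scheme.{u}}

/-- Conjugating by the coherence isomorphisms commutes with pullback. -/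
theorem conj_mc (φ : Y ⟶ X) (P : X.Modules) (d : Z' ⟶ Z) (x y : Z ⟶ Y) (x' y' : Z' ⟶ Y) (hdx : d ≫ x = x')
    (hdy : d ≫ y = y') (kx ky : Z ⟶ X) (hkx : x ≫ φ = kx) (hky : y ≫ φ = ky) (kx' ky' : Z' ⟶ X)
    (hkx' : x' ≫ φ = kx') (hky' : y' ≫ φ = ky') (hdkx : d ≫ kx = kx') (hdky : d ≫ ky = ky')
    (θ : (Scheme.Modules.pullback kx).obj P ⟶ (Scheme.Modules.pullback ky).obj P)
    (θ' : (Scheme.Modules.pullback kx').obj P ⟶ (Scheme.Modules.pullback ky').obj P)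
    (et : mcI kx d kx' hdkx P ≫ θ' = (Scheme.Modules.pullback d).map θ ≫ mcI ky d ky' hdky P) :
    mcH x d x' hdx ((Scheme.Modules.pullback φ).obj P) ≫
        (Scheme.Modules.pullback d).map (mcI φ x kx hkx P ≫ θ ≫ mcH φ y ky hky P) ≫
          mcI y d y' hdy ((Scheme.Modules.pullback φ).obj P) =
      mcI φ x' kx' hkx' P ≫ θ' ≫ mcH φ y' ky' hky' P :=
  conj_pull (Scheme.Modules.pullback d) (mcH_mcI _ _ _ _ _) (mcH_mcI _ _ _ _ _) (mcI_mcH _ _ _ _ _)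
    (mcI_assoc φ x kx hkx d x' hdx kx' hdkx P) (mcI_assoc φ y ky hky d y' hdy ky' hdky P) et

theorem conj_mc_comp (φ : Y ⟶ X) (P : X.Modules) (x y z : Z ⟶ Y) (kx ky kz : Z ⟶ X) (hkx : x ≫ φ = kx)
    (hky : y ≫ φ = ky) (hkz : z ≫ φ = kz) (θ : (Scheme.Modules.pullback kx).obj P ⟶ (Scheme.Modules.pullback ky).obj P)
    (θ' : (Scheme.Modules.pullback ky).obj P ⟶ (Scheme.Modules.pullback kz).obj P)
    (θ'' : (Scheme.Modules.pullback kx).obj P ⟶ (Scheme.Modules.pullback kz).obj P) (e : θ ≫ θ' = θ'') :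
    (mcI φ x kx hkx P ≫ θ ≫ mcH φ y ky hky P) ≫ (mcI φ y ky hky P ≫ θ' ≫ mcH φ z kz hkz P) =
      mcI φ x kx hkx P ≫ θ'' ≫ mcH φ z kz hkz P := by
  simp only [Category.assoc, mcH_mcI_assoc]
  rw [reassoc_of% e]

theorem conj_mc_self (φ : Y ⟶ X) (P : X.Modules) (x : Z ⟶ Y) (kx : Z ⟶ X) (hkx : x ≫ φ = kx)
    (θ : (Scheme.Modules.pullback kx).obj P ⟶ (Scheme.Modules.pullback kx).obj P) (e : θ = 𝟙 _) :
    mcI φ x kx hkx P ≫ θ ≫ mcH φ x kx hkx P = 𝟙 _ := by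
  rw [e, Category.id_comp, mcI_mcH]

theorem app_conj_mc_iff (φ : Y ⟶ X) (P : X.Modules) (x y : Z ⟶ Y) (kx ky : Z ⟶ X) (hkx : x ≫ φ = kx)
    (hky : y ≫ φ = ky) (θ : (Scheme.Modules.pullback kx).obj P ⟶ (Scheme.Modules.pullback ky).obj P) {U U' : Y.Opens}
    {V : Z.Opens} (e : V ≤ x ⁻¹ᵁ U) (e' : V ≤ y ⁻¹ᵁ U') (n : Γ((Scheme.Modules.pullback φ).obj P, U))
    (n' : Γ((Scheme.Modules.pullback φ).obj P, U')) :
    (mcI φ x kx hkx P ≫ θ ≫ mcH φ y ky hky P).app V (pl x _ e n) = pl y _ e' n' ↔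
      θ.app V (tr φ x kx hkx P e n) = tr φ y ky hky P e' n' := by
  rw [← Category.assoc]
  exact app_comp_eq_iff (mcI φ x kx hkx P ≫ θ) _ _ (mcH_mcI _ _ _ _ _) (mcI_mcH _ _ _ _ _) _ _

end mc

section facs

variable {ι : Type u} {B : Scheme.{u}} {Xf : ι → Scheme.{u}} {fs : ∀ i, Xf i ⟶ B}
  (E : Desc.modPF.{u}.DescentData fs)

theorem facA_app (p : ι × ι) (U : B.Opens) (n : Γ(ob E p.1, fs p.1 ⁻¹ᵁ U)) :
    (facA E p).app U n =
      (dhom E (pullback.fst (fs p.1) (fs p.2)) (pullback.snd (fs p.1) (fs p.2)) pullback.condition).app _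
        (pl (pullback.fst (fs p.1) (fs p.2)) _ (preimage_le_preimage (fs p.1) _ (ovl fs p) rfl U) n) := rfl

theorem facB_app (p : ι × ι) (U : B.Opens) (n : Γ(ob E p.2, fs p.2 ⁻¹ᵁ U)) :
    (facB E p).app U n = pl (pullback.snd (fs p.1) (fs p.2)) _
      (preimage_le_preimage (fs p.2) _ (ovl fs p) pullback.condition.symm U) n := rfl

theorem app₂ {X : Scheme.{u}} {P Q W : X.Modules} (a : P ⟶ Q) (b : Q ⟶ W) (U : X.Opens) (x : Γ(P, U)) :
    (a ≫ b).app U x = b.app U (a.app U x) := rfl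

theorem exists_lift_descended {Q : B.Modules} (c : ∀ i, Q ⟶ facG E i)
    (hc : ∀ p : ι × ι, c p.1 ≫ facA E p = c p.2 ≫ facB E p) :
    ∃ h : Q ⟶ descended E, ∀ (U : B.Opens) (m : Γ(Q, U)) (i : ι), mem' E i U (h.app U m) = (c i).app U m := by
  let l : Q ⟶ ∏ᶜ facG E := Pi.lift c
  have hl : l ≫ TwistLib.glueDiff (facG E) (facH E) Prod.fst Prod.snd (facA E) (facB E) = 0 := by
    refine limit.hom_ext fun ⟨p⟩ => ?_
    rw [Category.assoc, TwistLib.glueDiff, Pi.lift_π, zero_comp, Preadditive.comp_sub, sub_eq_zero,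
      ← Category.assoc, ← Category.assoc, Pi.lift_π, Pi.lift_π]
    exact hc p
  refine ⟨kernel.lift _ l hl, fun U m i => ?_⟩
  have e : kernel.lift _ l hl ≫ kernel.ι _ ≫ Pi.π (facG E) i = c i := by
    rw [kernel.lift_ι_assoc, Pi.lift_π]
  exact congr(($e).app U m)

theorem pullback_app_eq {W : Scheme.{u}} (g : B ⟶ W) {Q : W.Modules} {N : B.Modules}
    (c₀ : Q ⟶ (Scheme.Modules.pushforward g).obj N) (U : W.Opens) (m : Γ(Q, U)) :
    (((Scheme.Modules.pullbackPushforwardAdjunction g).homEquiv _ _).symm c₀).app (g ⁻¹ᵁ U) (pullSec g m) =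
      c₀.app U m := by
  have e := Equiv.apply_symm_apply ((Scheme.Modules.pullbackPushforwardAdjunction g).homEquiv Q N) c₀
  rw [Adjunction.homEquiv_unit] at e
  exact congr(($e).app U m)

theorem exists_lift_sections {Q : B.Modules} (c : ∀ i, Q ⟶ facG E i)
    (hc : ∀ (p : ι × ι) (U : B.Opens) (m : Γ(Q, U)),
      (facA E p).app U ((c p.1).app U m) = (facB E p).app U ((c p.2).app U m)) :
    ∃ h : Q ⟶ descended E, ∀ (U : B.Opens) (m : Γ(Q, U)) (i : ι), mem' E i U (h.app U m) = (c i).app U m := by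
  refine exists_lift_descended E c fun p => ?_
  ext U m
  exact hc p U m

theorem exists_lift_pullback {W : Scheme.{u}} (g : B ⟶ W) {Q : W.Modules}
    (c₀ : ∀ i, Q ⟶ (Scheme.Modules.pushforward g).obj (facG E i))
    (hc : ∀ (p : ι × ι) (U : W.Opens) (m : Γ(Q, U)),
      (facA E p).app (g ⁻¹ᵁ U) ((c₀ p.1).app U m) = (facB E p).app (g ⁻¹ᵁ U) ((c₀ p.2).app U m)) :
    ∃ h : (Scheme.Modules.pullback g).obj Q ⟶ descended E, ∀ (U : W.Opens) (m : Γ(Q, U)) (i : ι),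
      mem' E i (g ⁻¹ᵁ U) (h.app (g ⁻¹ᵁ U) (pullSec g m)) = (c₀ i).app U m := by
  obtain ⟨h, hh⟩ := exists_lift_descended E
    (fun i => ((Scheme.Modules.pullbackPushforwardAdjunction g).homEquiv _ _).symm (c₀ i))
    fun p => pullback_hom_ext g fun U m => by
      rw [app₂, app₂, pullback_app_eq, pullback_app_eq]
      exact hc p U m
  exact ⟨h, fun U m i => (hh _ _ i).trans (pullback_app_eq g (c₀ i) U m)⟩

end facs

variable {S X : Scheme.{u}}

/-- A descent datum along one morphism. -/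
structure SDatum (f : X ⟶ S) where
  /-- the module -/
  P : X.Modules
  /-- the gluing -/
  hom : ∀ {Z : Scheme.{u}} (q : Z ⟶ S) (x y : Z ⟶ X), x ≫ f = q → y ≫ f = q →
    ((Scheme.Modules.pullback x).obj P ⟶ (Scheme.Modules.pullback y).obj P)
  pull : ∀ {Z Z' : Scheme.{u}} (d : Z' ⟶ Z) (q : Z ⟶ S) (q' : Z' ⟶ S) (hq : d ≫ q = q') (x y : Z ⟶ X)
    (hx : x ≫ f = q) (hy : y ≫ f = q) (x' y' : Z' ⟶ X) (hdx : d ≫ x = x') (hdy : d ≫ y = y'),
    mcH x d x' hdx P ≫ (Scheme.Modules.pullback d).map (hom q x y hx hy) ≫ mcI y d y' hdy P =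
      hom q' x' y' (by rw [← hdx, Category.assoc, hx, hq]) (by rw [← hdy, Category.assoc, hy, hq])
  self : ∀ {Z : Scheme.{u}} (q : Z ⟶ S) (x : Z ⟶ X) (hx : x ≫ f = q), hom q x x hx hx = 𝟙 _
  comp : ∀ {Z : Scheme.{u}} (q : Z ⟶ S) (x y z : Z ⟶ X) (hx : x ≫ f = q) (hy : y ≫ f = q) (hz : z ≫ f = q),
    hom q x y hx hy ≫ hom q y z hy hz = hom q x z hx hz

namespace SDatum

variable {f : X ⟶ S} (D : SDatum f)

/-- As a descent datum. -/
def toDD : Desc.modPF.{u}.DescentData (fun _ : PUnit.{u + 1} => f) where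
  obj _ := D.P
  hom _ q _ _ x y hx hy := D.hom q x y hx hy
  pullHom_hom _ _ d q q' hq _ _ x y hx hy x' y' hdx hdy := D.pull d q q' hq x y hx hy x' y' hdx hdy
  hom_self _ q _ x hx := D.self q x hx
  hom_comp _ q _ _ _ x y z hx hy hz := D.comp q x y z hx hy hz

theorem dhom_toDD {Z : Scheme.{u}} (x y : Z ⟶ X) (h : x ≫ f = y ≫ f) :
    dhom D.toDD (i := PUnit.unit) (j := PUnit.unit) x y h = D.hom (x ≫ f) x y rfl h.symm := rfl

/-- The descended module. -/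
def desc : S.Modules := descended D.toDD

/-- The value on the source. -/
def val (U : S.Opens) : Γ(D.desc, U) →+ Γ(D.P, f ⁻¹ᵁ U) := mem' D.toDD PUnit.unit U

theorem val_ext {U : S.Opens} {s s' : Γ(D.desc, U)} (h : D.val U s = D.val U s') : s = s' :=
  mem'_ext D.toDD fun _ => h

theorem val_smul {U : S.Opens} (r : Γ(S, U)) (s : Γ(D.desc, U)) : D.val U (r • s) = f.app U r • D.val U s :=
  mem'_smul D.toDD PUnit.unit r s

/-- Compatibility of a section with the gluing. -/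
def IsCompat' {U : S.Opens} (n : Γ(D.P, f ⁻¹ᵁ U)) : Prop :=
  ∀ {Z : Scheme.{u}} (q : Z ⟶ S) (x y : Z ⟶ X) (hx : x ≫ f = q) (hy : y ≫ f = q) (V : Z.Opens)
    (e : V ≤ x ⁻¹ᵁ (f ⁻¹ᵁ U)) (e' : V ≤ y ⁻¹ᵁ (f ⁻¹ᵁ U)), (D.hom q x y hx hy).app V (pl x _ e n) = pl y _ e' n

theorem isCompat'_val {U : S.Opens} (s : Γ(D.desc, U)) : D.IsCompat' (D.val U s) := by
  intro Z q x y hx hy V e e'
  have h := (isCompat_mem' D.toDD s).on_points D.toDD (i := PUnit.unit) (j := PUnit.unit) x y (hx.trans hy.symm) e e'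
  rw [dhom_eq D.toDD q x y hx hy] at h
  exact h

theorem exists_val {U : S.Opens} {n : Γ(D.P, f ⁻¹ᵁ U)} (hn : D.IsCompat' n) : ∃ s, D.val U s = n := by
  obtain ⟨s, hs⟩ := exists_of_isCompat D.toDD (fun _ => n) fun p => hn _ _ _ rfl pullback.condition.symm _ _ _
  exact ⟨s, hs PUnit.unit⟩

theorem facA_eq_facB {U : S.Opens} {n : Γ(D.P, f ⁻¹ᵁ U)} (hn : D.IsCompat' n) :
    (facA D.toDD (PUnit.unit, PUnit.unit)).app U n = (facB D.toDD (PUnit.unit, PUnit.unit)).app U n := by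
  rw [facA_app, facB_app, dhom_toDD]
  exact hn _ _ _ rfl pullback.condition.symm _ _ _

theorem exists_homInto' {Q : S.Modules} (c : Q ⟶ facG D.toDD PUnit.unit)
    (hc : ∀ (U : S.Opens) (m : Γ(Q, U)), D.IsCompat' (c.app U m)) :
    ∃ h : Q ⟶ D.desc, ∀ (U : S.Opens) (m : Γ(Q, U)), D.val U (h.app U m) = c.app U m := by
  obtain ⟨h, hh⟩ := exists_lift_sections D.toDD (Q := Q) (fun _ => c) fun _ U m => D.facA_eq_facB (hc U m)
  exact ⟨h, fun U m => hh U m PUnit.unit⟩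

/-- A morphism into the descended module out of a pullback, from sections. -/
theorem exists_homInto_pullback {W : Scheme.{u}} (g : S ⟶ W) {Q : W.Modules}
    (c₀ : Q ⟶ (Scheme.Modules.pushforward g).obj (facG D.toDD PUnit.unit))
    (hc : ∀ (U : W.Opens) (m : Γ(Q, U)), D.IsCompat' (U := g ⁻¹ᵁ U) (c₀.app U m)) :
    ∃ h : (Scheme.Modules.pullback g).obj Q ⟶ D.desc, ∀ (U : W.Opens) (m : Γ(Q, U)),
      D.val (g ⁻¹ᵁ U) (h.app (g ⁻¹ᵁ U) (pullSec g m)) = c₀.app U m := by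
  obtain ⟨h, hh⟩ := exists_lift_pullback D.toDD g (Q := Q) (fun _ => c₀) fun _ U m => D.facA_eq_facB (hc U m)
  exact ⟨h, fun U m => hh U m PUnit.unit⟩

/-- The comparison on the source. -/
def counit : (Scheme.Modules.pullback f).obj D.desc ⟶ D.P := counit' D.toDD PUnit.unit

theorem counit_app_pl {U : S.Opens} {V : X.Opens} (e : V ≤ f ⁻¹ᵁ U) (s : Γ(D.desc, U)) :
    D.counit.app V (pl f _ e s) = resM _ e (D.val U s) :=
  counit'_app_pl D.toDD PUnit.unit e s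

theorem isQCoh_desc [Coh.IsQCoh D.P] (hf : Cov (fun _ : PUnit.{u + 1} => f)) : Coh.IsQCoh D.desc := by
  haveI : ∀ i : PUnit.{u + 1}, Coh.IsQCoh (ob D.toDD i) := fun _ => inferInstanceAs (Coh.IsQCoh D.P)
  exact isQCoh_descended D.toDD hf

theorem isIso_counit [Coh.IsQCoh D.P] (hf : Cov (fun _ : PUnit.{u + 1} => f)) : IsIso D.counit := by
  haveI : ∀ i : PUnit.{u + 1}, Coh.IsQCoh (ob D.toDD i) := fun _ => inferInstanceAs (Coh.IsQCoh D.P)
  exact isIso_counit' D.toDD hf PUnit.unit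

end SDatum

/-- Pullback along a cover reflects isomorphisms of quasi-coherent modules. -/
theorem isIso_of_pullback {f : X ⟶ S} (hf : Cov (fun _ : PUnit.{u + 1} => f)) {M N : S.Modules} [Coh.IsQCoh M]
    [Coh.IsQCoh N] (h : M ⟶ N) [IsIso ((Scheme.Modules.pullback f).map h)] : IsIso h := by
  let Φ := Desc.modPF.{u}.toDescentData (fun _ : PUnit.{u + 1} => f)
  let e : Φ.obj M ≅ Φ.obj N :=
    Pseudofunctor.DescentData.isoMk (fun _ => asIso ((Scheme.Modules.pullback f).map h))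
      fun Y q i j x y hx hy => (Φ.map h).comm q x y hx hy
  obtain ⟨k, hk⟩ := (toDescentData_map_bijective (M := N) (N := M) hf).2 e.inv
  have eh : e.hom = Φ.map h := Pseudofunctor.DescentData.hom_ext fun _ => rfl
  refine ⟨k, (toDescentData_map_bijective (M := M) (N := M) hf).1 ?_,
    (toDescentData_map_bijective (M := N) (N := N) hf).1 ?_⟩
  · exact (Φ.map_comp h k).trans ((congrArg₂ (· ≫ ·) eh.symm hk).trans (e.hom_inv_id.trans (Φ.map_id M).symm))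
  · exact (Φ.map_comp k h).trans ((congrArg₂ (· ≫ ·) hk eh.symm).trans (e.inv_hom_id.trans (Φ.map_id N).symm))

/-- Pullback along a cover reflects epimorphisms of quasi-coherent modules. -/
theorem epi_of_pullback {f : X ⟶ S} (hf : Cov (fun _ : PUnit.{u + 1} => f)) {M N : S.Modules} [Coh.IsQCoh M]
    [Coh.IsQCoh N] (h : M ⟶ N) [Epi ((Scheme.Modules.pullback f).map h)] : Epi h := by
  haveI : Coh.IsQCoh (cokernel h) := isQCoh_cokernel h
  refine Abelian.epi_of_cokernel_π_eq_zero h (map_injective hf fun _ => ?_)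
  rw [← cancel_epi ((Scheme.Modules.pullback f).map h), ← Functor.map_comp, ← Functor.map_comp, cokernel.condition,
    comp_zero]

end Groth.Agent.TameGood19
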