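import Groth.Agent.TameGood19.EqMod
import Groth.Agent.TameGood19.SingleDesc

/-! The descent datum of a `(B, A)`-module along a torsor, and the descended quasi-coherent module. -/

set_option autoImplicit false
set_option backward.isDefEq.respectTransparency false
set_option backward.isDefEq.respectTransparency.types false
set_option linter.style.haveILetI false
set_option linter.unusedSectionVars false
set_option maxHeartbeats 400000

universe u

open CategoryTheory CategoryTheory.Limits AlgebraicGeometry MonoidalCategory CartesianMonoidalCategory MonObj GrpObj Opposite TopologicalSpace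
open CoactBr Groth.Agent.Stk19b.QuotTriv Groth.Agent.HopfLib.SpPoints
open Groth.Agent.Coherent Groth.Agent.PicLib Groth.Agent.Desc19b.QDesc
open scoped TensorProduct

noncomputable section

namespace Groth.Agent.TameGood19

attribute [local instance] Stk19b.Quot.hasIsos_fppf

variable {R A B : Type u} [CommRing R] [CommRing A] [HopfAlgebra R A]
  [CommRing B] [Algebra R B] [HopfRep.Comod R A B] [GLin.IsCoactAlg R A B]

variable (M : Type u) [AddCommGroup M] [Module R M] [Module B M] [IsScalarTower R B M]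
  [HopfRep.Comod R A M] [TameAct.IsHopfMod R A B M]

variable (ξ : (QS R A B).obj)

/-- The cover of the base by the torsor. -/
abbrev torCov : PUnit.{u + 1} → (ξ.P.left ⟶ ξ.base.left) := fun _ => ξ.π.left

/-- Points of the torsor over a point of the base. -/
def ptOf {Z : Scheme.{u}} (t : Z ⟶ Spec (CommRingCat.of R)) (x : Z ⟶ ξ.P.left) (ht : x ≫ ξ.P.hom = t) :
    Over.mk t ⟶ ξ.P := Over.homMk x ht

variable {ξ}

theorem ptOf_comp {Z : Scheme.{u}} {q : Z ⟶ ξ.base.left} {x : Z ⟶ ξ.P.left} (hx : x ≫ ξ.π.left = q) :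
    x ≫ ξ.P.hom = q ≫ ξ.base.hom := by
  rw [← hx, Category.assoc, Over.w]

theorem exists_elem {Z : Scheme.{u}} (q : Z ⟶ ξ.base.left) (x y : Z ⟶ ξ.P.left) (hx : x ≫ ξ.π.left = q)
    (hy : y ≫ ξ.π.left = q) :
    ∃! g : Over.mk (q ≫ ξ.base.hom) ⟶ sp R A,
      smulPt ξ.act g (ptOf ξ _ x (ptOf_comp hx)) = ptOf ξ _ y (ptOf_comp hy) :=
  existsUnique_smul ξ _ _ (Over.OverMorphism.ext (hy.trans hx.symm))

/-- The element moving one point to another. -/
def elem {Z : Scheme.{u}} (q : Z ⟶ ξ.base.left) (x y : Z ⟶ ξ.P.left) (hx : x ≫ ξ.π.left = q)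
    (hy : y ≫ ξ.π.left = q) : Over.mk (q ≫ ξ.base.hom) ⟶ sp R A :=
  (exists_elem q x y hx hy).choose

theorem elem_spec {Z : Scheme.{u}} (q : Z ⟶ ξ.base.left) (x y : Z ⟶ ξ.P.left) (hx : x ≫ ξ.π.left = q)
    (hy : y ≫ ξ.π.left = q) :
    smulPt (action R A B) (elem q x y hx hy) (ptOf ξ _ x (ptOf_comp hx) ≫ ξ.φ) =
      ptOf ξ _ y (ptOf_comp hy) ≫ ξ.φ := by
  rw [← comp_φ ξ]
  exact congrArg (· ≫ ξ.φ) (exists_elem q x y hx hy).choose_spec.1

theorem elem_unique {Z : Scheme.{u}} (q : Z ⟶ ξ.base.left) (x y : Z ⟶ ξ.P.left) (hx : x ≫ ξ.π.left = q)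
    (hy : y ≫ ξ.π.left = q) {g : Over.mk (q ≫ ξ.base.hom) ⟶ sp R A}
    (hg : smulPt ξ.act g (ptOf ξ _ x (ptOf_comp hx)) = ptOf ξ _ y (ptOf_comp hy)) : elem q x y hx hy = g :=
  ((exists_elem q x y hx hy).choose_spec.2 g hg).symm

/-- The gluing. -/
def gl {Z : Scheme.{u}} (q : Z ⟶ ξ.base.left) (x y : Z ⟶ ξ.P.left) (hx : x ≫ ξ.π.left = q)
    (hy : y ≫ ξ.π.left = q) :
    (Scheme.Modules.pullback x).obj (pb M ξ.φ) ⟶ (Scheme.Modules.pullback y).obj (pb M ξ.φ) :=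
  mcI ξ.φ.left x (ptOf ξ _ x (ptOf_comp hx) ≫ ξ.φ).left rfl (P0 B M) ≫
    Theta M (elem q x y hx hy) (elem_spec q x y hx hy) ≫
      mcH ξ.φ.left y (ptOf ξ _ y (ptOf_comp hy) ≫ ξ.φ).left rfl (P0 B M)

theorem Theta_congr {T : Over (Spec (CommRingCat.of R))} {g g' : T ⟶ sp R A} (e : g = g') {y y' : T ⟶ sp R B}
    (h : smulPt (action R A B) g y = y') : Theta M g h = Theta M g' (e ▸ h) := by
  subst e
  rfl

theorem gl_comp {Z : Scheme.{u}} (q : Z ⟶ ξ.base.left) (x y z : Z ⟶ ξ.P.left) (hx : x ≫ ξ.π.left = q)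
    (hy : y ≫ ξ.π.left = q) (hz : z ≫ ξ.π.left = q) :
    gl M q x y hx hy ≫ gl M q y z hy hz = gl M q x z hx hz := by
  have e : elem q x z hx hz = elem q y z hy hz * elem q x y hx hy := elem_unique _ _ _ _ _ (by
    rw [smulPt_mul]
    exact (congrArg (smulPt ξ.act (elem q y z hy hz)) (exists_elem q x y hx hy).choose_spec.1).trans
      (exists_elem q y z hy hz).choose_spec.1)
  exact conj_mc_comp ξ.φ.left (P0 B M) x y z _ _ _ rfl rfl rfl _ _ _
    ((Theta_comp _ _ _ _ (e ▸ elem_spec q x z hx hz)).trans (Theta_congr M e (elem_spec q x z hx hz)).symm)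

theorem gl_self {Z : Scheme.{u}} (q : Z ⟶ ξ.base.left) (x : Z ⟶ ξ.P.left) (hx : x ≫ ξ.π.left = q) :
    gl M q x x hx hx = 𝟙 _ := by
  have e : elem q x x hx hx = 1 := elem_unique _ _ _ _ _ (smulPt_one _ _)
  exact conj_mc_self ξ.φ.left (P0 B M) x _ rfl _ ((Theta_congr M e (elem_spec q x x hx hx)).trans (Theta_one _ _))

theorem gl_pull {Z Z' : Scheme.{u}} (d : Z' ⟶ Z) (q : Z ⟶ ξ.base.left) (q' : Z' ⟶ ξ.base.left) (hq : d ≫ q = q')
    (x y : Z ⟶ ξ.P.left) (hx : x ≫ ξ.π.left = q) (hy : y ≫ ξ.π.left = q) (x' y' : Z' ⟶ ξ.P.left)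
    (hdx : d ≫ x = x') (hdy : d ≫ y = y') :
    mcH x d x' hdx (pb M ξ.φ) ≫ (Scheme.Modules.pullback d).map (gl M q x y hx hy) ≫ mcI y d y' hdy (pb M ξ.φ) =
      gl M q' x' y' (by rw [← hdx, Category.assoc, hx, hq]) (by rw [← hdy, Category.assoc, hy, hq]) := by
  have hx' : x' ≫ ξ.π.left = q' := by rw [← hdx, Category.assoc, hx, hq]
  have hy' : y' ≫ ξ.π.left = q' := by rw [← hdy, Category.assoc, hy, hq]
  let D : Over.mk (q' ≫ ξ.base.hom) ⟶ Over.mk (q ≫ ξ.base.hom) := Over.homMk d (by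
    show d ≫ q ≫ ξ.base.hom = q' ≫ ξ.base.hom
    rw [← hq, Category.assoc])
  have ex : D ≫ ptOf ξ _ x (ptOf_comp hx) = ptOf ξ _ x' (ptOf_comp hx') := Over.OverMorphism.ext hdx
  have ey : D ≫ ptOf ξ _ y (ptOf_comp hy) = ptOf ξ _ y' (ptOf_comp hy') := Over.OverMorphism.ext hdy
  have eg : D ≫ elem q x y hx hy = elem q' x' y' hx' hy' := Eq.symm <| elem_unique _ _ _ _ _ (by
    rw [← ex, ← ey, ← comp_smulPt]
    exact congrArg (D ≫ ·) (exists_elem q x y hx hy).choose_spec.1)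
  have eu : D ≫ ptOf ξ _ x (ptOf_comp hx) ≫ ξ.φ = ptOf ξ _ x' (ptOf_comp hx') ≫ ξ.φ :=
    (Category.assoc D _ _).symm.trans (congrArg (· ≫ ξ.φ) ex)
  have eu' : D ≫ ptOf ξ _ y (ptOf_comp hy) ≫ ξ.φ = ptOf ξ _ y' (ptOf_comp hy') ≫ ξ.φ :=
    (Category.assoc D _ _).symm.trans (congrArg (· ≫ ξ.φ) ey)
  exact conj_mc ξ.φ.left (P0 B M) d x y x' y' hdx hdy _ _ rfl rfl _ _ rfl rfl (congrArg CommaMorphism.left eu)
    (congrArg CommaMorphism.left eu') _ _
    (tr₀_Theta (M := M) D (elem q x y hx hy) (elem_spec q x y hx hy) eu eu' (elem q' x' y' hx' hy') eg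
      (elem_spec q' x' y' hx' hy'))

theorem gl_eq {Z : Scheme.{u}} (q : Z ⟶ ξ.base.left) (x y : Z ⟶ ξ.P.left) (hx : x ≫ ξ.π.left = q)
    (hy : y ≫ ξ.π.left = q) (t : Z ⟶ Spec (CommRingCat.of R)) (ht : q ≫ ξ.base.hom = t)
    (xo yo : Over.mk t ⟶ ξ.P) (hxo : xo.left = x) (hyo : yo.left = y) (g : Over.mk t ⟶ sp R A)
    (hg : smulPt ξ.act g xo = yo) (h : smulPt (action R A B) g (xo ≫ ξ.φ) = yo ≫ ξ.φ) :
    gl M q x y hx hy = mcI ξ.φ.left x (xo ≫ ξ.φ).left (congrArg (· ≫ ξ.φ.left) hxo.symm) (P0 B M) ≫ Theta M g h ≫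
      mcH ξ.φ.left y (yo ≫ ξ.φ).left (congrArg (· ≫ ξ.φ.left) hyo.symm) (P0 B M) := by
  subst ht
  obtain rfl : xo = ptOf ξ _ x (ptOf_comp hx) := Over.OverMorphism.ext hxo
  obtain rfl : yo = ptOf ξ _ y (ptOf_comp hy) := Over.OverMorphism.ext hyo
  obtain rfl : g = elem q x y hx hy := (elem_unique q x y hx hy hg).symm
  rfl

variable (ξ) in
/-- The descent datum. -/
def datum : SDatum ξ.π.left where
  P := pb M ξ.φ
  hom q x y hx hy := gl M q x y hx hy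
  pull d q q' hq x y hx hy x' y' hdx hdy := gl_pull M d q q' hq x y hx hy x' y' hdx hdy
  self q x hx := gl_self M q x hx
  comp q x y z hx hy hz := gl_comp M q x y z hx hy hz

theorem datum_hom {Z : Scheme.{u}} (q : Z ⟶ ξ.base.left) (x y : Z ⟶ ξ.P.left) (hx : x ≫ ξ.π.left = q)
    (hy : y ≫ ξ.π.left = q) : (datum M ξ).hom q x y hx hy = gl M q x y hx hy := rfl

/-- A family of sections over the torsor is invariant. -/
def IsInv {U : ξ.base.left.Opens} (n : Γ(pb M ξ.φ, ξ.π.left ⁻¹ᵁ U)) : Prop :=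
  ∀ (T : Over (Spec (CommRingCat.of R))) (z z' : T ⟶ ξ.P) (g : T ⟶ sp R A) (_ : smulPt ξ.act g z = z')
    (y y' : T ⟶ sp R B) (hy : z ≫ ξ.φ = y) (hy' : z' ≫ ξ.φ = y') (h : smulPt (action R A B) g y = y')
    (V : T.left.Opens) (e : V ≤ z.left ⁻¹ᵁ (ξ.π.left ⁻¹ᵁ U)) (e' : V ≤ z'.left ⁻¹ᵁ (ξ.π.left ⁻¹ᵁ U)),
    (Theta M g h).app V (tr ξ.φ.left z.left y.left (congrArg CommaMorphism.left hy) (P0 B M) e n) =
      tr ξ.φ.left z'.left y'.left (congrArg CommaMorphism.left hy') (P0 B M) e' n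

theorem isCompat_of_isInv {U : ξ.base.left.Opens} {n : Γ(pb M ξ.φ, ξ.π.left ⁻¹ᵁ U)} (hn : IsInv M n) :
    (datum M ξ).IsCompat' n := by
  intro Z q x y hx hy V e e'
  rw [datum_hom, gl]
  exact (app_conj_mc_iff ξ.φ.left (P0 B M) x y _ _ rfl rfl _ e e' n n).2
    (hn _ _ _ _ (exists_elem q x y hx hy).choose_spec.1 _ _ rfl rfl _ _ _ _)

theorem isInv_of_isCompat {U : ξ.base.left.Opens} {n : Γ(pb M ξ.φ, ξ.π.left ⁻¹ᵁ U)}
    (hn : (datum M ξ).IsCompat' n) : IsInv M n := by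
  intro T z z' g hg y y' hy hy' h V e e'
  obtain ⟨Z, ⟨⟨⟩⟩, t⟩ := T
  subst hy hy'
  have hq : z'.left ≫ ξ.π.left = z.left ≫ ξ.π.left := by
    rw [← hg]
    exact congrArg CommaMorphism.left (smulPt_π ξ g z)
  have ht : (z.left ≫ ξ.π.left) ≫ ξ.base.hom = t := by
    rw [Category.assoc, Over.w]
    exact Over.w z
  have k := hn (z.left ≫ ξ.π.left) z.left z'.left rfl hq V e e'
  rw [datum_hom, gl_eq M (z.left ≫ ξ.π.left) z.left z'.left rfl hq t ht z z' rfl rfl g hg h] at k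
  exact (app_conj_mc_iff ξ.φ.left (P0 B M) z.left z'.left _ _ rfl rfl _ e e' n n).1 k

variable (ξ) in
/-- The module on the base. -/
def fObj : ξ.base.left.Modules := (datum M ξ).desc

/-- The value on the torsor. -/
def val (U : ξ.base.left.Opens) : Γ(fObj M ξ, U) →+ Γ(pb M ξ.φ, ξ.π.left ⁻¹ᵁ U) := (datum M ξ).val U

theorem val_ext {U : ξ.base.left.Opens} {s s' : Γ(fObj M ξ, U)} (h : val M U s = val M U s') : s = s' :=
  (datum M ξ).val_ext h

theorem isInv_val {U : ξ.base.left.Opens} (s : Γ(fObj M ξ, U)) : IsInv M (val M U s) :=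
  isInv_of_isCompat M ((datum M ξ).isCompat'_val s)

theorem exists_val {U : ξ.base.left.Opens} {n : Γ(pb M ξ.φ, ξ.π.left ⁻¹ᵁ U)} (hn : IsInv M n) :
    ∃ s : Γ(fObj M ξ, U), val M U s = n :=
  (datum M ξ).exists_val (isCompat_of_isInv M hn)

variable [Module.Flat R A] [Algebra.FinitePresentation R A]

theorem π_props (ξ : (QS R A B).obj) :
    Flat ξ.π.left ∧ LocallyOfFinitePresentation ξ.π.left ∧ Surjective ξ.π.left := by
  obtain ⟨ζ, n, q₁, q₂, hn, -, -, h1, h2, h3⟩ := exists_cover ξ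
  rw [show StMod.bmap (QS R A B) n = ξ.π.left from congrArg CommaMorphism.left hn] at h1 h2 h3
  exact ⟨h1, h2, h3⟩

theorem cov_tor (ξ : (QS R A B).obj) : Cov (torCov ξ) := by
  obtain ⟨h1, h2, h3⟩ := π_props ξ
  exact cov_single ξ.π.left

theorem isQCoh_pb {T : Over (Spec (CommRingCat.of R))} (y : T ⟶ sp R B) : Coh.IsQCoh (pb M y) := by
  haveI : Coh.IsQCoh (P0 B M) :=
    inferInstanceAs (tilde (R := CommRingCat.of B) (ModuleCat.of B M)).IsQuasicoherent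
  exact EGA43.InjFibre.isQCoh_pullback _ _

theorem isQCoh_fObj (ξ : (QS R A B).obj) : Coh.IsQCoh (fObj M ξ) := by
  haveI : Coh.IsQCoh (datum M ξ).P := isQCoh_pb M ξ.φ
  exact (datum M ξ).isQCoh_desc (cov_tor ξ)

theorem isIso_counit_datum (ξ : (QS R A B).obj) : IsIso (datum M ξ).counit := by
  haveI : Coh.IsQCoh (datum M ξ).P := isQCoh_pb M ξ.φ
  exact (datum M ξ).isIso_counit (cov_tor ξ)

end Groth.Agent.TameGood19
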