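import Groth.Agent.TameGood19.Setup
import Groth.Agent.Desc19b.QDesc.EffectiveIso
import Groth.Agent.Desc19b.QDesc.FF
import Groth.Agent.Coherent.TensorTilde

/-! Pullbacks of the quasi-coherent module of a `(B, A)`-module to points, and the action on their sections. -/

set_option autoImplicit false
set_option backward.isDefEq.respectTransparency false
set_option backward.isDefEq.respectTransparency.types false
set_option linter.style.haveILetI false
set_option linter.unusedSectionVars false
set_option maxHeartbeats 400000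

universe u

open CategoryTheory CategoryTheory.Limits AlgebraicGeometry MonoidalCategory CartesianMonoidalCategory MonObj GrpObj Opposite
open CoactBr Groth.Agent.Stk19b.QuotTriv Groth.Agent.HopfLib.SpPoints
open Groth.Agent.Coherent Groth.Agent.PicLib Groth.Agent.Desc19b.QDesc
open scoped TensorProduct

noncomputable section

namespace Groth.Agent.TameGood19

variable {R : Type u} [CommRing R]

section fn

variable {B : Type u} [CommRing B] [Algebra R B] {T T' : Over (Spec (CommRingCat.of R))}

/-- The functions of a point. -/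
def fn (y : T ⟶ sp R B) : B →+* Γ(T.left, ⊤) :=
  y.left.appTop.hom.comp (Scheme.ΓSpecIso (CommRingCat.of B)).inv.hom

theorem fn_apply (y : T ⟶ sp R B) (b : B) : fn y b = y.left.appTop (iG B b) := rfl

theorem appTop_fn (h : T' ⟶ T) (y : T ⟶ sp R B) (b : B) : h.left.appTop (fn y b) = fn (h ≫ y) b := by
  rw [fn_apply, fn_apply, Over.comp_left, Scheme.Hom.comp_appTop]
  rfl

theorem fn_comp_pt {K : Type u} [CommRing K] [Algebra R K] (c : T ⟶ sp R K) (f : B →ₐ[R] K) (b : B) :
    fn (c ≫ pt f) b = fn c (f b) := by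
  rw [fn_apply, fn_apply, Over.comp_left, Scheme.Hom.comp_appTop, CommRingCat.comp_apply, appTop_iG]

theorem fn_algebraMap {A : Type u} [CommRing A] [Algebra R A] (y : T ⟶ sp R B) (g : T ⟶ sp R A) (r : R) :
    fn y (algebraMap R B r) = fn g (algebraMap R A r) := by
  have key : ∀ {C : Type u} [CommRing C] [Algebra R C] (w : T ⟶ sp R C),
      fn w (algebraMap R C r) = T.hom.appTop (iG R r) := fun {C} _ _ w => by
    have e := congrArg (fun φ => φ r) (Scheme.ΓSpecIso_inv_naturality (CommRingCat.ofHom (algebraMap R C)))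
    rw [← Over.w w, Scheme.Hom.comp_appTop, CommRingCat.comp_apply, fn_apply]
    exact congrArg (fun t => w.left.appTop t) e
  rw [key, key]

theorem exists_pair {A : Type u} [CommRing A] [Algebra R A] (y : T ⟶ sp R B) (g : T ⟶ sp R A) :
    ∃ c : T ⟶ sp R (B ⊗[R] A), c ≫ pt (Algebra.TensorProduct.includeLeft : B →ₐ[R] B ⊗[R] A) = y ∧
      c ≫ pt (Algebra.TensorProduct.includeRight : A →ₐ[R] B ⊗[R] A) = g := by
  haveI := Misc15.AffinePoints.isIso_Q (R := R) B A
  let c : T ⟶ sp R (B ⊗[R] A) := lift y g ≫ inv (Misc15.AffinePoints.Q B A)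
  have hc : c ≫ Misc15.AffinePoints.Q B A = lift y g :=
    (Category.assoc _ _ _).trans ((congrArg (_ ≫ ·) (IsIso.inv_hom_id _)).trans (Category.comp_id _))
  refine ⟨c, ?_, ?_⟩
  · have := congrArg (· ≫ fst (sp R B) (sp R A)) hc
    simpa [Misc15.AffinePoints.Q] using this
  · have := congrArg (· ≫ snd (sp R B) (sp R A)) hc
    simpa [Misc15.AffinePoints.Q] using this

end fn

variable {A B : Type u} [CommRing A] [HopfAlgebra R A]
  [CommRing B] [Algebra R B] [HopfRep.Comod R A B] [GLin.IsCoactAlg R A B]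
  {T T' : Over (Spec (CommRingCat.of R))}

theorem fn_mul (g g' : T ⟶ sp R A) {c : T ⟶ sp R (A ⊗[R] A)}
    (h₁ : c ≫ pt Algebra.TensorProduct.includeLeft = g) (h₂ : c ≫ pt Algebra.TensorProduct.includeRight = g')
    (a : A) : fn (g * g') a = fn c (Bialgebra.comulAlgHom R A a) := by
  rw [← h₁, ← h₂, ← MonObj.comp_mul, pt_mul_pt, fn_comp_pt]
  congr 1
  rw [Algebra.TensorProduct.lift_includeLeft_includeRight]
  rfl

theorem fn_one (y : T ⟶ sp R B) (a : A) :
    fn (1 : T ⟶ sp R A) a = fn y (algebraMap R B (CoalgebraStruct.counit (R := R) a)) := by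
  rw [← MonObj.comp_one y, one_eq_pt, fn_comp_pt]
  rfl

theorem smul_spec_top {R₀ : CommRingCat.{u}} {Q : (Spec R₀).Modules} (r : R₀) (x : Γ(Q, ⊤)) :
    r • x = (Scheme.ΓSpecIso R₀).inv r • x := by
  refine (Scheme.Modules.smul_Spec_def r x).trans ?_
  rw [show (⊤ : (Spec R₀).Opens).leTop.op = 𝟙 _ from rfl, (Spec R₀).presheaf.map_id]
  rfl

theorem tsec_smul_fn {R₀ : CommRingCat.{u}} (M : ModuleCat.{u} R₀) (r : R₀) (m : M) :
    tsec M (r • m) = (Scheme.ΓSpecIso R₀).inv r • tsec M m :=
  (tsec_smul M r m).trans (smul_spec_top r _)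

theorem exists_desc_fn {R₀ : CommRingCat.{u}} {M : ModuleCat.{u} R₀} {Q : (Spec R₀).Modules} (φ : M →+ Γ(Q, ⊤))
    (hφ : ∀ (r : R₀) (m : M), φ (r • m) = (Scheme.ΓSpecIso R₀).inv r • φ m) :
    ∃ h : tilde M ⟶ Q, ∀ m, h.app ⊤ (tsec M m) = φ m :=
  ⟨tildeDesc
    { toFun := φ
      map_add' := map_add φ
      map_smul' := fun r m => (hφ r m).trans (smul_spec_top r _).symm }, fun m => tildeDesc_tsec _ m⟩

theorem mcI_comp_eq {X Y Z : Scheme.{u}} (g : Y ⟶ X) (h : Z ⟶ Y) (k : Z ⟶ X) (hk : h ≫ g = k) (P : X.Modules)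
    {W : Z.Modules} {f : (Scheme.Modules.pullback k).obj P ⟶ W}
    {g' : (Scheme.Modules.pullback h).obj ((Scheme.Modules.pullback g).obj P) ⟶ W}
    (e : f = mcH g h k hk P ≫ g') : mcI g h k hk P ≫ f = g' := by
  rw [e, mcI_mcH_assoc]

theorem mcH_comp_app {X Y Z : Scheme.{u}} (g : Y ⟶ X) (h : Z ⟶ Y) (k : Z ⟶ X) (hk : h ≫ g = k) (P : X.Modules)
    {U : X.Opens} {V : Y.Opens} {V' : Z.Opens} (e : V ≤ g ⁻¹ᵁ U) (e' : V' ≤ h ⁻¹ᵁ V) (e'' : V' ≤ k ⁻¹ᵁ U)
    (m : Γ(P, U)) : (mcH g h k hk P).app V' (pl k P e'' m) = pl h _ e' (pl g P e m) := by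
  rw [← mcI_app_pl g h k hk P e e' m]
  exact congr(($(mcI_mcH g h k hk P)).app V' (pl h _ e' (pl g P e m)))

theorem comp₃_app {X : Scheme.{u}} {P Q W V : X.Modules} (a : P ⟶ Q) (b : Q ⟶ W) (c : W ⟶ V) (U : X.Opens)
    (x : Γ(P, U)) : (a ≫ b ≫ c).app U x = c.app U (b.app U (a.app U x)) := rfl

variable (B) in
/-- The quasi-coherent module of a `B`-module. -/
abbrev P0 (M : Type u) [AddCommGroup M] [Module B M] : (Spec (CommRingCat.of B)).Modules :=
  tilde (R := CommRingCat.of B) (ModuleCat.of B M)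

section tilde

variable {M : Type u} [AddCommGroup M] [Module B M]

variable (B) in
/-- Elements as sections. -/
def glob (M : Type u) [AddCommGroup M] [Module B M] : M →+ Γ(P0 B M, ⊤) :=
  AddMonoidHom.mk' (tsec (R := CommRingCat.of B) (ModuleCat.of B M))
    (tsec_add (R := CommRingCat.of B) (ModuleCat.of B M))

theorem glob_smul (b : B) (m : M) : glob B M (b • m) = iG B b • glob B M m :=
  tsec_smul_fn (R₀ := CommRingCat.of B) (ModuleCat.of B M) b m

theorem glob_bijective : Function.Bijective (glob B M) := by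
  haveI := tilde.isIso_toOpen_top (R := CommRingCat.of B) (M := ModuleCat.of B M)
  exact ConcreteCategory.bijective_of_isIso (tilde.toOpen (R := CommRingCat.of B) (ModuleCat.of B M) ⊤)

theorem exists_tildeHom {Q : (Spec (CommRingCat.of B)).Modules} (φ : M →+ Γ(Q, ⊤))
    (hφ : ∀ b m, φ (b • m) = iG B b • φ m) : ∃ h : P0 B M ⟶ Q, ∀ m, h.app ⊤ (glob B M m) = φ m :=
  exists_desc_fn (R₀ := CommRingCat.of B) (M := ModuleCat.of B M) φ hφ

theorem tildeHom_ext {Q : (Spec (CommRingCat.of B)).Modules} {h h' : P0 B M ⟶ Q}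
    (e : ∀ m, h.app ⊤ (glob B M m) = h'.app ⊤ (glob B M m)) : h = h' :=
  tilde_hom_ext (R := CommRingCat.of B) e

theorem tildeMap_glob {N : Type u} [AddCommGroup N] [Module B N] (f : M →ₗ[B] N) (m : M) :
    (tilde.map (R := CommRingCat.of B) (ModuleCat.ofHom f)).app ⊤ (glob B M m) = glob B N (f m) :=
  map_tsec (R := CommRingCat.of B) (ModuleCat.ofHom f) m

/-- The pullback to a point. -/
abbrev pb (M : Type u) [AddCommGroup M] [Module B M] (y : T ⟶ sp R B) : T.left.Modules :=
  (Scheme.Modules.pullback y.left).obj (P0 B M)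

/-- Elements as sections on a point. -/
def sec (y : T ⟶ sp R B) : M →+ Γ(pb M y, ⊤) := (pl y.left (P0 B M) (top_le _)).comp (glob B M)

theorem sec_apply (y : T ⟶ sp R B) (m : M) : sec y m = pl y.left (P0 B M) (top_le _) (glob B M m) := rfl

theorem sec_smul (y : T ⟶ sp R B) (b : B) (m : M) : sec y (b • m) = fn y b • sec y m := by
  rw [sec_apply, glob_smul, pl_smul, sec_apply, fn_apply,
    show y.left.appTop = y.left.appLE ⊤ ⊤ (top_le _) from Scheme.Hom.app_eq_appLE _]

theorem tr₀_sec (h : T' ⟶ T) (y : T ⟶ sp R B) (y' : T' ⟶ sp R B) (e : h ≫ y = y') (m : M) :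
    tr₀ y.left h.left y'.left (congrArg CommaMorphism.left e) (P0 B M) (sec y m) = sec y' m :=
  tr₀_pl _ _ _ _ _ _

theorem exists_secHom (y : T ⟶ sp R B) {Q : T.left.Modules} (φ : M →+ Γ(Q, ⊤))
    (hφ : ∀ b m, φ (b • m) = fn y b • φ m) : ∃ h : pb M y ⟶ Q, ∀ m, h.app ⊤ (sec y m) = φ m := by
  obtain ⟨l, hl⟩ := exists_tildeHom (Q := (Scheme.Modules.pushforward y.left).obj Q) φ hφ
  refine ⟨((Scheme.Modules.pullbackPushforwardAdjunction y.left).homEquiv _ _).symm l, fun m => ?_⟩
  have e := Equiv.apply_symm_apply ((Scheme.Modules.pullbackPushforwardAdjunction y.left).homEquiv (P0 B M) Q) l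
  rw [Adjunction.homEquiv_unit] at e
  rw [sec_apply, pl_apply, app_resM]
  refine (resM_refl _ _).trans ?_
  exact (congr(($e).app ⊤ (glob B M m))).trans (hl m)

theorem secHom_ext (y : T ⟶ sp R B) {Q : T.left.Modules} {h h' : pb M y ⟶ Q}
    (e : ∀ m, h.app ⊤ (sec y m) = h'.app ⊤ (sec y m)) : h = h' := by
  apply ((Scheme.Modules.pullbackPushforwardAdjunction y.left).homEquiv _ _).injective
  refine tildeHom_ext fun m => ?_
  rw [Adjunction.homEquiv_unit, Adjunction.homEquiv_unit]
  have := e m
  rw [sec_apply, pl_apply, app_resM, app_resM] at this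
  exact ((resM_refl _ _).symm.trans this).trans (resM_refl _ _)

variable [Module R M] [IsScalarTower R B M]

/-- `m ⊗ a ↦ g^* a • y^* m`. -/
def actS (g : T ⟶ sp R A) (y : T ⟶ sp R B) : M ⊗[R] A →+ Γ(pb M y, ⊤) :=
  TensorProduct.liftAddHom
    (AddMonoidHom.mk' (fun m => AddMonoidHom.mk' (fun a => fn g a • sec y m)
      fun a a' => by rw [map_add, add_smul])
      fun m m' => AddMonoidHom.ext fun a => show fn g a • sec y (m + m') = fn g a • sec y m + fn g a • sec y m' by
        rw [map_add, smul_add])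
    fun r m a => by
      show fn g a • sec y (r • m) = fn g (r • a) • sec y m
      rw [← algebraMap_smul B r m, sec_smul, fn_algebraMap y g r, smul_smul, Algebra.smul_def, map_mul, mul_comm]

theorem actS_tmul (g : T ⟶ sp R A) (y : T ⟶ sp R B) (m : M) (a : A) :
    actS g y (m ⊗ₜ[R] a) = fn g a • sec y m := rfl

theorem actS_one (g : T ⟶ sp R A) (y : T ⟶ sp R B) (m : M) : actS g y (m ⊗ₜ[R] (1 : A)) = sec y m := by
  rw [actS_tmul, map_one, one_smul]

theorem tr₀_actS (h : T' ⟶ T) (g : T ⟶ sp R A) (y : T ⟶ sp R B) (y' : T' ⟶ sp R B) (e : h ≫ y = y')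
    (x : M ⊗[R] A) :
    tr₀ y.left h.left y'.left (congrArg CommaMorphism.left e) (P0 B M) (actS g y x) = actS (h ≫ g) y' x := by
  induction x using TensorProduct.induction_on with
  | zero => simp only [map_zero]
  | add a b ha hb => simp only [map_add, ha, hb]
  | tmul m a => rw [actS_tmul, tr₀_smul, tr₀_sec h y y' e, appTop_fn, actS_tmul]

variable [HopfRep.Comod R A M] [TameAct.IsHopfMod R A B M]

theorem exists_theta (g : T ⟶ sp R A) {y y' : T ⟶ sp R B} (h : smulPt (action R A B) g y = y') :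
    ∃ Θ : pb M y ⟶ pb M y', ∀ m, Θ.app ⊤ (sec y m) = actS g y' (HopfRep.Comod.coact (k := R) (A := A) m) := by
  refine exists_secHom y ((actS g y').comp (HopfRep.Comod.coact (k := R) (A := A) : M →ₗ[R] _).toAddMonoidHom)
    fun b m => ?_
  obtain ⟨c, hc₁, hc₂⟩ := exists_pair y' g
  have hy : y = c ≫ pt (GLin.coactAlgHom R A B) := by
    rw [← smulPt_inv_smul (action R A B) g y, h]
    show lift g⁻¹ y' ≫ _ = _
    rw [lift_action_act, _root_.inv_inv, ← hc₁, ← hc₂, ← comp_lift, Category.assoc, lift_pt_ract,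
      Algebra.TensorProduct.lift_includeLeft_includeRight, AlgHom.id_comp]
  show actS g y' (HopfRep.Comod.coact (b • m)) = fn y b • actS g y' (HopfRep.Comod.coact m)
  rw [TameAct.IsHopfMod.coact_smul, hy, fn_comp_pt, GLin.coactAlgHom_apply]
  generalize HopfRep.Comod.coact (k := R) (A := A) b = t
  generalize HopfRep.Comod.coact (k := R) (A := A) m = x
  induction t using TensorProduct.induction_on with
  | zero => simp
  | add p q hp hq => simp only [map_add, LinearMap.add_apply, hp, hq, add_smul]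
  | tmul b a =>
    induction x using TensorProduct.induction_on with
    | zero => simp
    | add p q hp hq => simp only [map_add, hp, hq, smul_add]
    | tmul m a' =>
      rw [TameAct.hmSMul_tmul, actS_tmul, actS_tmul, sec_smul, smul_smul, smul_smul]
      congr 1
      rw [← hc₁, fn_comp_pt, ← hc₂, fn_comp_pt, fn_comp_pt, ← map_mul, ← map_mul]
      congr 1
      simp

/-- The action. -/
def Theta (M : Type u) [AddCommGroup M] [Module R M] [Module B M] [IsScalarTower R B M] [HopfRep.Comod R A M]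
    [TameAct.IsHopfMod R A B M] (g : T ⟶ sp R A) {y y' : T ⟶ sp R B} (h : smulPt (action R A B) g y = y') :
    pb M y ⟶ pb M y' :=
  (exists_theta g h).choose

theorem Theta_sec (g : T ⟶ sp R A) {y y' : T ⟶ sp R B} (h : smulPt (action R A B) g y = y') (m : M) :
    (Theta M g h).app ⊤ (sec y m) = actS g y' (HopfRep.Comod.coact (k := R) (A := A) m) :=
  (exists_theta g h).choose_spec m

theorem Theta_actS (g₀ g : T ⟶ sp R A) {y y' : T ⟶ sp R B} (h : smulPt (action R A B) g y = y') (m : M) (a : A) :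
    (Theta M g h).app ⊤ (actS g₀ y (m ⊗ₜ[R] a)) = fn g₀ a • actS g y' (HopfRep.Comod.coact (k := R) (A := A) m) := by
  rw [actS_tmul, Scheme.Modules.Hom.app_smul, Theta_sec]

theorem Theta_one (y : T ⟶ sp R B) (h : smulPt (action R A B) 1 y = y) : Theta M 1 h = 𝟙 _ := by
  refine secHom_ext y fun m => ?_
  rw [Theta_sec]
  show _ = sec y m
  have key : ∀ x : M ⊗[R] A, actS (1 : T ⟶ sp R A) y x =
      sec y (TensorProduct.rid R M ((CoalgebraStruct.counit (R := R) (A := A)).lTensor M x)) := fun x => by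
    induction x using TensorProduct.induction_on with
    | zero => simp
    | add p q hp hq => simp only [map_add, hp, hq]
    | tmul n a => rw [actS_tmul, fn_one y, LinearMap.lTensor_tmul, TensorProduct.rid_tmul, ← algebraMap_smul B (CoalgebraStruct.counit (R := R) a) n, sec_smul]
  rw [key, ← LinearMap.comp_apply, HopfRep.Comod.counit_comp]
  simp

theorem Theta_comp (g g' : T ⟶ sp R A) {y y' y'' : T ⟶ sp R B} (h : smulPt (action R A B) g y = y')
    (h' : smulPt (action R A B) g' y' = y'') (h'' : smulPt (action R A B) (g' * g) y = y'') :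
    Theta M g h ≫ Theta M g' h' = Theta M (g' * g) h'' := by
  refine secHom_ext y fun m => ?_
  show (Theta M g' h').app ⊤ ((Theta M g h).app ⊤ (sec y m)) = _
  rw [Theta_sec, Theta_sec]
  obtain ⟨c, hc₁, hc₂⟩ := exists_pair g' g
  let Φ : M ⊗[R] A →+ Γ(pb M y'', ⊤) := ((Theta M g' h').app ⊤).hom.comp (actS g y')
  let Ψ : (M ⊗[R] A) ⊗[R] A →+ Γ(pb M y'', ⊤) :=
    TensorProduct.liftAddHom
      (AddMonoidHom.mk' (fun x => AddMonoidHom.mk' (fun a => fn g a • actS g' y'' x)
        fun a a' => by rw [map_add, add_smul])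
        fun x x' => AddMonoidHom.ext fun a => show fn g a • actS g' y'' (x + x') = fn g a • actS g' y'' x + fn g a • actS g' y'' x' by
          rw [map_add, smul_add])
      fun r x a => by
        show fn g a • actS g' y'' (r • x) = fn g (r • a) • actS g' y'' x
        rw [Algebra.smul_def r a, map_mul, ← fn_algebraMap y'' g r, mul_comm, mul_smul]
        congr 1
        induction x using TensorProduct.induction_on with
        | zero => simp
        | add p q hp hq => simp only [smul_add, map_add, hp, hq]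
        | tmul n b =>
          rw [TensorProduct.smul_tmul', actS_tmul, ← algebraMap_smul B r n, sec_smul, actS_tmul, smul_smul,
            smul_smul, mul_comm]
  have k1 : ∀ x, Φ x = Ψ ((HopfRep.Comod.coact (k := R) (A := A) : M →ₗ[R] _).rTensor A x) := fun x => by
    induction x using TensorProduct.induction_on with
    | zero => simp
    | add p q hp hq => simp only [map_add, hp, hq]
    | tmul n a => exact Theta_actS g g' h' n a
  have k2 : ∀ x : M ⊗[R] A, Ψ ((TensorProduct.assoc R M A A).symm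
      ((CoalgebraStruct.comul (R := R) (A := A)).lTensor M x)) = actS (g' * g) y'' x := fun x => by
    induction x using TensorProduct.induction_on with
    | zero => simp
    | add p q hp hq => simp only [map_add, hp, hq]
    | tmul n a =>
      rw [LinearMap.lTensor_tmul, actS_tmul, fn_mul g' g hc₁ hc₂,
        show Bialgebra.comulAlgHom R A a = CoalgebraStruct.comul (R := R) a from rfl]
      generalize CoalgebraStruct.comul (R := R) a = t
      induction t using TensorProduct.induction_on with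
      | zero => simp
      | add p q hp hq => simp only [TensorProduct.tmul_add, map_add, hp, hq, add_smul]
      | tmul p q =>
        rw [TensorProduct.assoc_symm_tmul]
        show fn g q • actS g' y'' (n ⊗ₜ p) = _
        rw [actS_tmul, smul_smul, ← hc₁, ← hc₂, fn_comp_pt, fn_comp_pt, ← map_mul]
        congr 2
        simp
  show Φ (HopfRep.Comod.coact (k := R) (A := A) m) = _
  rw [k1, ← k2, ← LinearMap.comp_apply (LinearMap.lTensor M _), ← HopfRep.Comod.coassoc, LinearMap.comp_apply,
    LinearMap.comp_apply, LinearEquiv.coe_coe, LinearEquiv.symm_apply_apply]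

theorem tr₀_Theta (d : T' ⟶ T) (g : T ⟶ sp R A) {y y' : T ⟶ sp R B} (h : smulPt (action R A B) g y = y')
    {u u' : T' ⟶ sp R B} (hu : d ≫ y = u) (hu' : d ≫ y' = u') (g' : T' ⟶ sp R A) (hg : d ≫ g = g')
    (h' : smulPt (action R A B) g' u = u') :
    mcI y.left d.left u.left (congrArg CommaMorphism.left hu) (P0 B M) ≫ Theta M g' h' =
      (Scheme.Modules.pullback d.left).map (Theta M g h) ≫
        mcI y'.left d.left u'.left (congrArg CommaMorphism.left hu') (P0 B M) := by
  refine mcI_comp_eq y.left d.left u.left (congrArg CommaMorphism.left hu) (P0 B M) ?_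
  refine secHom_ext u fun m => ?_
  rw [Theta_sec]
  rw [comp₃_app, sec_apply u, mcH_comp_app y.left d.left u.left _ _ (top_le y.left) (top_le d.left),
    ← sec_apply y, app_pl, Theta_sec, ← tr₀_eq, tr₀_actS d g y' u' hu', hg]

theorem Theta_map {N : Type u} [AddCommGroup N] [Module R N] [Module B N] [IsScalarTower R B N]
    [HopfRep.Comod R A N] [TameAct.IsHopfMod R A B N] (f : M →ₗ[B] N) (hf : Hoch.IsComodHom A (f.restrictScalars R))
    (g : T ⟶ sp R A) {y y' : T ⟶ sp R B} (h : smulPt (action R A B) g y = y') :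
    (Scheme.Modules.pullback y.left).map (tilde.map (R := CommRingCat.of B) (ModuleCat.ofHom f)) ≫ Theta N g h =
      Theta M g h ≫ (Scheme.Modules.pullback y'.left).map (tilde.map (R := CommRingCat.of B) (ModuleCat.ofHom f)) := by
  have hsec : ∀ (w : T ⟶ sp R B) (m : M), ((Scheme.Modules.pullback w.left).map
      (tilde.map (R := CommRingCat.of B) (ModuleCat.ofHom f))).app ⊤ (sec w m) = sec w (f m) := fun w m => by
    rw [sec_apply, app_pl, tildeMap_glob, sec_apply]
  refine secHom_ext y fun m => ?_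
  show (Theta N g h).app ⊤ (((Scheme.Modules.pullback y.left).map _).app ⊤ (sec y m)) =
    ((Scheme.Modules.pullback y'.left).map _).app ⊤ ((Theta M g h).app ⊤ (sec y m))
  rw [hsec, Theta_sec, Theta_sec, show HopfRep.Comod.coact (k := R) (A := A) (f m) =
    (f.restrictScalars R).rTensor A (HopfRep.Comod.coact (k := R) (A := A) m) from LinearMap.congr_fun hf m]
  generalize HopfRep.Comod.coact (k := R) (A := A) m = x
  induction x using TensorProduct.induction_on with
  | zero => simp
  | add p q hp hq => simp only [map_add, hp, hq]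
  | tmul n a =>
    rw [LinearMap.rTensor_tmul, actS_tmul, actS_tmul, Scheme.Modules.Hom.app_smul, hsec]
    rfl

end tilde

end Groth.Agent.TameGood19
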