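import Groth.Agent.TameGood19.SingleDesc

/-! Morphisms between modules descended along one morphism. -/

set_option autoImplicit false
set_option backward.isDefEq.respectTransparency false
set_option backward.isDefEq.respectTransparency.types false
set_option maxHeartbeats 300000
set_option linter.style.haveILetI false

universe u

open CategoryTheory CategoryTheory.Limits AlgebraicGeometry Opposite TopologicalSpace
open Groth.Agent.Coherent Groth.Agent.PicLib Groth.Agent.Desc19b.QDesc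

noncomputable section

namespace Groth.Agent.TameGood19

variable {S S' X X' W : Scheme.{u}} {f : X ⟶ S} {f' : X' ⟶ S'}

theorem le_sq (g : S' ⟶ S) (top : X' ⟶ X) (sq : top ≫ f = f' ≫ g) (U : S.Opens) :
    f' ⁻¹ᵁ (g ⁻¹ᵁ U) ≤ top ⁻¹ᵁ (f ⁻¹ᵁ U) :=
  preimage_le_preimage f top (f' ≫ g) sq U

/-- Pulling back sections along a square, as a morphism on the base. -/
def pullHomSq (g : S' ⟶ S) (top : X' ⟶ X) (sq : top ≫ f = f' ≫ g) (φ : X ⟶ W) (φ' : X' ⟶ W) (hφ : top ≫ φ = φ')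
    (P : W.Modules) :
    (Scheme.Modules.pushforward f).obj ((Scheme.Modules.pullback φ).obj P) ⟶
      (Scheme.Modules.pushforward g).obj ((Scheme.Modules.pushforward f').obj ((Scheme.Modules.pullback φ').obj P)) :=
  plHom f top (f' ≫ g) sq ((Scheme.Modules.pullback φ).obj P) ≫
    (Scheme.Modules.pushforward (f' ≫ g)).map (mcI φ top φ' hφ P) ≫
      (Scheme.Modules.pushforwardComp f' g).inv.app _

theorem pullHomSq_app (g : S' ⟶ S) (top : X' ⟶ X) (sq : top ≫ f = f' ≫ g) (φ : X ⟶ W) (φ' : X' ⟶ W)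
    (hφ : top ≫ φ = φ') (P : W.Modules) (U : S.Opens) (n : Γ((Scheme.Modules.pullback φ).obj P, f ⁻¹ᵁ U)) :
    (pullHomSq g top sq φ φ' hφ P).app U n = tr φ top φ' hφ P (le_sq g top sq U) n := rfl

variable (D : SDatum f)

/-- The value as a morphism to the pushforward. -/
def SDatum.valHom : D.desc ⟶ (Scheme.Modules.pushforward f).obj D.P := comp' D.toDD PUnit.unit

theorem SDatum.valHom_app (U : S.Opens) (s : Γ(D.desc, U)) : D.valHom.app U s = D.val U s := rfl

theorem exists_squareHom (D' : SDatum f') (g : S' ⟶ S) (top : X' ⟶ X) (sq : top ≫ f = f' ≫ g)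
    (ν : (Scheme.Modules.pullback top).obj D.P ⟶ D'.P)
    (hc : ∀ (U : S.Opens) (s : Γ(D.desc, U)),
      D'.IsCompat' (U := g ⁻¹ᵁ U) (ν.app _ (pl top D.P (le_sq g top sq U) (D.val U s)))) :
    ∃ h : (Scheme.Modules.pullback g).obj D.desc ⟶ D'.desc, ∀ (U : S.Opens) (s : Γ(D.desc, U)),
      D'.val (g ⁻¹ᵁ U) (h.app (g ⁻¹ᵁ U) (pullSec g s)) = ν.app _ (pl top D.P (le_sq g top sq U) (D.val U s)) := by
  let c₀ : D.desc ⟶ (Scheme.Modules.pushforward g).obj ((Scheme.Modules.pushforward f').obj D'.P) :=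
    D.valHom ≫ plHom f top (f' ≫ g) sq D.P ≫ (Scheme.Modules.pushforward (f' ≫ g)).map ν ≫
      (Scheme.Modules.pushforwardComp f' g).inv.app _
  obtain ⟨h, hh⟩ := D'.exists_homInto_pullback g c₀ fun U s => hc U s
  exact ⟨h, fun U s => hh U s⟩

theorem exists_descHom (D' : SDatum f) (ψ : D.P ⟶ D'.P)
    (hc : ∀ (U : S.Opens) (s : Γ(D.desc, U)), D'.IsCompat' (ψ.app _ (D.val U s))) :
    ∃ h : D.desc ⟶ D'.desc, ∀ (U : S.Opens) (s : Γ(D.desc, U)), D'.val U (h.app U s) = ψ.app _ (D.val U s) := by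
  obtain ⟨h, hh⟩ := D'.exists_homInto' (D.valHom ≫ (Scheme.Modules.pushforward f).map ψ) fun U s => hc U s
  exact ⟨h, fun U s => hh U s⟩

/-- A comparison of descended modules which is an isomorphism upstairs is one. -/
theorem isIso_of_square (D' : SDatum f') [Coh.IsQCoh D.P] [Coh.IsQCoh D'.P] (hf : Cov (fun _ : PUnit.{u + 1} => f))
    (hf' : Cov (fun _ : PUnit.{u + 1} => f')) (g : S' ⟶ S) (top : X' ⟶ X) (sq : top ≫ f = f' ≫ g)
    (ν : (Scheme.Modules.pullback top).obj D.P ⟶ D'.P) [IsIso ν]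
    (h : (Scheme.Modules.pullback g).obj D.desc ⟶ D'.desc)
    (hv : ∀ (U : S.Opens) (s : Γ(D.desc, U)), D'.val (g ⁻¹ᵁ U) (h.app (g ⁻¹ᵁ U) (pullSec g s)) =
      ν.app _ (pl top D.P (le_sq g top sq U) (D.val U s))) : IsIso h := by
  haveI := D.isIso_counit hf
  haveI := D'.isIso_counit hf'
  haveI : Coh.IsQCoh D.desc := D.isQCoh_desc hf
  haveI : Coh.IsQCoh D'.desc := D'.isQCoh_desc hf'
  haveI : Coh.IsQCoh ((Scheme.Modules.pullback g).obj D.desc) := EGA43.InjFibre.isQCoh_pullback _ _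
  haveI : IsIso (mcI g f' (f' ≫ g) rfl D.desc) := ⟨mcH _ _ _ _ _, mcI_mcH _ _ _ _ _, mcH_mcI _ _ _ _ _⟩
  haveI : IsIso (mcH f top (f' ≫ g) sq D.desc) := ⟨mcI _ _ _ _ _, mcH_mcI _ _ _ _ _, mcI_mcH _ _ _ _ _⟩
  have E : mcH g f' (f' ≫ g) rfl D.desc ≫ (Scheme.Modules.pullback f').map h ≫ D'.counit =
      mcH f top (f' ≫ g) sq D.desc ≫ (Scheme.Modules.pullback top).map D.counit ≫ ν := by
    refine pullback_hom_ext (f' ≫ g) fun U s => ?_
    rw [app₂, app₂, app₂, app₂, ← pl_self (f' ≫ g), mcH_app_pl g f' _ rfl D.desc (le_refl (g ⁻¹ᵁ U)) (V' := (f' ≫ g) ⁻¹ᵁ U) le_rfl (le_refl _),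
      mcH_app_pl f top _ sq D.desc (le_refl (f ⁻¹ᵁ U)) (V' := (f' ≫ g) ⁻¹ᵁ U) (le_sq g top sq U) (le_refl _), app_pl, app_pl,
      SDatum.counit_app_pl, SDatum.counit_app_pl, resM_refl]
    refine (resM_refl _ _).trans ?_
    rw [pl_self g]
    exact hv U s
  have E' : (Scheme.Modules.pullback f').map h ≫ D'.counit =
      mcI g f' (f' ≫ g) rfl D.desc ≫ mcH f top (f' ≫ g) sq D.desc ≫ (Scheme.Modules.pullback top).map D.counit ≫ ν := by
    rw [← E, mcI_mcH_assoc]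
  haveI : IsIso ((Scheme.Modules.pullback f').map h ≫ D'.counit) := by
    rw [E']
    infer_instance
  haveI : IsIso ((Scheme.Modules.pullback f').map h) := IsIso.of_isIso_comp_right _ D'.counit
  exact isIso_of_pullback hf' h
where
  mcH_app_pl {X Y Z : Scheme.{u}} (g : Y ⟶ X) (h : Z ⟶ Y) (k : Z ⟶ X) (hk : h ≫ g = k) (P : X.Modules)
      {U : X.Opens} {V : Y.Opens} {V' : Z.Opens} (e : V ≤ g ⁻¹ᵁ U) (e' : V' ≤ h ⁻¹ᵁ V) (e'' : V' ≤ k ⁻¹ᵁ U)
      (m : Γ(P, U)) : (mcH g h k hk P).app V' (pl k P e'' m) = pl h _ e' (pl g P e m) := by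
    rw [← mcI_app_pl g h k hk P e e' m]
    exact congr(($(mcI_mcH g h k hk P)).app V' (pl h _ e' (pl g P e m)))

/-- Descended morphisms which are epimorphisms upstairs are epimorphisms. -/
theorem epi_of_counit (D D' : SDatum f) [Coh.IsQCoh D.P] [Coh.IsQCoh D'.P] (hf : Cov (fun _ : PUnit.{u + 1} => f))
    (ψ : D.P ⟶ D'.P) [Epi ψ] (h : D.desc ⟶ D'.desc)
    (hv : ∀ (U : S.Opens) (s : Γ(D.desc, U)), D'.val U (h.app U s) = ψ.app _ (D.val U s)) : Epi h := by
  haveI := D.isIso_counit hf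
  haveI := D'.isIso_counit hf
  haveI : Coh.IsQCoh D.desc := D.isQCoh_desc hf
  haveI : Coh.IsQCoh D'.desc := D'.isQCoh_desc hf
  have E : (Scheme.Modules.pullback f).map h ≫ D'.counit = D.counit ≫ ψ := by
    refine pullback_hom_ext f fun U s => ?_
    rw [app₂, app₂, ← pl_self f, app_pl, SDatum.counit_app_pl, SDatum.counit_app_pl, resM_refl, resM_refl, hv]
  haveI : Epi ((Scheme.Modules.pullback f).map h) := by
    rw [show (Scheme.Modules.pullback f).map h = (D.counit ≫ ψ) ≫ inv D'.counit by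
      rw [← E, Category.assoc, IsIso.hom_inv_id, Category.comp_id]]
    infer_instance
  exact epi_of_pullback hf h

end Groth.Agent.TameGood19
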