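import Groth.Agent.TameGood19.EqDesc
import Groth.Agent.TameGood19.SingleMap
import Groth.Prelude.Def_StMod2

/-! The quasi-coherent module on `[Spec B/G]` of a `(B, A)`-module. -/

set_option autoImplicit false
set_option backward.isDefEq.respectTransparency false
set_option backward.isDefEq.respectTransparency.types false
set_option linter.style.haveILetI false
set_option linter.unusedSectionVars false
set_option maxHeartbeats 400000

universe u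

open CategoryTheory CategoryTheory.Limits AlgebraicGeometry MonoidalCategory CartesianMonoidalCategory MonObj GrpObj Opposite TopologicalSpace
open CoactBr Groth.Agent.Stk19b.QuotTriv Groth.Agent.HopfLib.SpPoints
open Groth.Agent.Coherent Groth.Agent.PicLib Groth.Agent.Desc19b.QDesc
open scoped TensorProduct

noncomputable section

namespace Groth.Agent.TameGood19

attribute [local instance] Stk19b.Quot.hasIsos_fppf

variable {R A B : Type u} [CommRing R] [CommRing A] [HopfAlgebra R A]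
  [CommRing B] [Algebra R B] [HopfRep.Comod R A B] [GLin.IsCoactAlg R A B]

variable (M : Type u) [AddCommGroup M] [Module R M] [Module B M] [IsScalarTower R B M]
  [HopfRep.Comod R A M] [TameAct.IsHopfMod R A B M]

variable {ξ ξ' : (QS R A B).obj}

/-- Transport to a torsor. -/
def tM (χ : ξ' ⟶ ξ) {U : ξ.base.left.Opens} (V : ξ'.P.left.Opens) (e : V ≤ χ.top.left ⁻¹ᵁ (ξ.π.left ⁻¹ᵁ U)) :
    Γ(pb M ξ.φ, ξ.π.left ⁻¹ᵁ U) →+ Γ(pb M ξ'.φ, V) :=
  tr ξ.φ.left χ.top.left ξ'.φ.left (congrArg CommaMorphism.left χ.wφ) (P0 B M) e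

theorem isInv_tM (χ : ξ' ⟶ ξ) {U : ξ.base.left.Opens} {U' : ξ'.base.left.Opens}
    (e : ξ'.π.left ⁻¹ᵁ U' ≤ χ.top.left ⁻¹ᵁ (ξ.π.left ⁻¹ᵁ U)) {n : Γ(pb M ξ.φ, ξ.π.left ⁻¹ᵁ U)} (hn : IsInv M n) :
    IsInv M (tM M χ (ξ'.π.left ⁻¹ᵁ U') e n) := by
  intro T z z' g hg y y' hy hy' h V eV eV'
  have hz : (z ≫ χ.top) ≫ ξ.φ = y := by rw [Category.assoc, χ.wφ, hy]
  have hz' : (z' ≫ χ.top) ≫ ξ.φ = y' := by rw [Category.assoc, χ.wφ, hy']
  have hg' : smulPt ξ.act g (z ≫ χ.top) = z' ≫ χ.top := by rw [← hom_top_smul χ, hg]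
  rw [tM, tr_tr, tr_tr]
  exact hn T (z ≫ χ.top) (z' ≫ χ.top) g hg' y y' hz hz' h V _ _

theorem sq_top (χ : ξ' ⟶ ξ) {g : ξ'.base.left ⟶ ξ.base.left} (hg : StMod.bmap (QS R A B) χ = g) :
    χ.top.left ≫ ξ.π.left = ξ'.π.left ≫ g := by
  rw [← hg]
  exact congrArg CommaMorphism.left χ.cart.w

theorem isCompat_tr (χ : ξ' ⟶ ξ) {g : ξ'.base.left ⟶ ξ.base.left} (hg : StMod.bmap (QS R A B) χ = g)
    (U : ξ.base.left.Opens) (s : Γ(fObj M ξ, U)) :
    (datum M ξ').IsCompat' (U := g ⁻¹ᵁ U)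
      (tM M χ (ξ'.π.left ⁻¹ᵁ (g ⁻¹ᵁ U)) (le_sq g χ.top.left (sq_top χ hg) U) (val M U s)) :=
  isCompat_of_isInv M (isInv_tM M χ _ (isInv_val M s))

theorem tM_eq (χ : ξ' ⟶ ξ) {U : ξ.base.left.Opens} (V : ξ'.P.left.Opens)
    (e : V ≤ χ.top.left ⁻¹ᵁ (ξ.π.left ⁻¹ᵁ U)) (n : Γ(pb M ξ.φ, ξ.π.left ⁻¹ᵁ U)) :
    tM M χ V e n = (mcI ξ.φ.left χ.top.left ξ'.φ.left (congrArg CommaMorphism.left χ.wφ) (P0 B M)).app V
      (pl χ.top.left _ e n) := rfl

theorem exists_mapHom (χ : ξ' ⟶ ξ) {g : ξ'.base.left ⟶ ξ.base.left} (hg : StMod.bmap (QS R A B) χ = g) :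
    ∃ h : (Scheme.Modules.pullback g).obj (fObj M ξ) ⟶ fObj M ξ', ∀ (U : ξ.base.left.Opens) (s : Γ(fObj M ξ, U)),
      val M (g ⁻¹ᵁ U) (h.app (g ⁻¹ᵁ U) (pullSec g s)) =
        tM M χ _ (le_sq g χ.top.left (sq_top χ hg) U) (val M U s) := by
  have hc : ∀ (U : ξ.base.left.Opens) (s : Γ(fObj M ξ, U)), (datum M ξ').IsCompat' (U := g ⁻¹ᵁ U)
      ((mcI ξ.φ.left χ.top.left ξ'.φ.left (congrArg CommaMorphism.left χ.wφ) (P0 B M)).app _
        (pl χ.top.left _ (le_sq g χ.top.left (sq_top χ hg) U) (val M U s))) := fun U s => by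
    rw [← tM_eq]
    exact isCompat_tr M χ hg U s
  obtain ⟨h, hh⟩ := exists_squareHom (datum M ξ) (datum M ξ') g χ.top.left (sq_top χ hg)
    (mcI ξ.φ.left χ.top.left ξ'.φ.left (congrArg CommaMorphism.left χ.wφ) (P0 B M)) hc
  refine ⟨h, fun U s => ?_⟩
  rw [tM_eq]
  exact hh U s

/-- The comparison map. -/
def mapF (χ : ξ' ⟶ ξ) {g : ξ'.base.left ⟶ ξ.base.left} (hg : StMod.bmap (QS R A B) χ = g) :
    fObj M ξ ⟶ (Scheme.Modules.pushforward g).obj (fObj M ξ') :=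
  (Scheme.Modules.pullbackPushforwardAdjunction g).homEquiv _ _ (exists_mapHom M χ hg).choose

theorem val_mapF (χ : ξ' ⟶ ξ) {g : ξ'.base.left ⟶ ξ.base.left} (hg : StMod.bmap (QS R A B) χ = g)
    (U : ξ.base.left.Opens) (s : Γ(fObj M ξ, U)) :
    val M (g ⁻¹ᵁ U) ((mapF M χ hg).app U s) = tM M χ _ (le_sq g χ.top.left (sq_top χ hg) U) (val M U s) := by
  rw [mapF, Adjunction.homEquiv_unit]
  exact (exists_mapHom M χ hg).choose_spec U s

theorem tM_id {U : ξ.base.left.Opens} (n : Γ(pb M ξ.φ, ξ.π.left ⁻¹ᵁ U)) :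
    tM M (𝟙 ξ) (ξ.π.left ⁻¹ᵁ U) le_rfl n = n :=
  tr_id ξ.φ.left (P0 B M) n

theorem tM_comp {ξ'' : (QS R A B).obj} (ψ : ξ'' ⟶ ξ') (χ : ξ' ⟶ ξ) {U : ξ.base.left.Opens} {U' : ξ'.base.left.Opens}
    (e : ξ'.π.left ⁻¹ᵁ U' ≤ χ.top.left ⁻¹ᵁ (ξ.π.left ⁻¹ᵁ U)) (V : ξ''.P.left.Opens)
    (e' : V ≤ ψ.top.left ⁻¹ᵁ (ξ'.π.left ⁻¹ᵁ U')) (e'' : V ≤ (ψ ≫ χ).top.left ⁻¹ᵁ (ξ.π.left ⁻¹ᵁ U))
    (n : Γ(pb M ξ.φ, ξ.π.left ⁻¹ᵁ U)) :
    tM M ψ V e' (tM M χ (ξ'.π.left ⁻¹ᵁ U') e n) = tM M (ψ ≫ χ) V e'' n :=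
  tr_tr _ _ _ _ _ _ _ _ _ _ n

/-- The module. -/
def eqMod : StMod.Mod (QS R A B) where
  obj ξ := fObj M ξ
  map χ _ hg := mapF M χ hg
  map_id ξ := by
    ext U s
    refine val_ext M ?_
    exact (val_mapF M (𝟙 ξ) (StMod.bmap_id ξ) U s).trans (tM_id M (val M U s))
  map_comp {ξ'' ξ' ξ} ψ χ {h g} hh hg := by
    ext U s
    refine val_ext M (U := (h ≫ g) ⁻¹ᵁ U) ?_
    refine (val_mapF M (ψ ≫ χ) (g := h ≫ g) _ U s).trans
      (Eq.trans ?_ (val_mapF M ψ hh (g ⁻¹ᵁ U) ((mapF M χ hg).app U s)).symm)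
    rw [val_mapF M χ hg U s]
    exact (tM_comp M ψ χ (le_sq g χ.top.left (sq_top χ hg) U) _ (le_sq h ψ.top.left (sq_top ψ hh) (g ⁻¹ᵁ U)) _
      (val M U s)).symm

theorem eqMod_mapTop (χ : ξ' ⟶ ξ) (s : Γ(fObj M ξ, ⊤)) :
    val M ⊤ ((eqMod M).mapTop χ s) = tM M χ ⊤ (top_le _) (val M ⊤ s) :=
  val_mapF M χ rfl ⊤ s

/-- Global sections of the module with the same value. -/
theorem mapTop_eq_of_val (χ : ξ' ⟶ ξ) {s : Γ(fObj M ξ, ⊤)} {s' : Γ(fObj M ξ', ⊤)}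
    (h : tM M χ ⊤ (top_le _) (val M ⊤ s) = val M ⊤ s') : (eqMod M).mapTop χ s = s' :=
  val_ext M ((eqMod_mapTop M χ s).trans h)

variable [Module.Flat R A] [Algebra.FinitePresentation R A]

theorem isCartesian_eqMod : (eqMod M : StMod.Mod (QS R A B)).IsCartesian := by
  intro ξ' ξ χ g hg
  show IsIso (((Scheme.Modules.pullbackPushforwardAdjunction g).homEquiv _ _).symm (mapF M χ hg))
  rw [mapF, Equiv.symm_apply_apply]
  haveI : Coh.IsQCoh (datum M ξ).P := isQCoh_pb M ξ.φ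
  haveI : Coh.IsQCoh (datum M ξ').P := isQCoh_pb M ξ'.φ
  haveI : IsIso (mcI ξ.φ.left χ.top.left ξ'.φ.left (congrArg CommaMorphism.left χ.wφ) (P0 B M)) :=
    ⟨mcH _ _ _ _ _, mcI_mcH _ _ _ _ _, mcH_mcI _ _ _ _ _⟩
  exact isIso_of_square (datum M ξ) (datum M ξ') (cov_tor ξ) (cov_tor ξ') g χ.top.left (sq_top χ hg)
    (mcI ξ.φ.left χ.top.left ξ'.φ.left (congrArg CommaMorphism.left χ.wφ) (P0 B M))
    (exists_mapHom M χ hg).choose fun U s => (exists_mapHom M χ hg).choose_spec U s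

/-- The quasi-coherent module. -/
def eqQCoh : StMod.QCoh (QS R A B) := ⟨eqMod M, isCartesian_eqMod M, fun ξ => isQCoh_fObj M ξ⟩

variable {M}

section map

variable {N : Type u} [AddCommGroup N] [Module R N] [Module B N] [IsScalarTower R B N]
  [HopfRep.Comod R A N] [TameAct.IsHopfMod R A B N] (f : M →ₗ[B] N)

/-- The morphism of pullbacks of a linear map. -/
def pbMap {T : Over (Spec (CommRingCat.of R))} (y : T ⟶ sp R B) : pb M y ⟶ pb N y :=
  (Scheme.Modules.pullback y.left).map (tilde.map (R := CommRingCat.of B) (ModuleCat.ofHom f))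

theorem pbMap_tr {T T' : Over (Spec (CommRingCat.of R))} (y : T ⟶ sp R B) (y' : T' ⟶ sp R B) (d : T' ⟶ T)
    (hd : d.left ≫ y.left = y'.left) {V : T.left.Opens} {V' : T'.left.Opens} (e : V' ≤ d.left ⁻¹ᵁ V)
    (n : Γ(pb M y, V)) :
    (pbMap f y').app V' (tr y.left d.left y'.left hd (P0 B M) e n) =
      tr y.left d.left y'.left hd (P0 B N) e ((pbMap f y).app V n) :=
  app_tr _ _ _ _ _ _ e n

theorem pbMap_sec {T : Over (Spec (CommRingCat.of R))} (y : T ⟶ sp R B) (m : M) :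
    (pbMap f y).app ⊤ (sec y m) = sec y (f m) := by
  rw [sec_apply, pbMap, app_pl, tildeMap_glob, sec_apply]

variable (hf : Hoch.IsComodHom A (f.restrictScalars R))

include hf in
theorem isInv_pbMap {U : ξ.base.left.Opens} {n : Γ(pb M ξ.φ, ξ.π.left ⁻¹ᵁ U)} (hn : IsInv M n) :
    IsInv N ((pbMap f ξ.φ).app _ n) := by
  intro T z z' g hg y y' hy hy' h V e e'
  rw [← pbMap_tr, ← pbMap_tr, ← hn T z z' g hg y y' hy hy' h V e e']
  exact congr(($(Theta_map f hf g h)).app V _)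

include hf in
theorem exists_uApp (ξ : (QS R A B).obj) : ∃ u : fObj M ξ ⟶ fObj N ξ,
    ∀ (U : ξ.base.left.Opens) (s : Γ(fObj M ξ, U)), val N U (u.app U s) = (pbMap f ξ.φ).app _ (val M U s) := by
  obtain ⟨u, hu⟩ := exists_descHom (datum M ξ) (datum N ξ) (pbMap f ξ.φ)
    fun U s => isCompat_of_isInv N (isInv_pbMap f hf (isInv_val M s))
  exact ⟨u, fun U s => hu U s⟩

/-- The morphism of modules. -/
def eqMap : eqQCoh M ⟶ eqQCoh (R := R) (A := A) (B := B) N :=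
  ObjectProperty.homMk
    { app := fun ξ => (exists_uApp f hf ξ).choose
      comm := fun {ξ' ξ} χ g hg => by
        ext U s
        refine val_ext N (U := g ⁻¹ᵁ U) ?_
        refine ((exists_uApp f hf ξ').choose_spec (g ⁻¹ᵁ U) ((mapF M χ hg).app U s)).trans
          (Eq.trans ?_ (val_mapF N χ hg U ((exists_uApp f hf ξ).choose.app U s)).symm)
        rw [val_mapF M χ hg U s, (exists_uApp f hf ξ).choose_spec U s]
        exact pbMap_tr f ξ.φ ξ'.φ χ.top _ _ _ }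

theorem val_eqMap (ξ : (QS R A B).obj) (U : ξ.base.left.Opens) (s : Γ(fObj M ξ, U)) :
    val N U (((eqMap f hf).hom.app ξ).app U s) = (pbMap f ξ.φ).app _ (val M U s) :=
  (exists_uApp f hf ξ).choose_spec U s

include hf in
theorem epi_eqMap_app (hs : Function.Surjective f) (ξ : (QS R A B).obj) : Epi ((eqMap f hf).hom.app ξ) := by
  haveI : Coh.IsQCoh (datum M ξ).P := isQCoh_pb M ξ.φ
  haveI : Coh.IsQCoh (datum N ξ).P := isQCoh_pb N ξ.φ
  haveI : Epi (ModuleCat.ofHom (R := CommRingCat.of B) f) := (ModuleCat.epi_iff_surjective _).2 hs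
  haveI : (tilde.functor (CommRingCat.of B)).PreservesEpimorphisms :=
    Functor.preservesEpimorphisms_of_adjunction (tilde.adjunction (R := CommRingCat.of B))
  haveI : Epi ((tilde.functor (CommRingCat.of B)).map (ModuleCat.ofHom f)) :=
    (tilde.functor (CommRingCat.of B)).map_epi (ModuleCat.ofHom f)
  haveI : (Scheme.Modules.pullback ξ.φ.left).IsLeftAdjoint :=
    (Scheme.Modules.pullbackPushforwardAdjunction _).isLeftAdjoint
  haveI : Epi (pbMap f ξ.φ) :=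
    inferInstanceAs (Epi ((Scheme.Modules.pullback ξ.φ.left).map ((tilde.functor (CommRingCat.of B)).map (ModuleCat.ofHom f))))
  exact epi_of_counit (datum M ξ) (datum N ξ) (cov_tor ξ) (pbMap f ξ.φ) ((eqMap f hf).hom.app ξ)
    fun U s => val_eqMap f hf ξ U s

end map

end Groth.Agent.TameGood19
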