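import Groth.Agent.TameGood19.Avg
import Groth.Agent.AlgSpLib.AffineDescent
import Groth.Prelude.Def_StMod2

/-! Sections of pushforwards along `[Spec B/G] ⟶ Spec B^G`. -/

set_option autoImplicit false
set_option backward.isDefEq.respectTransparency false
set_option backward.isDefEq.respectTransparency.types false
set_option linter.style.haveILetI false
set_option linter.unusedSectionVars false
set_option maxHeartbeats 400000

universe u

open CategoryTheory CategoryTheory.Limits AlgebraicGeometry MonoidalCategory CartesianMonoidalCategory MonObj GrpObj Opposite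
open CoactBr Groth.Agent.Stk19b.QuotTriv Groth.Agent.HopfLib.SpPoints
open scoped TensorProduct

noncomputable section

namespace Groth.Agent.TameGood19

attribute [local instance] Stk19b.Quot.hasIsos_fppf

variable (R A B : Type u) [CommRing R] [CommRing A] [HopfAlgebra R A]
  [CommRing B] [Algebra R B] [HopfRep.Comod R A B] [GLin.IsCoactAlg R A B]

/-- The quotient map `Spec B ⟶ Spec B^G`. -/
abbrev qmap : sp R B ⟶ sp R ↥(GLin.invariants R A B) := pt (GLin.invariants R A B).val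

variable {R A B}

theorem ract_qmap : ract R A B ≫ qmap R A B = fst (sp R B) (sp R A) ≫ qmap R A B := by
  haveI := Misc15.AffinePoints.isIso_Q (R := R) B A
  rw [← cancel_epi (Misc15.AffinePoints.Q (R := R) B A)]
  show lift _ _ ≫ _ = lift _ _ ≫ _
  rw [← Category.assoc, lift_pt_ract, lift_fst_assoc, ← pt_comp, ← pt_comp]
  rw [Algebra.TensorProduct.lift_includeLeft_includeRight, AlgHom.id_comp]
  congr 1
  exact AlgHom.ext fun c => c.2

theorem smulPt_qmap {T : Over (Spec (CommRingCat.of R))} (g : T ⟶ sp R A) (y : T ⟶ sp R B) :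
    smulPt (action R A B) g y ≫ qmap R A B = y ≫ qmap R A B := by
  show (lift g y ≫ _) ≫ _ = _
  rw [lift_action_act, Category.assoc, ract_qmap, lift_fst_assoc]

variable [Module.Flat R A] [Algebra.FinitePresentation R A]

theorem sp_flat : Flat (sp R A).hom :=
  (HasRingHomProperty.Spec_iff (P := @Flat)).mpr (RingHom.flat_algebraMap_iff.mpr inferInstance)

theorem sp_lfp : LocallyOfFinitePresentation (sp R A).hom :=
  (HasRingHomProperty.Spec_iff (P := @LocallyOfFinitePresentation)).mpr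
    (RingHom.finitePresentation_algebraMap.mpr inferInstance)

/-- Trivialisation data of an object. -/
theorem exists_cover (ξ : (QS R A B).obj) :
    ∃ (ζ : (QS R A B).obj) (n : triv Scheme.fppfPrecoverage (action R A B) ξ.φ ⟶ ξ)
      (q₁ q₂ : ζ ⟶ triv Scheme.fppfPrecoverage (action R A B) ξ.φ),
      n.base = ξ.π ∧ q₁ ≫ n = q₂ ≫ n ∧
      IsPullback (StMod.bmap (QS R A B) q₁) (StMod.bmap (QS R A B) q₂) (StMod.bmap (QS R A B) n) (StMod.bmap (QS R A B) n) ∧
      Flat (StMod.bmap (QS R A B) n) ∧ LocallyOfFinitePresentation (StMod.bmap (QS R A B) n) ∧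
      Surjective (StMod.bmap (QS R A B) n) := by
  haveI := sp_flat (R := R) (A := A)
  haveI := sp_lfp (R := R) (A := A)
  obtain ⟨n, hn⟩ := exists_tautHom ξ
  obtain ⟨m, hm, -⟩ := exists_hom_of_point ξ (snd (sp R A) ξ.P) (snd (sp R A) ξ.P ≫ ξ.π) rfl
    (snd (sp R A) ξ.P ≫ ξ.φ) rfl
  obtain ⟨q₁, ⟨hb₁, h₁⟩, -⟩ := Stk19b.Quot.existsUnique_fac n m ξ.act.act
    ((congrArg (ξ.act.act ≫ ·) hn).trans (ξ.cart.w.trans hm.symm))
  obtain ⟨q₂, ⟨hb₂, h₂⟩, -⟩ := Stk19b.Quot.existsUnique_fac n m (snd (sp R A) ξ.P)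
    ((congrArg (snd (sp R A) ξ.P ≫ ·) hn).trans hm.symm)
  have en : StMod.bmap (QS R A B) n = ξ.π.left := congrArg CommaMorphism.left hn
  refine ⟨_, n, q₁, q₂, hn, h₁.trans h₂.symm, ?_, ?_, ?_, ?_⟩
  · rw [en, show StMod.bmap (QS R A B) q₁ = ξ.act.act.left from congrArg CommaMorphism.left hb₁,
      show StMod.bmap (QS R A B) q₂ = (snd (sp R A) ξ.P).left from congrArg CommaMorphism.left hb₂]
    exact ξ.cart.map (Over.forget _)
  all_goals rw [en]
  · exact Stk19b.Quot.π_prop Scheme.fppfPrecoverage_le_fpqcPrecoverage @Flat AlgSpLib.descends_flat inferInstance ξ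
  · exact Stk19b.Quot.π_prop Scheme.fppfPrecoverage_le_fpqcPrecoverage @LocallyOfFinitePresentation inferInstance
      inferInstance ξ
  · exact Stk19b.Quot.π_prop Scheme.fppfPrecoverage_le_fpqcPrecoverage @Surjective inferInstance
      Stk19b.Quot.surjective_hom ξ

/-- Restriction along the trivialisation is injective. -/
theorem mapTop_taut_injective (F : StMod.QCoh (QS R A B)) {ξ : (QS R A B).obj}
    (n : triv Scheme.fppfPrecoverage (action R A B) ξ.φ ⟶ ξ) (hn : n.base = ξ.π) :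
    Function.Injective (F.obj.mapTop n) := by
  obtain ⟨ζ, n', q₁, q₂, hn', hq, sq, h1, h2, h3⟩ := exists_cover ξ
  intro s s' h
  obtain ⟨k, hk, hkb⟩ := exists_fac_taut n hn n'
  have e : F.obj.mapTop n' s = F.obj.mapTop n' s' := by
    rw [← hk, StMod.Mod.mapTop_comp, StMod.Mod.mapTop_comp, h]
  exact (existsUnique_mapTop F n' q₁ q₂ hq sq (F.obj.mapTop n' s) (by
    rw [← StMod.Mod.mapTop_comp, ← StMod.Mod.mapTop_comp, hq])).unique rfl e.symm

section Chart

variable (ρ : QS R A B ⥤ᵇ AlgSt.ofSch (sp R ↥(GLin.invariants R A B)))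
  (E : AlgSp.EtOver ((AlgSp.yon (Spec (CommRingCat.of R))).obj (sp R ↥(GLin.invariants R A B))))

/-- The map of an etale test object. -/
abbrev eMap : E.obj.left ⟶ sp R ↥(GLin.invariants R A B) := (StMod.etaOf E).sec.down

omit [Module.Flat R A] [Algebra.FinitePresentation R A] in
theorem etale_eMap : Etale (eMap E).left := by
  have h1 : (AlgSp.yon (Spec (CommRingCat.of R))).map (eMap E) = E.obj.hom :=
    ((AlgSp.J _).uliftYonedaEquiv).injective (by
      rw [GrothendieckTopology.uliftYonedaEquiv_uliftYoneda_map]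
      rfl)
  exact (AlgSp.repWith_yon_map_iff (P := @Etale) (eMap E)).1 (h1 ▸ E.property)

omit [Module.Flat R A] [Algebra.FinitePresentation R A] in
theorem baseOver_eq (ξ : (QS R A B).obj) {ob : (AlgSt.ofSch (sp R ↥(GLin.invariants R A B))).obj}
    (α : ρ.obj ξ ⟶ ob) : StMod.baseOver ρ ξ α = eqToHom (ρ.w_obj ξ).symm ≫ α.hom := rfl

omit [Module.Flat R A] [Algebra.FinitePresentation R A] in
theorem alpha_ext {ξ : (QS R A B).obj} {α α' : ρ.obj ξ ⟶ StMod.etaOf E}
    (h : StMod.baseOver ρ ξ α = StMod.baseOver ρ ξ α') : α = α' :=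
  Stk.EltObj.hom_ext ((cancel_epi (eqToHom (ρ.w_obj ξ).symm)).1 h)

variable
  (hρ : BasedFunctor.comp (AlgSt.quotMap Scheme.fppfPrecoverage (sp R A) (action R A B)) ρ =
      AlgSt.ofSpMap ((AlgSp.yon (Spec (CommRingCat.of R))).map (qmap R A B)))

include hρ in
omit [Module.Flat R A] [Algebra.FinitePresentation R A] in
theorem obj_triv {W : Over (Spec (CommRingCat.of R))} (y : W ⟶ sp R B) :
    ρ.obj (triv Scheme.fppfPrecoverage (action R A B) y) = ⟨W, ⟨y ≫ qmap R A B⟩⟩ :=
  congrArg (fun F => F.obj ((AlgSt.ofOverCat (sp R B)).obj (Over.mk y))) (congrArg BasedFunctor.toFunctor hρ)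

include hρ in
omit [Module.Flat R A] [Algebra.FinitePresentation R A] in
theorem exists_alpha {W : Over (Spec (CommRingCat.of R))} (y : W ⟶ sp R B) (l : W ⟶ E.obj.left)
    (hl : y ≫ qmap R A B = l ≫ eMap E) :
    ∃ α : ρ.obj (triv Scheme.fppfPrecoverage (action R A B) y) ⟶ StMod.etaOf E,
      StMod.baseOver ρ (triv Scheme.fppfPrecoverage (action R A B) y) α = l := by
  refine ⟨eqToHom (obj_triv ρ hρ y) ≫ (⟨l, congrArg ULift.up hl.symm⟩ :
    (⟨W, ⟨y ≫ qmap R A B⟩⟩ : (AlgSt.ofSch (sp R ↥(GLin.invariants R A B))).obj) ⟶ StMod.etaOf E), ?_⟩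
  rw [baseOver_eq]
  show _ ≫ (Stk.EltObj.forget _).map (_ ≫ _) = _
  rw [Functor.map_comp, eqToHom_map, eqToHom_trans_assoc, eqToHom_refl, Category.id_comp]
  rfl

include hρ in
omit [Module.Flat R A] [Algebra.FinitePresentation R A] in
theorem baseOver_triv {W : Over (Spec (CommRingCat.of R))} (y : W ⟶ sp R B)
    (α : ρ.obj (triv Scheme.fppfPrecoverage (action R A B) y) ⟶ StMod.etaOf E) :
    y ≫ qmap R A B = StMod.baseOver ρ (triv Scheme.fppfPrecoverage (action R A B) y) α ≫ eMap E := by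
  let α' : (⟨W, ⟨y ≫ qmap R A B⟩⟩ : (AlgSt.ofSch (sp R ↥(GLin.invariants R A B))).obj) ⟶ StMod.etaOf E :=
    eqToHom (obj_triv ρ hρ y).symm ≫ α
  have e1 : α'.hom ≫ eMap E = y ≫ qmap R A B := congrArg ULift.down α'.map_sec
  have e2 : α'.hom = StMod.baseOver ρ (triv Scheme.fppfPrecoverage (action R A B) y) α := by
    rw [baseOver_eq]
    show (Stk.EltObj.forget _).map (_ ≫ _) = _
    rw [Functor.map_comp, eqToHom_map]
    rfl
  rw [← e2, e1]

variable {XE : Over (Spec (CommRingCat.of R))} {x : XE ⟶ sp R B} {k : XE ⟶ E.obj.left}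
  (sq : IsPullback x.left k.left (qmap R A B).left (eMap E).left)
  (α₀ : ρ.obj (triv Scheme.fppfPrecoverage (action R A B) x) ⟶ StMod.etaOf E)
  (hα₀ : StMod.baseOver ρ (triv Scheme.fppfPrecoverage (action R A B) x) α₀ = k)

include hρ sq hα₀ in
omit [Module.Flat R A] [Algebra.FinitePresentation R A] in
theorem exists_chart (ξ : (QS R A B).obj) (α : ρ.obj ξ ⟶ StMod.etaOf E)
    (n : triv Scheme.fppfPrecoverage (action R A B) ξ.φ ⟶ ξ) :
    ∃ M : triv Scheme.fppfPrecoverage (action R A B) ξ.φ ⟶ triv Scheme.fppfPrecoverage (action R A B) x,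
      ρ.map M ≫ α₀ = ρ.map n ≫ α := by
  have hP := baseOver_triv ρ E hρ ξ.φ (ρ.map n ≫ α)
  let b := StMod.baseOver ρ _ (ρ.map n ≫ α)
  let l : ξ.P ⟶ XE := Over.homMk (sq.lift ξ.φ.left b.left (congrArg CommaMorphism.left hP)) (by
    show _ ≫ XE.hom = _
    rw [← Over.w x, sq.lift_fst_assoc]
    exact Over.w ξ.φ)
  have hlx : l ≫ x = ξ.φ := Over.OverMorphism.ext (sq.lift_fst _ _ _)
  have hlk : l ≫ k = b := Over.OverMorphism.ext (sq.lift_snd _ _ _)
  refine ⟨tHom ξ.φ x l 1 (by rw [hlx, smulPt_one]), alpha_ext ρ E ?_⟩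
  rw [← StMod.map_comp_baseOver, hα₀]
  show (tHom (K := Scheme.fppfPrecoverage) ξ.φ x l 1 _).base ≫ k = b
  exact (congrArg (· ≫ k) (tHom_base (K := Scheme.fppfPrecoverage) ξ.φ x l 1 _)).trans hlk

include hρ sq hα₀ in
/-- Sections of the pushforward are determined by their value on the chart. -/
theorem relSect_ext (F : StMod.QCoh (QS R A B)) (s s' : StMod.Mod.RelSect ρ F.obj (StMod.etaOf E))
    (h : s.1 (triv Scheme.fppfPrecoverage (action R A B) x) α₀ = s'.1 (triv Scheme.fppfPrecoverage (action R A B) x) α₀) :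
    s = s' := by
  refine StMod.Mod.RelSect.ext _ _ _ fun ξ α => ?_
  obtain ⟨n, hn⟩ := exists_tautHom ξ
  obtain ⟨M, hM⟩ := exists_chart ρ E hρ sq α₀ hα₀ ξ α n
  apply mapTop_taut_injective F n hn
  rw [s.2 n α, s'.2 n α, ← hM, ← s.2 M α₀, ← s'.2 M α₀, h]

include hρ sq hα₀ in
/-- Sections on the chart which do not distinguish morphisms over `E` extend. -/
theorem exists_extension (F : StMod.QCoh (QS R A B))
    (m : Γ(F.obj.obj (triv Scheme.fppfPrecoverage (action R A B) x), ⊤))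
    (hm : ∀ (W : Over (Spec (CommRingCat.of R))) (y : W ⟶ sp R B)
      (f₁ f₂ : triv Scheme.fppfPrecoverage (action R A B) y ⟶ triv Scheme.fppfPrecoverage (action R A B) x),
      ρ.map f₁ ≫ α₀ = ρ.map f₂ ≫ α₀ → F.obj.mapTop f₁ m = F.obj.mapTop f₂ m) :
    ∃ s : StMod.Mod.RelSect ρ F.obj (StMod.etaOf E),
      s.1 (triv Scheme.fppfPrecoverage (action R A B) x) α₀ = m := by
  have hex : ∀ (ξ : (QS R A B).obj) (α : ρ.obj ξ ⟶ StMod.etaOf E), ∃ t : Γ(F.obj.obj ξ, ⊤),
      ∀ (W : Over (Spec (CommRingCat.of R))) (y : W ⟶ sp R B)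
        (n : triv Scheme.fppfPrecoverage (action R A B) y ⟶ ξ)
        (M : triv Scheme.fppfPrecoverage (action R A B) y ⟶ triv Scheme.fppfPrecoverage (action R A B) x),
        ρ.map M ≫ α₀ = ρ.map n ≫ α → F.obj.mapTop n t = F.obj.mapTop M m := by
    intro ξ α
    obtain ⟨ζ, n, q₁, q₂, hn, hq, sq', h1, h2, h3⟩ := exists_cover ξ
    obtain ⟨M, hM⟩ := exists_chart ρ E hρ sq α₀ hα₀ ξ α n
    obtain ⟨nz, hnz⟩ := exists_tautHom ζ
    have hc : F.obj.mapTop q₁ (F.obj.mapTop M m) = F.obj.mapTop q₂ (F.obj.mapTop M m) := by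
      apply mapTop_taut_injective F nz hnz
      simp only [← StMod.Mod.mapTop_comp]
      refine hm _ _ _ _ ?_
      simp only [Functor.map_comp, Category.assoc, hM]
      simp only [← Category.assoc, ← Functor.map_comp]
      rw [Category.assoc nz, hq, Category.assoc]
    obtain ⟨t, ht, -⟩ := existsUnique_mapTop F n q₁ q₂ hq sq' _ hc
    refine ⟨t, fun W y n' M' hM' => ?_⟩
    obtain ⟨k', hk', -⟩ := exists_fac_taut n hn n'
    rw [← hk', StMod.Mod.mapTop_comp, ht, ← StMod.Mod.mapTop_comp]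
    refine hm _ _ _ _ ?_
    rw [hM', ← hk', Functor.map_comp, Functor.map_comp, Category.assoc, Category.assoc, hM]
  choose t ht using hex
  refine ⟨⟨t, fun ξ' ξ φ α => ?_⟩, ?_⟩
  · obtain ⟨n, hn⟩ := exists_tautHom ξ'
    obtain ⟨M, hM⟩ := exists_chart ρ E hρ sq α₀ hα₀ ξ' (ρ.map φ ≫ α) n
    apply mapTop_taut_injective F n hn
    rw [← StMod.Mod.mapTop_comp, ht ξ α _ _ (n ≫ φ) M (by rw [hM, Functor.map_comp, Category.assoc]),
      ht ξ' (ρ.map φ ≫ α) _ _ n M hM]
  · have e := ht _ α₀ _ x (𝟙 (triv Scheme.fppfPrecoverage (action R A B) x))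
      (𝟙 (triv Scheme.fppfPrecoverage (action R A B) x)) rfl
    rwa [StMod.Mod.mapTop_id, StMod.Mod.mapTop_id] at e

end Chart

end Groth.Agent.TameGood19
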