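import Groth.Agent.Stk19b.QuotTriv
import Groth.Agent.Stk19b.Quot.Basic

/-! Morphisms between trivial objects of a quotient category, as pairs of a base map and a group element. -/

set_option autoImplicit false
set_option backward.isDefEq.respectTransparency false
set_option backward.isDefEq.respectTransparency.types false

universe u

open CategoryTheory CategoryTheory.Limits AlgebraicGeometry MonoidalCategory CartesianMonoidalCategory MonObj GrpObj
open Groth.Agent.Stk19b.QuotTriv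

namespace Groth.Agent.TameGood19

variable {S : Scheme.{u}} {G X : Over S} [GrpObj G] {K : Precoverage Scheme.{u}} [K.HasIsos]
  {aX : AlgGrp.Action G X}

/-- The morphism of trivial objects with base `f` and group element `g`. -/
noncomputable def tHom {T T' : Over S} (x : T ⟶ X) (x' : T' ⟶ X) (f : T ⟶ T') (g : T ⟶ G)
    (hg : smulPt aX g (f ≫ x') = x) : triv K aX x ⟶ triv K aX x' :=
  (exists_hom_of_smul (K := K) x x' f g hg).choose

theorem tHom_base {T T' : Over S} (x : T ⟶ X) (x' : T' ⟶ X) (f : T ⟶ T') (g : T ⟶ G)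
    (hg : smulPt aX g (f ≫ x') = x) : (tHom (K := K) x x' f g hg).base = f :=
  (exists_hom_of_smul (K := K) x x' f g hg).choose_spec.1

theorem tHom_top {T T' : Over S} (x : T ⟶ X) (x' : T' ⟶ X) (f : T ⟶ T') (g : T ⟶ G)
    (hg : smulPt aX g (f ≫ x') = x) :
    (tHom (K := K) x x' f g hg).top = lift (fst G T * (snd G T ≫ g)) (snd G T ≫ f) :=
  (exists_hom_of_smul (K := K) x x' f g hg).choose_spec.2

/-- Every morphism of trivial objects is of this form. -/
theorem exists_eq_tHom {T T' : Over S} {x : T ⟶ X} {x' : T' ⟶ X} (h : triv K aX x ⟶ triv K aX x')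
    {f : T ⟶ T'} (hf : h.base = f) :
    ∃ (g : T ⟶ G) (hg : smulPt aX g (f ≫ x') = x), h = tHom x x' f g hg := by
  obtain ⟨g, hg, ht⟩ := exists_smul_of_hom h f hf
  exact ⟨g, hg, AlgSt.QuotObj.hom_ext (hf.trans (tHom_base _ _ _ _ _).symm) (ht.trans (tHom_top _ _ _ _ _).symm)⟩

theorem tHom_congr {T T' : Over S} {x : T ⟶ X} {x' : T' ⟶ X} {f f' : T ⟶ T'} {g g' : T ⟶ G}
    (hg : smulPt aX g (f ≫ x') = x) (hg' : smulPt aX g' (f' ≫ x') = x) (ef : f = f') (eg : g = g') :
    tHom (K := K) x x' f g hg = tHom x x' f' g' hg' := by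
  subst ef eg
  rfl

theorem tHom_comp {T T' T'' : Over S} {x : T ⟶ X} {x' : T' ⟶ X} {x'' : T'' ⟶ X} {f : T ⟶ T'} {f' : T' ⟶ T''}
    {g : T ⟶ G} {g' : T' ⟶ G} (hg : smulPt aX g (f ≫ x') = x) (hg' : smulPt aX g' (f' ≫ x'') = x') :
    ∃ hgg, tHom (K := K) x x' f g hg ≫ tHom x' x'' f' g' hg' = tHom x x'' (f ≫ f') (g * (f ≫ g')) hgg := by
  have hgg : smulPt aX (g * (f ≫ g')) ((f ≫ f') ≫ x'') = x := by
    rw [smulPt_mul, Category.assoc, ← comp_smulPt, hg', hg]
  refine ⟨hgg, AlgSt.QuotObj.hom_ext ?_ ?_⟩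
  · rw [tHom_base]
    exact congr($(tHom_base x x' f g hg) ≫ $(tHom_base x' x'' f' g' hg'))
  · rw [tHom_top]
    refine (congr($(tHom_top x x' f g hg) ≫ $(tHom_top x' x'' f' g' hg'))).trans ?_
    rw [comp_lift, MonObj.comp_mul, lift_fst, lift_snd_assoc, lift_snd_assoc, MonObj.comp_mul, Category.assoc,
      _root_.mul_assoc, Category.assoc]

/-- The base of a morphism of trivial objects with the trivial element. -/
theorem smulPt_one_comp {T T' : Over S} (x' : T' ⟶ X) (f : T ⟶ T') :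
    smulPt aX 1 (f ≫ x') = f ≫ x' := smulPt_one aX _


/-- The trivialisation of an object by its own torsor. -/
theorem exists_tautHom (A : AlgSt.QuotObj K G aX) : ∃ n : triv K aX A.φ ⟶ A, n.base = A.π := by
  obtain ⟨n, hn, -⟩ := exists_hom_of_point A (𝟙 A.P) A.π (Category.id_comp _) A.φ (Category.id_comp _)
  exact ⟨n, hn⟩

/-- Morphisms from trivial objects factor through the trivialisation by the torsor. -/
theorem exists_fac_taut {A : AlgSt.QuotObj K G aX} (n : triv K aX A.φ ⟶ A) (hn : n.base = A.π) {T : Over S}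
    {y : T ⟶ X} (m : triv K aX y ⟶ A) :
    ∃ (k : triv K aX y ⟶ triv K aX A.φ), k ≫ n = m ∧ k.base ≫ A.π = m.base := by
  have hb : (unitSec T ≫ m.top : T ⟶ A.P) ≫ n.base = m.base := by
    rw [hn, Category.assoc]
    exact unitSec_top_π m
  obtain ⟨k, ⟨hk, hkm⟩, -⟩ := Stk19b.Quot.existsUnique_fac n m _ hb
  exact ⟨k, hkm, by rw [hk, Category.assoc]; exact unitSec_top_π m⟩

end Groth.Agent.TameGood19
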